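import Mathlib

/-!
# Separation lemmas for tensor products over a basis (helper4)
-/

set_option autoImplicit false

universe u v w w'

open scoped TensorProduct

namespace Groth.Agent.Lib.helper4

variable {k : Type u} [CommRing k] {M : Type v} [AddCommGroup M] [Module k M]
  {N : Type w} [AddCommGroup N] [Module k N] {N' : Type w'} [AddCommGroup N'] [Module k N']

theorem h4_lid_rTensor_lTensor (c : M →ₗ[k] k) (f : N →ₗ[k] N') (y : M ⊗[k] N) :
    f (TensorProduct.lid k N (c.rTensor N y)) =
      TensorProduct.lid k N' (c.rTensor N' (f.lTensor M y)) := by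
  induction y using TensorProduct.induction_on with
  | zero => simp
  | tmul m n => simp
  | add y z ihy ihz => simp only [map_add, ihy, ihz]

theorem h4_tensor_eq_zero_of_coord {ι : Type*} (ℬ : Module.Basis ι k M) (y : M ⊗[k] N)
    (h : ∀ i, TensorProduct.lid k N ((ℬ.coord i).rTensor N y) = 0) : y = 0 := by
  classical
  apply (TensorProduct.equivFinsuppOfBasisLeft ℬ).injective
  rw [map_zero]
  ext i
  rw [TensorProduct.equivFinsuppOfBasisLeft_apply, h i]
  rfl

/-- separation: if all `N → N'` in a family `F` that jointly separate points of `N` kill `y`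
after tensoring with a free module `M`, then `y = 0`. -/
theorem h4_tensor_eq_zero_of_forall_lTensor [Module.Free k M]
    (F : Set (N →ₗ[k] N')) (hF : ∀ n : N, (∀ f ∈ F, f n = 0) → n = 0) (y : M ⊗[k] N)
    (h : ∀ f ∈ F, f.lTensor M y = 0) : y = 0 := by
  obtain ⟨⟨ι, ℬ⟩⟩ := Module.Free.exists_basis (R := k) (M := M)
  apply h4_tensor_eq_zero_of_coord ℬ
  intro i
  apply hF
  intro f hf
  rw [h4_lid_rTensor_lTensor, h f hf, map_zero, map_zero]

end Groth.Agent.Lib.helper4
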