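import Groth.Prelude.Def_HopfRep
import Groth.Prelude.Def_Hoch
import Mathlib
import Groth.Agent.Lib.helper4.TensorSep

/-!
# Comodules over a coalgebra over a field: the action of linear functionals (helper4)
-/

set_option autoImplicit false

universe u v w

open scoped TensorProduct

namespace Groth.Agent.Lib.helper4

section General

variable {k : Type u} [CommRing k] {C : Type v} [AddCommGroup C] [Module k C]

theorem h4_lTensor_rTensor_comm {V₁ V₂ : Type w} [AddCommGroup V₁] [Module k V₁]
    [AddCommGroup V₂] [Module k V₂] {N : Type*} [AddCommGroup N] [Module k N]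
    (g : C →ₗ[k] N) (φ : V₁ →ₗ[k] V₂) (y : V₁ ⊗[k] C) :
    LinearMap.lTensor V₂ g (φ.rTensor C y) = φ.rTensor N (LinearMap.lTensor V₁ g y) := by
  induction y using TensorProduct.induction_on with
  | zero => simp
  | tmul m a => simp
  | add y z ihy ihz => simp only [map_add, ihy, ihz]

theorem h4_rid_rTensor {V₁ V₂ : Type w} [AddCommGroup V₁] [Module k V₁]
    [AddCommGroup V₂] [Module k V₂] (φ : V₁ →ₗ[k] V₂) (x : V₁ ⊗[k] k) :
    (TensorProduct.rid k V₂) (φ.rTensor k x) = φ ((TensorProduct.rid k V₁) x) := by
  induction x using TensorProduct.induction_on with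
  | zero => simp
  | tmul m a => simp
  | add y z ihy ihz => simp only [map_add, ihy, ihz]

end General

section Coalg

variable {k : Type u} [CommRing k] {C : Type v} [AddCommGroup C] [Module k C] [Coalgebra k C]
variable {V : Type w} [AddCommGroup V] [Module k V] [HopfRep.Comod k C V]

/-- the action of a linear functional on a comodule -/
noncomputable def h4T (φ : C →ₗ[k] k) : V →ₗ[k] V :=
  (TensorProduct.rid k V).toLinearMap ∘ₗ φ.lTensor V ∘ₗ HopfRep.Comod.coact (k := k) (A := C)

theorem h4T_apply (φ : C →ₗ[k] k) (u : V) :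
    h4T φ u = (TensorProduct.rid k V) (φ.lTensor V (HopfRep.Comod.coact (k := k) (A := C) u)) := rfl

/-- convolution of functionals -/
noncomputable def h4conv (ψ φ : C →ₗ[k] k) : C →ₗ[k] k :=
  (TensorProduct.lid k k).toLinearMap ∘ₗ TensorProduct.map ψ φ ∘ₗ
    CoalgebraStruct.comul (R := k) (A := C)

theorem h4T_counit (u : V) : h4T (CoalgebraStruct.counit (R := k) (A := C)) u = u := by
  have h := LinearMap.congr_fun (HopfRep.Comod.counit_comp (k := k) (A := C) (V := V)) u
  simp only [LinearMap.comp_apply] at h
  rw [h4T_apply, h]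
  simp

theorem h4T_comp (ψ φ : C →ₗ[k] k) (u : V) : h4T ψ (h4T φ u) = h4T (h4conv ψ φ) u := by
  -- ρ ∘ E_φ = E'_φ ∘ (ρ ⊗ id)
  have h1 : ∀ y : V ⊗[k] C,
      HopfRep.Comod.coact (k := k) (A := C) ((TensorProduct.rid k V) (φ.lTensor V y)) =
        (TensorProduct.rid k (V ⊗[k] C)) (φ.lTensor (V ⊗[k] C)
          ((HopfRep.Comod.coact (k := k) (A := C) (V := V)).rTensor C y)) := by
    intro y
    induction y using TensorProduct.induction_on with
    | zero => simp
    | tmul m a => simp
    | add y z ihy ihz => simp only [map_add, ihy, ihz]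
  have h2 : ∀ (m : V) (x : C ⊗[k] C),
      (TensorProduct.rid k V) (ψ.lTensor V ((TensorProduct.rid k (V ⊗[k] C))
        (φ.lTensor (V ⊗[k] C) ((TensorProduct.assoc k V C C).symm (m ⊗ₜ[k] x))))) =
      ((TensorProduct.lid k k) (TensorProduct.map ψ φ x)) • m := by
    intro m x
    induction x using TensorProduct.induction_on with
    | zero => simp
    | tmul c c' =>
      simp only [TensorProduct.assoc_symm_tmul, LinearMap.lTensor_tmul, TensorProduct.rid_tmul,
        map_smul, TensorProduct.map_tmul, TensorProduct.lid_tmul, smul_eq_mul]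
      rw [smul_smul, mul_comm]
    | add x y ihx ihy =>
      simp only [TensorProduct.tmul_add, map_add, ihx, ihy, add_smul]
  have h3 : ∀ y : V ⊗[k] C,
      (TensorProduct.rid k V) (ψ.lTensor V ((TensorProduct.rid k (V ⊗[k] C))
        (φ.lTensor (V ⊗[k] C) ((TensorProduct.assoc k V C C).symm
          ((CoalgebraStruct.comul (R := k) (A := C)).lTensor V y))))) =
      (TensorProduct.rid k V) ((h4conv ψ φ).lTensor V y) := by
    intro y
    induction y using TensorProduct.induction_on with
    | zero => simp
    | tmul m c =>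
      rw [LinearMap.lTensor_tmul, h2, LinearMap.lTensor_tmul, TensorProduct.rid_tmul]
      rfl
    | add y z ihy ihz => simp only [map_add, ihy, ihz]
  have hco := LinearMap.congr_fun (HopfRep.Comod.coassoc (k := k) (A := C) (V := V)) u
  simp only [LinearMap.comp_apply, LinearEquiv.coe_coe] at hco
  rw [h4T_apply, h4T_apply, h1, h4T_apply, ← h3, ← hco, LinearEquiv.symm_apply_apply]

theorem h4T_comodHom {V' : Type w} [AddCommGroup V'] [Module k V'] [HopfRep.Comod k C V']
    (f : V →ₗ[k] V') (hf : Hoch.IsComodHom C f) (φ : C →ₗ[k] k) (u : V) :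
    f (h4T φ u) = h4T φ (f u) := by
  have h := LinearMap.congr_fun hf u
  simp only [LinearMap.comp_apply] at h
  rw [h4T_apply, h4T_apply, h, h4_lTensor_rTensor_comm, h4_rid_rTensor]

end Coalg

section Field

variable {k : Type u} [Field k] {C : Type v} [AddCommGroup C] [Module k C] [Coalgebra k C]
variable {V : Type w} [AddCommGroup V] [Module k V] [HopfRep.Comod k C V]

theorem h4_isSubcomod_iff (W : Submodule k V) :
    HopfRep.IsSubcomod (k := k) (A := C) W ↔ ∀ (φ : C →ₗ[k] k), ∀ w ∈ W, h4T φ w ∈ W := by
  constructor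
  · intro hW φ w hw
    obtain ⟨z, hz⟩ := hW w hw
    rw [h4T_apply, ← hz, h4_lTensor_rTensor_comm, h4_rid_rTensor]
    exact Submodule.coe_mem _
  · intro h w hw
    have hex := rTensor_exact C (LinearMap.exact_subtype_mkQ W) (Submodule.mkQ_surjective W)
    rw [LinearMap.mem_range]
    refine (hex _).1 ?_
    apply h4_tensor_eq_zero_of_forall_lTensor (N' := k) (Set.univ : Set (C →ₗ[k] k))
    · intro a ha
      exact (Module.forall_dual_apply_eq_zero_iff k a).1 (fun φ => ha φ (Set.mem_univ _))
    · intro φ _
      rw [h4_lTensor_rTensor_comm]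
      apply (TensorProduct.rid k (V ⧸ W)).injective
      rw [h4_rid_rTensor, map_zero]
      exact (Submodule.Quotient.mk_eq_zero W).2 (h φ w hw)

/-- every vector lies in a finite-dimensional subcomodule -/
theorem h4_exists_finite_subcomod (v : V) :
    ∃ W : Submodule k V, Module.Finite k W ∧ v ∈ W ∧ HopfRep.IsSubcomod (k := k) (A := C) W := by
  classical
  refine ⟨Submodule.span k (Set.range fun φ : C →ₗ[k] k => h4T φ v), ?_, ?_, ?_⟩
  · obtain ⟨S, hS⟩ := TensorProduct.exists_finset (HopfRep.Comod.coact (k := k) (A := C) v)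
    have hle : Submodule.span k (Set.range fun φ : C →ₗ[k] k => h4T φ v) ≤
        Submodule.span k ((S.image Prod.fst : Finset V) : Set V) := by
      rw [Submodule.span_le]
      rintro _ ⟨φ, rfl⟩
      show h4T φ v ∈ _
      rw [h4T_apply, hS, map_sum, map_sum]
      apply Submodule.sum_mem
      intro i hi
      rw [LinearMap.lTensor_tmul, TensorProduct.rid_tmul]
      apply Submodule.smul_mem
      apply Submodule.subset_span
      exact Finset.mem_coe.2 (Finset.mem_image_of_mem _ hi)
    have : FiniteDimensional k (Submodule.span k ((S.image Prod.fst : Finset V) : Set V)) :=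
      FiniteDimensional.span_finset k _
    exact Submodule.finiteDimensional_of_le hle
  · apply Submodule.subset_span
    exact ⟨CoalgebraStruct.counit (R := k) (A := C), h4T_counit v⟩
  · rw [h4_isSubcomod_iff]
    intro ψ w hw
    have : Submodule.map (h4T ψ) (Submodule.span k (Set.range fun φ : C →ₗ[k] k => h4T φ v)) ≤
        Submodule.span k (Set.range fun φ : C →ₗ[k] k => h4T φ v) := by
      rw [Submodule.map_span_le]
      rintro _ ⟨φ, rfl⟩
      apply Submodule.subset_span
      exact ⟨h4conv ψ φ, (h4T_comp ψ φ v).symm⟩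
    exact this ⟨w, hw, rfl⟩

end Field

end Groth.Agent.Lib.helper4
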