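import Mathlib
import Groth.Prelude.Def_HTop2
import Groth.Agent.Lib.helper7.UH
import Groth.Agent.Lib.helper7.UH2

set_option autoImplicit false
universe u
open CategoryTheory AlgebraicGeometry

namespace Groth.Agent.Lib.helper4

open Groth.Agent.Lib.helper7

/-- ring-level universal homeomorphism -/
def RUH {R S : Type u} [CommRing R] [CommRing S] (φ : R →+* S) : Prop :=
  φ.IsIntegral ∧ Function.Surjective (PrimeSpectrum.comap φ) ∧
    ∀ (K : Type u) [Field K] (σ₁ σ₂ : S →+* K), σ₁.comp φ = σ₂.comp φ → σ₁ = σ₂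

/-- ring-level "trivial residue field extensions" -/
def RRes {R S : Type u} [CommRing R] [CommRing S] (φ : R →+* S) : Prop :=
  ∀ (y : PrimeSpectrum S) (b : S), ∃ a s : R, φ s ∉ y.asIdeal ∧ φ s * b - φ a ∈ y.asIdeal

section Res

variable {R S : Type u} [CommRing R] [CommRing S]

theorem uhr_iff (φ : R →+* S) :
    FlatMor.IsUnivHomeo (Spec.map (CommRingCat.ofHom φ)) ↔ RUH φ := uh_iff_ring φ

/-- every element of a residue field is a fraction -/
theorem uhr_frac (q : Ideal S) [q.IsPrime] (z : q.ResidueField) :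
    ∃ b c : S, c ∉ q ∧ z * algebraMap S q.ResidueField c = algebraMap S q.ResidueField b := by
  obtain ⟨⟨x, y, hy⟩, h⟩ := IsLocalization.surj (nonZeroDivisors (S ⧸ q)) z
  obtain ⟨b, rfl⟩ := Ideal.Quotient.mk_surjective x
  obtain ⟨c, rfl⟩ := Ideal.Quotient.mk_surjective y
  refine ⟨b, c, ?_, ?_⟩
  · intro hc
    have h0 : (Ideal.Quotient.mk q c) = 0 := Ideal.Quotient.eq_zero_iff_mem.mpr hc
    exact nonZeroDivisors.ne_zero hy h0
  · exact h

theorem uhr_mem_iff (φ : R →+* S) (y : PrimeSpectrum S) (b : S) :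
    algebraMap S y.asIdeal.ResidueField b ∈
      (Ideal.ResidueField.map (PrimeSpectrum.comap φ y).asIdeal y.asIdeal φ rfl).fieldRange ↔
      ∃ a s : R, φ s ∉ y.asIdeal ∧ φ s * b - φ a ∈ y.asIdeal := by
  have hm : ∀ r : R, (Ideal.ResidueField.map (PrimeSpectrum.comap φ y).asIdeal y.asIdeal φ rfl)
      (algebraMap R _ r) = algebraMap S _ (φ r) :=
    fun r => Ideal.ResidueField.map_algebraMap _ _ φ rfl r
  constructor
  · rintro ⟨z, hz⟩
    obtain ⟨a, s, hs, hzs⟩ := uhr_frac (PrimeSpectrum.comap φ y).asIdeal z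
    refine ⟨a, s, fun h => hs h, ?_⟩
    have h1 := congrArg
      (Ideal.ResidueField.map (PrimeSpectrum.comap φ y).asIdeal y.asIdeal φ rfl) hzs
    rw [map_mul, hm, hm, hz] at h1
    rw [← Ideal.algebraMap_residueField_eq_zero, map_sub, map_mul, mul_comm, h1, sub_self]
  · rintro ⟨a, s, hs, hsa⟩
    have e₁ : algebraMap S y.asIdeal.ResidueField (φ s) * algebraMap S y.asIdeal.ResidueField b =
        algebraMap S y.asIdeal.ResidueField (φ a) := by
      have h0 := (Ideal.algebraMap_residueField_eq_zero (I := y.asIdeal)).mpr hsa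
      rw [map_sub, map_mul, sub_eq_zero] at h0
      exact h0
    have n₁ : algebraMap S y.asIdeal.ResidueField (φ s) ≠ 0 :=
      fun h0 => hs (Ideal.algebraMap_residueField_eq_zero.mp h0)
    refine ⟨algebraMap R _ a / algebraMap R _ s, ?_⟩
    rw [map_div₀, hm, hm, ← e₁, mul_div_cancel_left₀ _ n₁]

theorem uhr_surj_iff (φ : R →+* S) (y : PrimeSpectrum S) :
    Function.Surjective
      (Ideal.ResidueField.map (PrimeSpectrum.comap φ y).asIdeal y.asIdeal φ rfl) ↔
      ∀ b : S, ∃ a s : R, φ s ∉ y.asIdeal ∧ φ s * b - φ a ∈ y.asIdeal := by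
  constructor
  · intro h b
    rw [← uhr_mem_iff]
    obtain ⟨z, hz⟩ := h (algebraMap S y.asIdeal.ResidueField b)
    exact ⟨z, hz⟩
  · intro h z
    haveI := y.isPrime
    obtain ⟨b, c, hc, hz⟩ := uhr_frac y.asIdeal z
    have hb := (uhr_mem_iff φ y b).mpr (h b)
    have hc' := (uhr_mem_iff φ y c).mpr (h c)
    have nc : algebraMap S y.asIdeal.ResidueField c ≠ 0 :=
      fun h0 => hc (Ideal.algebraMap_residueField_eq_zero.mp h0)
    have hz' : z = algebraMap S _ b / algebraMap S _ c := by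
      rw [eq_div_iff nc]; exact hz
    have h1 : z ∈ (Ideal.ResidueField.map (PrimeSpectrum.comap φ y).asIdeal y.asIdeal φ
        rfl).fieldRange := by
      rw [hz']
      exact div_mem hb hc'
    obtain ⟨w, hw⟩ := h1
    exact ⟨w, hw⟩

theorem uhr_resSurj_iff (φ : R →+* S) :
    (∀ x : Spec (CommRingCat.of S),
      Function.Surjective ((Spec.map (CommRingCat.ofHom φ)).residueFieldMap x)) ↔ RRes φ := by
  constructor
  · intro h y b
    obtain ⟨e₁, e₂, hc⟩ := uh_resmap φ y
    have h1 := h y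
    have h2 : Function.Surjective
        (Ideal.ResidueField.map (PrimeSpectrum.comap φ y).asIdeal y.asIdeal φ rfl) := by
      intro z
      obtain ⟨w, hw⟩ := h1 (e₂.symm z)
      refine ⟨e₁ w, ?_⟩
      rw [← hc]
      have hw' : ((Spec.map (CommRingCat.ofHom φ)).residueFieldMap y).hom w = e₂.symm z := hw
      rw [hw', RingEquiv.apply_symm_apply]
    exact (uhr_surj_iff φ y).mp h2 b
  · intro h x
    obtain ⟨e₁, e₂, hc⟩ := uh_resmap φ x
    have h2 := (uhr_surj_iff φ x).mpr (h x)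
    intro z
    obtain ⟨w, hw⟩ := h2 (e₂ z)
    refine ⟨e₁.symm w, ?_⟩
    apply e₂.injective
    show e₂ (((Spec.map (CommRingCat.ofHom φ)).residueFieldMap x).hom (e₁.symm w)) = e₂ z
    rw [hc, RingEquiv.apply_symm_apply, hw]

theorem uhr_comap_surj (φ : R →+* S) (hint : φ.IsIntegral)
    (hker : RingHom.ker φ ≤ nilradical R) : Function.Surjective (PrimeSpectrum.comap φ) := by
  intro p
  letI := φ.toAlgebra
  haveI : Algebra.IsIntegral R S := ⟨hint⟩
  haveI := p.isPrime
  obtain ⟨Q, -, hQ, hQ'⟩ := Ideal.exists_ideal_over_prime_of_isIntegral p.asIdeal (⊥ : Ideal S) (by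
    intro a ha
    have h1 : a ∈ RingHom.ker φ := by
      rw [RingHom.mem_ker]; exact (Ideal.mem_bot.mp (Ideal.mem_comap.mp ha))
    exact nilradical_le_prime p.asIdeal (hker h1))
  exact ⟨⟨Q, hQ⟩, PrimeSpectrum.ext hQ'⟩

/-- a universal homeomorphism is bijective on spectra and purely inseparable on residue fields
(element form) -/
theorem uhr_bij (φ : R →+* S) (h : RUH φ) : Function.Bijective (PrimeSpectrum.comap φ) :=
  (uh_to_ring φ ((uhr_iff φ).mpr h)).2.1

end Res

section Sub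

variable {A B : Type u} [CommRing A] [CommRing B] [Algebra A B]

theorem uhr_sub_int (B' : Subalgebra A B) (h : (algebraMap A B).IsIntegral) :
    (algebraMap A B').IsIntegral := by
  intro e
  exact (isIntegral_algHom_iff B'.val Subtype.val_injective).mp (h (e : B))

theorem uhr_val_int (B' : Subalgebra A B) (h : (algebraMap A B).IsIntegral) :
    (B'.val : B' →+* B).IsIntegral := by
  have h1 : ((B'.val : B' →+* B).comp (algebraMap A B')).IsIntegral := by
    rw [AlgHom.comp_algebraMap B'.val]; exact h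
  exact RingHom.IsIntegral.tower_top _ _ h1

theorem uhr_val_surj (B' : Subalgebra A B) (h : (algebraMap A B).IsIntegral) :
    Function.Surjective (PrimeSpectrum.comap (B'.val : B' →+* B)) :=
  (uhr_val_int B' h).comap_surjective Subtype.val_injective

/-- field points on a subalgebra of an integral algebra -/
theorem uhr_sub_pts (B' : Subalgebra A B) (h1 : (algebraMap A B).IsIntegral)
    (h3 : ∀ (K : Type u) [Field K] (σ₁ σ₂ : B →+* K),
      σ₁.comp (algebraMap A B) = σ₂.comp (algebraMap A B) → σ₁ = σ₂) :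
    ∀ (K : Type u) [Field K] (σ₁ σ₂ : B' →+* K),
      σ₁.comp (algebraMap A B') = σ₂.comp (algebraMap A B') → σ₁ = σ₂ := by
  have hcomp : (B'.val : B' →+* B).comp (algebraMap A B') = algebraMap A B :=
    AlgHom.comp_algebraMap B'.val
  intro K _ σ₁ σ₂ hσ
  obtain ⟨s₁, hs₁⟩ := uh_extend_hom (B'.val : B' →+* B) (uhr_val_int B' h1) (uhr_val_surj B' h1)
    ((algebraMap K (AlgebraicClosure K)).comp σ₁)
  obtain ⟨s₂, hs₂⟩ := uh_extend_hom (B'.val : B' →+* B) (uhr_val_int B' h1) (uhr_val_surj B' h1)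
    ((algebraMap K (AlgebraicClosure K)).comp σ₂)
  have hs12 : s₁.comp (algebraMap A B) = s₂.comp (algebraMap A B) := by
    rw [← hcomp, ← RingHom.comp_assoc, ← RingHom.comp_assoc, hs₁, hs₂, RingHom.comp_assoc,
      RingHom.comp_assoc, hσ]
  have h4 := h3 (AlgebraicClosure K) s₁ s₂ hs12
  ext e
  apply (algebraMap K (AlgebraicClosure K)).injective
  have h5 : s₁ (e : B) = (algebraMap K (AlgebraicClosure K)) (σ₁ e) :=
    congrFun (congrArg DFunLike.coe hs₁) e
  have h6 : s₂ (e : B) = (algebraMap K (AlgebraicClosure K)) (σ₂ e) :=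
    congrFun (congrArg DFunLike.coe hs₂) e
  rw [← h5, ← h6, h4]

theorem uhr_sub_surj (B' : Subalgebra A B)
    (h2 : Function.Surjective (PrimeSpectrum.comap (algebraMap A B))) :
    Function.Surjective (PrimeSpectrum.comap (algebraMap A B')) := by
  intro p
  obtain ⟨q, hq⟩ := h2 p
  refine ⟨PrimeSpectrum.comap (B'.val : B' →+* B) q, ?_⟩
  rw [← hq]
  apply PrimeSpectrum.ext
  ext a
  exact Iff.rfl

theorem uhr_sub_ruh (B' : Subalgebra A B) (h : RUH (algebraMap A B)) :
    RUH (algebraMap A B') :=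
  ⟨uhr_sub_int B' h.1, uhr_sub_surj B' h.2.1, uhr_sub_pts B' h.1 h.2.2⟩

theorem uhr_sub_res (B' : Subalgebra A B) (hint : (algebraMap A B).IsIntegral)
    (h : RRes (algebraMap A B)) : RRes (algebraMap A B') := by
  intro y b
  obtain ⟨q, hq⟩ := uhr_val_surj B' hint y
  obtain ⟨a, s, hs, hsa⟩ := h q (b : B)
  refine ⟨a, s, ?_, ?_⟩
  · intro hc
    apply hs
    rw [← hq] at hc
    exact hc
  · rw [← hq]
    exact hsa

/-- the inclusion of a subalgebra is a universal homeomorphism when the big algebra is -/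
theorem uhr_val_ruh (B' : Subalgebra A B) (h : RUH (algebraMap A B)) :
    RUH (B'.val : B' →+* B) := by
  have hcomp : (B'.val : B' →+* B).comp (algebraMap A B') = algebraMap A B :=
    AlgHom.comp_algebraMap B'.val
  refine ⟨uhr_val_int B' h.1, uhr_val_surj B' h.1, ?_⟩
  intro K _ σ₁ σ₂ hσ
  apply h.2.2 K σ₁ σ₂
  rw [← hcomp, ← RingHom.comp_assoc, ← RingHom.comp_assoc, hσ]

theorem uhr_val_res (B' : Subalgebra A B) (h : RRes (algebraMap A B)) :
    RRes (B'.val : B' →+* B) := by
  intro y b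
  obtain ⟨a, s, hs, hsa⟩ := h y b
  exact ⟨algebraMap A B' a, algebraMap A B' s, hs, hsa⟩

end Sub

section Closed

variable {A B : Type u} [CommRing A] [CommRing B] [Algebra A B]

/-- the equalizer of two ring maps to a field agreeing on `A`, as a subalgebra -/
def uhr_eqSub {K : Type u} [Field K] (σ₁ σ₂ : B →+* K)
    (h : σ₁.comp (algebraMap A B) = σ₂.comp (algebraMap A B)) : Subalgebra A B where
  carrier := {b | σ₁ b = σ₂ b}
  mul_mem' := by
    intro a b ha hb
    have ha' : σ₁ a = σ₂ a := ha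
    have hb' : σ₁ b = σ₂ b := hb
    show σ₁ (a * b) = σ₂ (a * b)
    rw [map_mul, map_mul, ha', hb']
  one_mem' := by
    show σ₁ 1 = σ₂ 1
    rw [map_one, map_one]
  add_mem' := by
    intro a b ha hb
    have ha' : σ₁ a = σ₂ a := ha
    have hb' : σ₁ b = σ₂ b := hb
    show σ₁ (a + b) = σ₂ (a + b)
    rw [map_add, map_add, ha', hb']
  zero_mem' := by
    show σ₁ 0 = σ₂ 0
    rw [map_zero, map_zero]
  algebraMap_mem' := fun a => congrFun (congrArg DFunLike.coe h) a

theorem uhr_mem_eqSub {K : Type u} [Field K] (σ₁ σ₂ : B →+* K)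
    (h : σ₁.comp (algebraMap A B) = σ₂.comp (algebraMap A B)) (b : B) :
    b ∈ uhr_eqSub σ₁ σ₂ h ↔ σ₁ b = σ₂ b := Iff.rfl

/-- the image of the residue field below -/
noncomputable def uhr_resField (A : Type u) {B : Type u} [CommRing A] [CommRing B] [Algebra A B]
    (y : PrimeSpectrum B) : Subfield y.asIdeal.ResidueField :=
  (Ideal.ResidueField.map (PrimeSpectrum.comap (algebraMap A B) y).asIdeal y.asIdeal
      (algebraMap A B) rfl).fieldRange

/-- the elements whose residue class at `y` comes from the residue field below -/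
def uhr_resSub (y : PrimeSpectrum B) : Subalgebra A B where
  carrier := {b | algebraMap B y.asIdeal.ResidueField b ∈ uhr_resField A y}
  mul_mem' := by
    intro a b ha hb
    show algebraMap B y.asIdeal.ResidueField (a * b) ∈ uhr_resField A y
    rw [map_mul]
    exact mul_mem ha hb
  one_mem' := by
    show algebraMap B y.asIdeal.ResidueField 1 ∈ uhr_resField A y
    rw [map_one]
    exact one_mem _
  add_mem' := by
    intro a b ha hb
    show algebraMap B y.asIdeal.ResidueField (a + b) ∈ uhr_resField A y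
    rw [map_add]
    exact add_mem ha hb
  zero_mem' := by
    show algebraMap B y.asIdeal.ResidueField 0 ∈ uhr_resField A y
    rw [map_zero]
    exact zero_mem _
  algebraMap_mem' := by
    intro a
    show algebraMap B y.asIdeal.ResidueField (algebraMap A B a) ∈ uhr_resField A y
    exact ⟨algebraMap A _ a, Ideal.ResidueField.map_algebraMap _ _ _ rfl a⟩

theorem uhr_mem_resField (y : PrimeSpectrum B) (x : y.asIdeal.ResidueField) :
    x ∈ uhr_resField A y ↔
      ∃ z, (Ideal.ResidueField.map (PrimeSpectrum.comap (algebraMap A B) y).asIdeal y.asIdeal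
        (algebraMap A B) rfl) z = x := Iff.rfl

theorem uhr_mem_resSub' (y : PrimeSpectrum B) (b : B) :
    b ∈ (uhr_resSub y : Subalgebra A B) ↔
      algebraMap B y.asIdeal.ResidueField b ∈ uhr_resField A y := Iff.rfl

theorem uhr_mem_resSub (y : PrimeSpectrum B) (b : B) :
    b ∈ (uhr_resSub y : Subalgebra A B) ↔
      ∃ a s : A, algebraMap A B s ∉ y.asIdeal ∧
        algebraMap A B s * b - algebraMap A B a ∈ y.asIdeal :=
  uhr_mem_iff (algebraMap A B) y b

/-- in a field, `x² , x³` in a subfield force `x` in the subfield -/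
theorem uhr_field_sqcube {K : Type u} [Field K] (k : Subfield K) (x : K) (h2 : x ^ 2 ∈ k)
    (h3 : x ^ 3 ∈ k) : x ∈ k := by
  by_cases hx : x = 0
  · rw [hx]; exact zero_mem k
  · have h4 : x = x ^ 3 / x ^ 2 := by
      field_simp
    rw [h4]
    exact div_mem h3 h2

/-- in a field, `u² = v²` and `u³ = v³` force `u = v` -/
theorem uhr_field_eq {K : Type u} [Field K] (u v : K) (h2 : u ^ 2 = v ^ 2) (h3 : u ^ 3 = v ^ 3) :
    u = v := by
  by_cases hv : v = 0
  · rw [hv] at h2 ⊢
    have : u ^ 2 = 0 := by rw [h2]; ring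
    exact pow_eq_zero_iff (two_ne_zero) |>.mp this
  · have hv2 : v ^ 2 ≠ 0 := pow_ne_zero 2 hv
    have hu2 : u ^ 2 ≠ 0 := by rw [h2]; exact hv2
    have e1 : u = u ^ 3 / u ^ 2 := by
      have hu : u ≠ 0 := fun h => hu2 (by rw [h]; ring)
      field_simp
    have e2 : v = v ^ 3 / v ^ 2 := by
      field_simp
    rw [e1, e2, h2, h3]

/-- in a field, `p u = p v` and `u^p = v^p` force `u = v` -/
theorem uhr_field_eq_p {K : Type u} [Field K] (p : ℕ) (hp : p.Prime) (u v : K)
    (h1 : (p : K) * u = (p : K) * v) (h2 : u ^ p = v ^ p) : u = v := by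
  by_cases hp0 : (p : K) = 0
  · haveI : CharP K p := (CharP.charP_iff_prime_eq_zero hp).mpr hp0
    haveI : Fact p.Prime := ⟨hp⟩
    exact frobenius_inj K p h2
  · exact mul_left_cancel₀ hp0 h1

theorem uhr_eqSub_closed {K : Type u} [Field K] (σ₁ σ₂ : B →+* K)
    (h : σ₁.comp (algebraMap A B) = σ₂.comp (algebraMap A B)) (b : B)
    (h2 : b ^ 2 ∈ uhr_eqSub σ₁ σ₂ h) (h3 : b ^ 3 ∈ uhr_eqSub σ₁ σ₂ h) :
    b ∈ uhr_eqSub σ₁ σ₂ h := by
  have h2' : σ₁ (b ^ 2) = σ₂ (b ^ 2) := h2
  have h3' : σ₁ (b ^ 3) = σ₂ (b ^ 3) := h3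
  rw [map_pow, map_pow] at h2' h3'
  exact uhr_field_eq _ _ h2' h3'

theorem uhr_eqSub_closed_p {K : Type u} [Field K] (σ₁ σ₂ : B →+* K)
    (h : σ₁.comp (algebraMap A B) = σ₂.comp (algebraMap A B)) (p : ℕ) (hp : p.Prime) (b : B)
    (h1 : (p : B) * b ∈ uhr_eqSub σ₁ σ₂ h) (h2 : b ^ p ∈ uhr_eqSub σ₁ σ₂ h) :
    b ∈ uhr_eqSub σ₁ σ₂ h := by
  have h1' : σ₁ ((p : B) * b) = σ₂ ((p : B) * b) := h1
  have h2' : σ₁ (b ^ p) = σ₂ (b ^ p) := h2
  rw [map_pow, map_pow] at h2'
  rw [map_mul, map_mul, map_natCast, map_natCast] at h1'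
  exact uhr_field_eq_p p hp _ _ h1' h2'

theorem uhr_resSub_closed (y : PrimeSpectrum B) (b : B)
    (h2 : b ^ 2 ∈ (uhr_resSub y : Subalgebra A B)) (h3 : b ^ 3 ∈ (uhr_resSub y : Subalgebra A B)) :
    b ∈ (uhr_resSub y : Subalgebra A B) := by
  have h2' : algebraMap B y.asIdeal.ResidueField (b ^ 2) ∈ uhr_resField A y := h2
  have h3' : algebraMap B y.asIdeal.ResidueField (b ^ 3) ∈ uhr_resField A y := h3
  rw [map_pow] at h2' h3'
  exact uhr_field_sqcube (uhr_resField A y) _ h2' h3'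

theorem uhr_intClosure_closed (b : B) (n : ℕ) (hn : 0 < n) (h : b ^ n ∈ integralClosure A B) :
    b ∈ integralClosure A B :=
  IsIntegral.of_pow hn h

/-- generation principle: a subalgebra of `B'` containing generators of `B'` is everything -/
theorem uhr_gen_top (𝒞 : Set (Subalgebra A B)) (B' : Subalgebra A B) (hle : B' ≤ sSup 𝒞)
    (hC : ∀ C ∈ 𝒞, C ≤ B') (T : Subalgebra A B')
    (h : ∀ C (hCm : C ∈ 𝒞) (c : B) (hc : c ∈ C), (⟨c, hC C hCm hc⟩ : B') ∈ T) :
    ∀ b : B', b ∈ T := by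
  have h1 : sSup 𝒞 ≤ T.map B'.val := by
    apply sSup_le
    intro C hCm c hc
    exact Subalgebra.mem_map.mpr ⟨⟨c, hC C hCm hc⟩, h C hCm c hc, rfl⟩
  intro b
  obtain ⟨t, ht, hbt⟩ := Subalgebra.mem_map.mp (h1 (hle b.2))
  have : t = b := Subtype.ext hbt
  rw [← this]; exact ht

end Closed

end Groth.Agent.Lib.helper4
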