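import Mathlib
import Groth.Agent.Lib.helper4.UHR1

set_option autoImplicit false
universe u
open CategoryTheory AlgebraicGeometry

namespace Groth.Agent.Lib.helper4

open Groth.Agent.Lib.helper7

section Core

variable {A B : Type u} [CommRing A] [CommRing B] [Algebra A B]

/-- the conductor of `A → B` as an ideal of `B` -/
def uhr_cond (A B : Type u) [CommRing A] [CommRing B] [Algebra A B] : Ideal B where
  carrier := {b | ∀ c : B, b * c ∈ (algebraMap A B).range}
  add_mem' := by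
    intro x y hx hy c
    rw [add_mul]
    exact Subring.add_mem _ (hx c) (hy c)
  zero_mem' := by
    intro c
    rw [zero_mul]
    exact Subring.zero_mem _
  smul_mem' := by
    intro r x hx c
    rw [smul_eq_mul, mul_comm r x, mul_assoc]
    exact hx (r * c)

theorem uhr_cond_le (b : B) (hb : b ∈ uhr_cond A B) : b ∈ (algebraMap A B).range := by
  have h := hb 1
  rwa [mul_one] at h

theorem uhr_down
    (H : ∀ b : B, b ^ 2 ∈ (algebraMap A B).range → b ^ 3 ∈ (algebraMap A B).range →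
      b ∈ (algebraMap A B).range) (g : B) :
    ∀ N : ℕ, (∀ m, N + 1 ≤ m → g ^ m ∈ (algebraMap A B).range) →
      g ∈ (algebraMap A B).range := by
  intro N
  induction N with
  | zero =>
    intro h
    have h1 := h 1 le_rfl
    rwa [pow_one] at h1
  | succ N ih =>
    intro h
    apply ih
    intro m hm
    rcases Nat.eq_or_lt_of_le hm with h1 | h1
    · rw [← h1]
      apply H
      · rw [← pow_mul]; exact h _ (by omega)
      · rw [← pow_mul]; exact h _ (by omega)
    · exact h m h1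

theorem uhr_core (hfin : Module.Finite A B) (hns : ¬ Function.Surjective (algebraMap A B))
    (hinjS : Function.Injective (PrimeSpectrum.comap (algebraMap A B)))
    (hsurS : Function.Surjective (PrimeSpectrum.comap (algebraMap A B)))
    (H : ∀ b : B, b ^ 2 ∈ (algebraMap A B).range → b ^ 3 ∈ (algebraMap A B).range →
      b ∈ (algebraMap A B).range) :
    ∃ (q : PrimeSpectrum B),
      (∀ f ∈ q.asIdeal, ∃ s : A, algebraMap A B s ∉ q.asIdeal ∧
        algebraMap A B s * f ∈ (algebraMap A B).range) ∧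
      ¬ (∀ b : B, ∃ s : A, algebraMap A B s ∉ q.asIdeal ∧
        algebraMap A B s * b ∈ (algebraMap A B).range) := by
  classical
  have h1 : (1 : B) ∉ uhr_cond A B := by
    intro h
    apply hns
    intro c
    have h2 := h c
    rw [one_mul] at h2
    exact h2
  have hne : (uhr_cond A B).comap (algebraMap A B) ≠ ⊤ := by
    intro h
    apply h1
    have h2 : (1 : A) ∈ (uhr_cond A B).comap (algebraMap A B) := by rw [h]; trivial
    have h3 := Ideal.mem_comap.mp h2
    rwa [map_one] at h3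
  obtain ⟨⟨p, hp⟩⟩ := Ideal.nonempty_minimalPrimes hne
  haveI hpp : p.IsPrime := hp.1.1
  obtain ⟨q, hq⟩ := hsurS ⟨p, hpp⟩
  have hqp : ∀ a : A, algebraMap A B a ∈ q.asIdeal ↔ a ∈ p := by
    intro a
    have h2 : (PrimeSpectrum.comap (algebraMap A B) q).asIdeal = p := by rw [hq]
    rw [← h2]; rfl
  refine ⟨q, ?_, ?_⟩
  · intro f hf
    have c1 : ∃ s : A, s ∉ p ∧ ∃ n : ℕ, algebraMap A B s * f ^ n ∈ uhr_cond A B := by
      by_contra hcon
      push Not at hcon
      obtain ⟨T, hT⟩ : ∃ T : Submonoid B,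
          T = (Submonoid.map (algebraMap A B) p.primeCompl) ⊔ Submonoid.powers f := ⟨_, rfl⟩
      have hdis : Disjoint ((uhr_cond A B : Ideal B) : Set B) (T : Set B) := by
        rw [Set.disjoint_left]
        intro x hxI hxT
        rw [SetLike.mem_coe, hT] at hxT
        obtain ⟨y', hy', z', hz', hyz⟩ := Submonoid.mem_sup.mp hxT
        obtain ⟨s, hs, rfl⟩ := Submonoid.mem_map.mp hy'
        obtain ⟨n, rfl⟩ := (Submonoid.mem_powers_iff _ _).mp hz'
        exact hcon s hs n (by rw [hyz]; exact hxI)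
      obtain ⟨q', hq'prime, hq'le, hq'dis⟩ :=
        Ideal.exists_le_prime_disjoint (uhr_cond A B) T hdis
      haveI := hq'prime
      have hp'le : q'.comap (algebraMap A B) ≤ p := by
        intro a ha
        by_contra hap
        have h3 : algebraMap A B a ∈ T := by
          rw [hT]
          exact Submonoid.mem_sup_left (Submonoid.mem_map.mpr ⟨a, hap, rfl⟩)
        exact Set.disjoint_left.mp hq'dis (Ideal.mem_comap.mp ha) h3
      have hp'ge : p ≤ q'.comap (algebraMap A B) :=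
        hp.2 ⟨inferInstance, Ideal.comap_mono hq'le⟩ hp'le
      have hpe : q'.comap (algebraMap A B) = p := le_antisymm hp'le hp'ge
      have hqq : (⟨q', hq'prime⟩ : PrimeSpectrum B) = q := by
        apply hinjS
        rw [hq]
        exact PrimeSpectrum.ext hpe
      have h4 : f ∈ q' := by
        have h5 := congrArg PrimeSpectrum.asIdeal hqq
        have h6 : q' = q.asIdeal := h5
        rw [h6]; exact hf
      have h5 : f ∈ T := by
        rw [hT]
        exact Submonoid.mem_sup_right (Submonoid.mem_powers f)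
      exact Set.disjoint_left.mp hq'dis h4 h5
    obtain ⟨s, hs, n, hsn⟩ := c1
    refine ⟨s, fun h => hs ((hqp s).mp h), ?_⟩
    apply uhr_down H (algebraMap A B s * f) n
    intro m hm
    obtain ⟨k, rfl⟩ := Nat.exists_eq_add_of_le hm
    apply uhr_cond_le
    have e : (algebraMap A B s * f) ^ (n + 1 + k) =
        (algebraMap A B s * f ^ n) * ((algebraMap A B s) ^ (n + k) * f ^ (1 + k)) := by ring
    rw [e]
    exact Ideal.mul_mem_right _ _ hsn
  · intro hall
    have key : ∀ N : Submodule A B, N.FG →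
        ∃ s : A, s ∉ p ∧ ∀ b ∈ N, algebraMap A B s * b ∈ (algebraMap A B).range := by
      intro N hN
      refine Submodule.fg_induction (motive := fun N _ => ∃ s : A, s ∉ p ∧
        ∀ b ∈ N, algebraMap A B s * b ∈ (algebraMap A B).range) ?_ ?_ N hN
      · intro x
        obtain ⟨s, hs, hsx⟩ := hall x
        refine ⟨s, fun h => hs ((hqp s).mpr h), ?_⟩
        intro b hb
        obtain ⟨a, rfl⟩ := Submodule.mem_span_singleton.mp hb
        rw [Algebra.smul_def, ← mul_assoc, mul_comm (algebraMap A B s), mul_assoc]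
        exact Subring.mul_mem _ ⟨a, rfl⟩ hsx
      · rintro M₁ M₂ - - ⟨s₁, hs₁, h₁⟩ ⟨s₂, hs₂, h₂⟩
        refine ⟨s₁ * s₂, ?_, ?_⟩
        · intro h
          rcases hpp.mem_or_mem h with h | h
          · exact hs₁ h
          · exact hs₂ h
        · intro b hb
          obtain ⟨b₁, hb₁, b₂, hb₂, rfl⟩ := Submodule.mem_sup.mp hb
          rw [map_mul, mul_add]
          apply Subring.add_mem
          · have e : algebraMap A B s₁ * algebraMap A B s₂ * b₁ =
                algebraMap A B s₂ * (algebraMap A B s₁ * b₁) := by ring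
            rw [e]; exact Subring.mul_mem _ ⟨s₂, rfl⟩ (h₁ b₁ hb₁)
          · rw [mul_assoc]; exact Subring.mul_mem _ ⟨s₁, rfl⟩ (h₂ b₂ hb₂)
    obtain ⟨s, hs, hsall⟩ := key ⊤ hfin.fg_top
    apply hs
    apply hp.1.2
    show algebraMap A B s ∈ uhr_cond A B
    intro c
    exact hsall c Submodule.mem_top

/-- common step: from (*) and a residue representation get a multiple in the range -/
theorem uhr_step (q : PrimeSpectrum B)
    (hq1 : ∀ f ∈ q.asIdeal, ∃ s : A, algebraMap A B s ∉ q.asIdeal ∧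
        algebraMap A B s * f ∈ (algebraMap A B).range) (b : B)
    (hb : b ∈ (uhr_resSub q : Subalgebra A B)) :
    ∃ s : A, algebraMap A B s ∉ q.asIdeal ∧ algebraMap A B s * b ∈ (algebraMap A B).range := by
  obtain ⟨a, s₁, hs₁, hsa⟩ := (uhr_mem_resSub q b).mp hb
  obtain ⟨s₂, hs₂, h2⟩ := hq1 _ hsa
  refine ⟨s₂ * s₁, ?_, ?_⟩
  · rw [map_mul]
    intro h
    rcases q.isPrime.mem_or_mem h with h | h
    · exact hs₂ h
    · exact hs₁ h
  · have e : algebraMap A B (s₂ * s₁) * b =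
        algebraMap A B s₂ * (algebraMap A B s₁ * b - algebraMap A B a) +
          algebraMap A B (s₂ * a) := by
      rw [map_mul, map_mul]; ring
    rw [e]
    exact Subring.add_mem _ h2 ⟨_, rfl⟩

theorem uhr_sqcube_fin (hfin : Module.Finite A B)
    (hns : ¬ Function.Surjective (algebraMap A B))
    (hU : RUH (algebraMap A B)) (hR : RRes (algebraMap A B)) :
    ∃ b : B, b ∉ (algebraMap A B).range ∧ b ^ 2 ∈ (algebraMap A B).range ∧
      b ^ 3 ∈ (algebraMap A B).range := by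
  by_contra hcon
  have H : ∀ b : B, b ^ 2 ∈ (algebraMap A B).range → b ^ 3 ∈ (algebraMap A B).range →
      b ∈ (algebraMap A B).range := by
    intro b h2 h3
    by_contra hb
    exact hcon ⟨b, hb, h2, h3⟩
  have hbij := uhr_bij _ hU
  obtain ⟨q, hq1, hq2⟩ := uhr_core hfin hns hbij.1 hbij.2 H
  apply hq2
  intro b
  exact uhr_step q hq1 b ((uhr_mem_resSub q b).mpr (hR q b))

theorem uhr_sqcube_or_p_fin (hfin : Module.Finite A B)
    (hns : ¬ Function.Surjective (algebraMap A B))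
    (hU : RUH (algebraMap A B)) :
    (∃ b : B, b ∉ (algebraMap A B).range ∧ b ^ 2 ∈ (algebraMap A B).range ∧
      b ^ 3 ∈ (algebraMap A B).range) ∨
    ∃ (ℓ : ℕ) (b : B), ℓ.Prime ∧ b ∉ (algebraMap A B).range ∧
      (ℓ : B) * b ∈ (algebraMap A B).range ∧ b ^ ℓ ∈ (algebraMap A B).range := by
  classical
  by_cases hcon : ∃ b : B, b ∉ (algebraMap A B).range ∧ b ^ 2 ∈ (algebraMap A B).range ∧
      b ^ 3 ∈ (algebraMap A B).range
  · exact Or.inl hcon
  right
  have H : ∀ b : B, b ^ 2 ∈ (algebraMap A B).range → b ^ 3 ∈ (algebraMap A B).range →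
      b ∈ (algebraMap A B).range := by
    intro b h2 h3
    by_contra hb
    exact hcon ⟨b, hb, h2, h3⟩
  have hbij := uhr_bij _ hU
  obtain ⟨q, hq1, hq2⟩ := uhr_core hfin hns hbij.1 hbij.2 H
  have hb₁ : ∃ b₁ : B, b₁ ∉ (uhr_resSub q : Subalgebra A B) := by
    by_contra hall
    push Not at hall
    apply hq2
    intro b
    exact uhr_step q hq1 b (hall b)
  obtain ⟨b₁, hb₁⟩ := hb₁
  obtain ⟨-, -, hpi⟩ := uh_to_ring (algebraMap A B) ((uhr_iff _).mpr hU)
  have hpiq := hpi q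
  obtain ⟨ℓ, hℓ⟩ : ∃ ℓ, ℓ = ringExpChar
    ((PrimeSpectrum.comap (algebraMap A B) q).asIdeal.ResidueField) := ⟨_, rfl⟩
  rw [← hℓ] at hpiq
  have hpow : ∀ b : B, ∃ n : ℕ, b ^ ℓ ^ n ∈ (uhr_resSub q : Subalgebra A B) := by
    intro b
    obtain ⟨n, z, hz⟩ := hpiq (algebraMap B _ b)
    refine ⟨n, ?_⟩
    rw [uhr_mem_resSub', map_pow, uhr_mem_resField]
    exact ⟨z, hz⟩
  have hℓcases : ℓ = 1 ∨ (ℓ.Prime ∧
      ((ℓ : ℕ) : (PrimeSpectrum.comap (algebraMap A B) q).asIdeal.ResidueField) = 0) := by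
    obtain ⟨q', hq'⟩ := ExpChar.exists
      ((PrimeSpectrum.comap (algebraMap A B) q).asIdeal.ResidueField)
    have hq'' : ringExpChar ((PrimeSpectrum.comap (algebraMap A B) q).asIdeal.ResidueField) = q' :=
      ringExpChar.eq _ q'
    rcases hq' with _ | ⟨hprime⟩
    · left; rw [hℓ]; exact hq''
    · right
      rw [hℓ, hq'']
      exact ⟨hprime, CharP.cast_eq_zero _ q'⟩
  have hℓ1 : ℓ ≠ 1 := by
    intro h1
    obtain ⟨n, hn⟩ := hpow b₁
    rw [h1, one_pow, pow_one] at hn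
    exact hb₁ hn
  obtain ⟨hℓp, hℓ0⟩ := hℓcases.resolve_left hℓ1
  have hℓq : ((ℓ : ℕ) : B) ∈ q.asIdeal := by
    have h2 : ((ℓ : ℕ) : A) ∈ (PrimeSpectrum.comap (algebraMap A B) q).asIdeal := by
      rw [← Ideal.algebraMap_residueField_eq_zero, map_natCast]
      exact hℓ0
    have h3 : algebraMap A B ((ℓ : ℕ) : A) ∈ q.asIdeal := h2
    rwa [map_natCast] at h3
  obtain ⟨n, hn, hmin⟩ : ∃ n, b₁ ^ ℓ ^ n ∈ (uhr_resSub q : Subalgebra A B) ∧
      ∀ m < n, b₁ ^ ℓ ^ m ∉ (uhr_resSub q : Subalgebra A B) :=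
    ⟨Nat.find (hpow b₁), Nat.find_spec (hpow b₁), fun m hm => Nat.find_min (hpow b₁) hm⟩
  have hn0 : n ≠ 0 := by
    intro h0
    rw [h0, pow_zero, pow_one] at hn
    exact hb₁ hn
  obtain ⟨m, rfl⟩ := Nat.exists_eq_succ_of_ne_zero hn0
  have hm' := hmin m (Nat.lt_succ_self m)
  obtain ⟨b, hb⟩ : ∃ b, b = b₁ ^ ℓ ^ m := ⟨_, rfl⟩
  rw [← hb] at hm'
  have hbℓ : b ^ ℓ ∈ (uhr_resSub q : Subalgebra A B) := by
    rw [hb, ← pow_mul, ← pow_succ]; exact hn
  have hℓbq : (ℓ : B) * b ∈ q.asIdeal := Ideal.mul_mem_right _ _ hℓq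
  obtain ⟨s₁, hs₁, h1⟩ := hq1 _ hℓbq
  obtain ⟨s₂, hs₂, h2⟩ := uhr_step q hq1 _ hbℓ
  obtain ⟨t, ht⟩ : ∃ t, t = s₁ * s₂ := ⟨_, rfl⟩
  have htq : algebraMap A B t ∉ q.asIdeal := by
    rw [ht, map_mul]
    intro h
    rcases q.isPrime.mem_or_mem h with h | h
    · exact hs₁ h
    · exact hs₂ h
  refine ⟨ℓ, algebraMap A B t * b, hℓp, ?_, ?_, ?_⟩
  · rintro ⟨a', ha'⟩
    apply hm'
    rw [uhr_mem_resSub]
    refine ⟨a', t, htq, ?_⟩
    rw [ha', sub_self]; exact Ideal.zero_mem _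
  · have e : (ℓ : B) * (algebraMap A B t * b) =
        algebraMap A B s₂ * (algebraMap A B s₁ * ((ℓ : B) * b)) := by
      rw [ht, map_mul]; ring
    rw [e]; exact Subring.mul_mem _ ⟨_, rfl⟩ h1
  · obtain ⟨k, hk⟩ := Nat.exists_eq_succ_of_ne_zero hℓp.pos.ne'
    have e : (algebraMap A B t * b) ^ ℓ =
        algebraMap A B (t ^ k * s₁) * (algebraMap A B s₂ * b ^ ℓ) := by
      have e1 : t ^ ℓ = t ^ k * s₁ * s₂ := by
        rw [hk, pow_succ, ht]; ring
      rw [mul_pow, ← map_pow, e1, map_mul, map_mul]; ring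
    rw [e]; exact Subring.mul_mem _ ⟨_, rfl⟩ h2

end Core

section General

variable {A B : Type u} [CommRing A] [CommRing B]

theorem uhr_sqcube (φ : A →+* B) (hns : ¬ Function.Surjective φ) (hU : RUH φ) (hR : RRes φ) :
    ∃ b : B, b ∉ φ.range ∧ b ^ 2 ∈ φ.range ∧ b ^ 3 ∈ φ.range := by
  letI := φ.toAlgebra
  have hex : ∃ b₀ : B, b₀ ∉ φ.range := by
    by_contra h
    push Not at h
    exact hns (fun b => h b)
  obtain ⟨b₀, hb₀⟩ := hex
  have hint : IsIntegral A b₀ := hU.1 b₀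
  haveI hfin : Module.Finite A (Algebra.adjoin A {b₀}) :=
    Algebra.finite_adjoin_simple_of_isIntegral hint
  have hns' : ¬ Function.Surjective (algebraMap A (Algebra.adjoin A {b₀})) := by
    intro h
    obtain ⟨a, ha⟩ := h ⟨b₀, Algebra.subset_adjoin (Set.mem_singleton b₀)⟩
    apply hb₀
    exact ⟨a, congrArg Subtype.val ha⟩
  obtain ⟨b, hb, h2, h3⟩ := uhr_sqcube_fin hfin hns'
    (uhr_sub_ruh (Algebra.adjoin A {b₀}) hU) (uhr_sub_res (Algebra.adjoin A {b₀}) hU.1 hR)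
  refine ⟨(b : B), ?_, ?_, ?_⟩
  · rintro ⟨a, ha⟩
    exact hb ⟨a, Subtype.ext ha⟩
  · obtain ⟨a, ha⟩ := h2
    exact ⟨a, congrArg Subtype.val ha⟩
  · obtain ⟨a, ha⟩ := h3
    exact ⟨a, congrArg Subtype.val ha⟩

theorem uhr_sqcube_or_p (φ : A →+* B) (hns : ¬ Function.Surjective φ) (hU : RUH φ) :
    (∃ b : B, b ∉ φ.range ∧ b ^ 2 ∈ φ.range ∧ b ^ 3 ∈ φ.range) ∨
    ∃ (ℓ : ℕ) (b : B), ℓ.Prime ∧ b ∉ φ.range ∧ (ℓ : B) * b ∈ φ.range ∧ b ^ ℓ ∈ φ.range := by
  letI := φ.toAlgebra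
  have hex : ∃ b₀ : B, b₀ ∉ φ.range := by
    by_contra h
    push Not at h
    exact hns (fun b => h b)
  obtain ⟨b₀, hb₀⟩ := hex
  have hint : IsIntegral A b₀ := hU.1 b₀
  haveI hfin : Module.Finite A (Algebra.adjoin A {b₀}) :=
    Algebra.finite_adjoin_simple_of_isIntegral hint
  have hns' : ¬ Function.Surjective (algebraMap A (Algebra.adjoin A {b₀})) := by
    intro h
    obtain ⟨a, ha⟩ := h ⟨b₀, Algebra.subset_adjoin (Set.mem_singleton b₀)⟩
    apply hb₀
    exact ⟨a, congrArg Subtype.val ha⟩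
  rcases uhr_sqcube_or_p_fin hfin hns' (uhr_sub_ruh (Algebra.adjoin A {b₀}) hU) with
    ⟨b, hb, h2, h3⟩ | ⟨ℓ, b, hℓ, hb, h2, h3⟩
  · left
    refine ⟨(b : B), ?_, ?_, ?_⟩
    · rintro ⟨a, ha⟩
      exact hb ⟨a, Subtype.ext ha⟩
    · obtain ⟨a, ha⟩ := h2
      exact ⟨a, congrArg Subtype.val ha⟩
    · obtain ⟨a, ha⟩ := h3
      exact ⟨a, congrArg Subtype.val ha⟩
  · right
    refine ⟨ℓ, (b : B), hℓ, ?_, ?_, ?_⟩
    · rintro ⟨a, ha⟩
      exact hb ⟨a, Subtype.ext ha⟩
    · obtain ⟨a, ha⟩ := h2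
      refine ⟨a, ?_⟩
      have h4 := congrArg Subtype.val ha
      exact h4.trans (by simp)
    · obtain ⟨a, ha⟩ := h3
      exact ⟨a, congrArg Subtype.val ha⟩

end General

end Groth.Agent.Lib.helper4
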