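import Mathlib
import Groth.Agent.Lib.helper4.UHR2

set_option autoImplicit false
universe u
open CategoryTheory AlgebraicGeometry

namespace Groth.Agent.Lib.helper4

open Groth.Agent.Lib.helper7

section Tower

variable {A B : Type u} [CommRing A] [CommRing B] [Algebra A B]

/-- towers in the form of the statements -/
def TowerStmt (P : Subalgebra A B → B → Prop) (l : List B) : Prop :=
  ∀ i : Fin l.length,
    P (Algebra.adjoin A {b : B | ∃ j : Fin l.length, j < i ∧ b = l.get j}) (l.get i)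

/-- towers built by adding one element at the end -/
inductive Tower (P : Subalgebra A B → B → Prop) : List B → Prop
  | nil : Tower P []
  | snoc (l : List B) (b : B) : Tower P l → P (Algebra.adjoin A {x | x ∈ l}) b →
      Tower P (l ++ [b])

theorem tower_stmt {P : Subalgebra A B → B → Prop}
    (hP : ∀ (S T : Subalgebra A B) (b : B), S ≤ T → P S b → P T b) {l : List B}
    (h : Tower P l) : TowerStmt P l := by
  induction h with
  | nil => intro i; exact i.elim0
  | snoc l b hl hb ih =>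
    intro i
    by_cases hi : i.val < l.length
    · have e : (l ++ [b]).get i = l.get ⟨i.val, hi⟩ := by
        rw [List.get_eq_getElem, List.get_eq_getElem, List.getElem_append_left hi]
      rw [e]
      refine hP _ _ _ ?_ (ih ⟨i.val, hi⟩)
      apply Algebra.adjoin_mono
      rintro x ⟨j, hj, rfl⟩
      have hjl : j.val < (l ++ [b]).length := by
        rw [List.length_append]; exact Nat.lt_add_right _ j.isLt
      refine ⟨⟨j.val, hjl⟩, hj, ?_⟩
      rw [List.get_eq_getElem, List.get_eq_getElem, List.getElem_append_left j.isLt]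
    · have hlen : i.val < l.length + 1 := by
        have h1 := i.isLt
        have e0 : (l ++ [b]).length = l.length + 1 := by simp
        omega
      have hi' : l.length ≤ i.val := Nat.le_of_not_lt hi
      have e : (l ++ [b]).get i = b := by
        rw [List.get_eq_getElem, List.getElem_append_right hi', List.getElem_singleton]
      rw [e]
      refine hP _ _ _ ?_ hb
      apply Algebra.adjoin_mono
      intro x hx
      obtain ⟨n, hn, rfl⟩ := List.getElem_of_mem hx
      have hnl : n < (l ++ [b]).length := by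
        rw [List.length_append]; exact Nat.lt_add_right _ hn
      refine ⟨⟨n, hnl⟩, ?_, ?_⟩
      · show n < i.val
        omega
      · rw [List.get_eq_getElem, List.getElem_append_left hn]

theorem tower_append {P : Subalgebra A B → B → Prop}
    (hP : ∀ (S T : Subalgebra A B) (b : B), S ≤ T → P S b → P T b) {l₁ l₂ : List B}
    (h₁ : Tower P l₁) (h₂ : Tower P l₂) : Tower P (l₁ ++ l₂) := by
  induction h₂ with
  | nil => rw [List.append_nil]; exact h₁
  | snoc l b hl hb ih =>
    rw [← List.append_assoc]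
    refine Tower.snoc _ b ih (hP _ _ b ?_ hb)
    exact Algebra.adjoin_mono (fun x hx => List.mem_append_right l₁ hx)

theorem tower_stmt_le {P : Subalgebra A B → B → Prop} {C : Subalgebra A B}
    (hC : ∀ (S : Subalgebra A B) (b : B), S ≤ C → P S b → b ∈ C) {l : List B}
    (h : TowerStmt P l) : Algebra.adjoin A {x | x ∈ l} ≤ C := by
  have key : ∀ n : ℕ, ∀ i : Fin l.length, i.val = n → l.get i ∈ C := by
    intro n
    induction n using Nat.strong_induction_on with
    | _ n ih =>
      intro i hi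
      refine hC _ _ ?_ (h i)
      apply Algebra.adjoin_le
      rintro x ⟨j, hj, rfl⟩
      exact ih j.val (by rw [← hi]; exact hj) j rfl
  apply Algebra.adjoin_le
  intro x hx
  obtain ⟨i, rfl⟩ := List.get_of_mem hx
  exact key i.val i rfl

/-- the union of all towers -/
def towerSub (P : Subalgebra A B → B → Prop)
    (hP : ∀ (S T : Subalgebra A B) (b : B), S ≤ T → P S b → P T b) : Subalgebra A B where
  carrier := {b | ∃ l, Tower P l ∧ b ∈ Algebra.adjoin A {x | x ∈ l}}
  mul_mem' := by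
    rintro a b ⟨l₁, h₁, ha⟩ ⟨l₂, h₂, hb⟩
    refine ⟨l₁ ++ l₂, tower_append hP h₁ h₂, ?_⟩
    apply Subalgebra.mul_mem
    · exact Algebra.adjoin_mono (fun x hx => List.mem_append_left l₂ hx) ha
    · exact Algebra.adjoin_mono (fun x hx => List.mem_append_right l₁ hx) hb
  add_mem' := by
    rintro a b ⟨l₁, h₁, ha⟩ ⟨l₂, h₂, hb⟩
    refine ⟨l₁ ++ l₂, tower_append hP h₁ h₂, ?_⟩
    apply Subalgebra.add_mem
    · exact Algebra.adjoin_mono (fun x hx => List.mem_append_left l₂ hx) ha
    · exact Algebra.adjoin_mono (fun x hx => List.mem_append_right l₁ hx) hb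
  algebraMap_mem' := fun a => ⟨[], Tower.nil, Subalgebra.algebraMap_mem _ a⟩

theorem mem_towerSub {P : Subalgebra A B → B → Prop}
    (hP : ∀ (S T : Subalgebra A B) (b : B), S ≤ T → P S b → P T b) (b : B) :
    b ∈ towerSub P hP ↔ ∃ l, Tower P l ∧ b ∈ Algebra.adjoin A {x | x ∈ l} := Iff.rfl

theorem tower_finset {P : Subalgebra A B → B → Prop}
    (hP : ∀ (S T : Subalgebra A B) (b : B), S ≤ T → P S b → P T b) (E : Finset B)
    (hE : ∀ e ∈ E, e ∈ towerSub P hP) :
    ∃ l, Tower P l ∧ (↑E : Set B) ⊆ Algebra.adjoin A {x | x ∈ l} := by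
  classical
  induction E using Finset.induction_on with
  | empty => exact ⟨[], Tower.nil, by simp⟩
  | insert e E he ih =>
    obtain ⟨l₁, h₁, hl₁⟩ := ih (fun x hx => hE x (Finset.mem_insert_of_mem hx))
    obtain ⟨l₂, h₂, hl₂⟩ := hE e (Finset.mem_insert_self e E)
    refine ⟨l₁ ++ l₂, tower_append hP h₁ h₂, ?_⟩
    intro x hx
    rw [Finset.coe_insert] at hx
    rcases hx with rfl | hx
    · exact Algebra.adjoin_mono (fun x hx => List.mem_append_right l₁ hx) hl₂
    · exact Algebra.adjoin_mono (fun x hx => List.mem_append_left l₂ hx) (hl₁ hx)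

theorem tower_top {P : Subalgebra A B → B → Prop}
    (hP : ∀ (S T : Subalgebra A B) (b : B), S ≤ T → P S b → P T b)
    (hstep : ∀ B' : Subalgebra A B, B' ≠ ⊤ → ∃ b, b ∉ B' ∧ ∃ E : Finset B,
      (∀ e ∈ E, e ∈ B') ∧ ∀ S : Subalgebra A B, (↑E : Set B) ⊆ S → P S b) :
    towerSub P hP = ⊤ := by
  by_contra h
  obtain ⟨b, hb, E, hE, hPE⟩ := hstep _ h
  obtain ⟨l, hl, hEl⟩ := tower_finset hP E hE
  apply hb
  refine ⟨l ++ [b], Tower.snoc l b hl (hPE _ hEl), ?_⟩
  exact Algebra.subset_adjoin (List.mem_append_right l (List.mem_singleton_self b))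

theorem tower_exists {P : Subalgebra A B → B → Prop}
    (hP : ∀ (S T : Subalgebra A B) (b : B), S ≤ T → P S b → P T b)
    (htop : towerSub P hP = ⊤) (E : Finset B) :
    ∃ l : List B, (↑E : Set B) ⊆ Algebra.adjoin A {b : B | b ∈ l} ∧ TowerStmt P l := by
  obtain ⟨l, hl, hEl⟩ := tower_finset hP E (fun e _ => by rw [htop]; exact Algebra.mem_top)
  exact ⟨l, hEl, tower_stmt hP hl⟩

theorem val_not_surj (B' : Subalgebra A B) (h : B' ≠ ⊤) :
    ¬ Function.Surjective (B'.val : B' →+* B) := by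
  intro hs
  apply h
  rw [Algebra.eq_top_iff]
  intro b
  obtain ⟨x, rfl⟩ := hs b
  exact x.2

theorem mem_of_mem_range_val (B' : Subalgebra A B) (b : B)
    (h : b ∈ (B'.val : B' →+* B).range) : b ∈ B' := by
  obtain ⟨x, rfl⟩ := h
  exact x.2

theorem not_mem_of_not_mem_range_val (B' : Subalgebra A B) (b : B)
    (h : b ∉ (B'.val : B' →+* B).range) : b ∉ B' :=
  fun hb => h ⟨⟨b, hb⟩, rfl⟩

theorem uhr_tower_sn (hinj : Function.Injective (algebraMap A B)) :
    (RUH (algebraMap A B) ∧ RRes (algebraMap A B)) ↔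
    ∀ E : Finset B, ∃ l : List B, (↑E : Set B) ⊆ Algebra.adjoin A {b : B | b ∈ l} ∧
      TowerStmt (fun (S : Subalgebra A B) (b : B) => b ^ 2 ∈ S ∧ b ^ 3 ∈ S) l := by
  have hP : ∀ (S T : Subalgebra A B) (b : B), S ≤ T →
      (b ^ 2 ∈ S ∧ b ^ 3 ∈ S) → (b ^ 2 ∈ T ∧ b ^ 3 ∈ T) :=
    fun S T b hST h => ⟨hST h.1, hST h.2⟩
  constructor
  · rintro ⟨hU, hR⟩
    apply tower_exists hP
    apply tower_top hP
    intro B' hB'
    obtain ⟨b, hb, h2, h3⟩ := uhr_sqcube (B'.val : B' →+* B) (val_not_surj B' hB')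
      (uhr_val_ruh B' hU) (uhr_val_res B' hR)
    classical
    refine ⟨b, not_mem_of_not_mem_range_val B' b hb, {b ^ 2, b ^ 3}, ?_, ?_⟩
    · intro e he
      rw [Finset.mem_insert, Finset.mem_singleton] at he
      rcases he with rfl | rfl
      · exact mem_of_mem_range_val B' _ h2
      · exact mem_of_mem_range_val B' _ h3
    · intro S hS
      exact ⟨hS (by simp), hS (by simp)⟩
  · intro h
    have hall : ∀ C : Subalgebra A B,
        (∀ (S : Subalgebra A B) (b : B), S ≤ C → (b ^ 2 ∈ S ∧ b ^ 3 ∈ S) → b ∈ C) →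
        ∀ b : B, b ∈ C := by
      intro C hC b
      obtain ⟨l, hEl, hl⟩ := h {b}
      exact tower_stmt_le hC hl (hEl (by simp))
    have hint : (algebraMap A B).IsIntegral := by
      intro b
      exact hall (integralClosure A B)
        (fun S b hS hb => IsIntegral.of_pow (n := 2) two_pos (hS hb.1)) b
    refine ⟨⟨hint, hint.comap_surjective hinj, ?_⟩, ?_⟩
    · intro K _ σ₁ σ₂ hσ
      ext b
      exact hall (uhr_eqSub σ₁ σ₂ hσ)
        (fun S b hS hb => uhr_eqSub_closed σ₁ σ₂ hσ b (hS hb.1) (hS hb.2)) b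
    · intro y b
      rw [← uhr_mem_resSub]
      exact hall (uhr_resSub y)
        (fun S b hS hb => uhr_resSub_closed y b (hS hb.1) (hS hb.2)) b

theorem uhr_tower_awn (hinj : Function.Injective (algebraMap A B)) :
    RUH (algebraMap A B) ↔
    ∀ E : Finset B, ∃ l : List B, (↑E : Set B) ⊆ Algebra.adjoin A {b : B | b ∈ l} ∧
      TowerStmt (fun (S : Subalgebra A B) (b : B) => (b ^ 2 ∈ S ∧ b ^ 3 ∈ S) ∨
        ∃ p : ℕ, p.Prime ∧ (p : B) * b ∈ S ∧ b ^ p ∈ S) l := by
  have hP : ∀ (S T : Subalgebra A B) (b : B), S ≤ T →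
      ((b ^ 2 ∈ S ∧ b ^ 3 ∈ S) ∨ ∃ p : ℕ, p.Prime ∧ (p : B) * b ∈ S ∧ b ^ p ∈ S) →
      ((b ^ 2 ∈ T ∧ b ^ 3 ∈ T) ∨ ∃ p : ℕ, p.Prime ∧ (p : B) * b ∈ T ∧ b ^ p ∈ T) := by
    rintro S T b hST (h | ⟨p, hp, h1, h2⟩)
    · exact Or.inl ⟨hST h.1, hST h.2⟩
    · exact Or.inr ⟨p, hp, hST h1, hST h2⟩
  constructor
  · intro hU
    apply tower_exists hP
    apply tower_top hP
    intro B' hB'
    classical
    rcases uhr_sqcube_or_p (B'.val : B' →+* B) (val_not_surj B' hB') (uhr_val_ruh B' hU) with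
      ⟨b, hb, h2, h3⟩ | ⟨p, b, hp, hb, h2, h3⟩
    · refine ⟨b, not_mem_of_not_mem_range_val B' b hb, {b ^ 2, b ^ 3}, ?_, ?_⟩
      · intro e he
        rw [Finset.mem_insert, Finset.mem_singleton] at he
        rcases he with rfl | rfl
        · exact mem_of_mem_range_val B' _ h2
        · exact mem_of_mem_range_val B' _ h3
      · intro S hS
        exact Or.inl ⟨hS (by simp), hS (by simp)⟩
    · refine ⟨b, not_mem_of_not_mem_range_val B' b hb, {(p : B) * b, b ^ p}, ?_, ?_⟩
      · intro e he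
        rw [Finset.mem_insert, Finset.mem_singleton] at he
        rcases he with rfl | rfl
        · exact mem_of_mem_range_val B' _ h2
        · exact mem_of_mem_range_val B' _ h3
      · intro S hS
        exact Or.inr ⟨p, hp, hS (by simp), hS (by simp)⟩
  · intro h
    have hall : ∀ C : Subalgebra A B,
        (∀ (S : Subalgebra A B) (b : B), S ≤ C →
          ((b ^ 2 ∈ S ∧ b ^ 3 ∈ S) ∨ ∃ p : ℕ, p.Prime ∧ (p : B) * b ∈ S ∧ b ^ p ∈ S) → b ∈ C) →
        ∀ b : B, b ∈ C := by
      intro C hC b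
      obtain ⟨l, hEl, hl⟩ := h {b}
      exact tower_stmt_le hC hl (hEl (by simp))
    have hint : (algebraMap A B).IsIntegral := by
      intro b
      refine hall (integralClosure A B) ?_ b
      rintro S b hS (hb | ⟨p, hp, -, hb⟩)
      · exact IsIntegral.of_pow (n := 2) two_pos (hS hb.1)
      · exact IsIntegral.of_pow (n := p) hp.pos (hS hb)
    refine ⟨hint, hint.comap_surjective hinj, ?_⟩
    intro K _ σ₁ σ₂ hσ
    ext b
    refine hall (uhr_eqSub σ₁ σ₂ hσ) ?_ b
    rintro S b hS (hb | ⟨p, hp, hb1, hb2⟩)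
    · exact uhr_eqSub_closed σ₁ σ₂ hσ b (hS hb.1) (hS hb.2)
    · exact uhr_eqSub_closed_p σ₁ σ₂ hσ p hp b (hS hb1) (hS hb2)

end Tower

end Groth.Agent.Lib.helper4
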