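import Mathlib
import Groth.Agent.Lib.helper4.UHR3

set_option autoImplicit false
universe u
open CategoryTheory AlgebraicGeometry

namespace Groth.Agent.Lib.helper4

open Groth.Agent.Lib.helper7

section Misc

variable {R S : Type u} [CommRing R] [CommRing S]

theorem uhr_uc_iff (φ : R →+* S) :
    UniversallyClosed (Spec.map (CommRingCat.ofHom φ)) ↔ φ.IsIntegral := by
  constructor
  · intro h
    exact IsIntegralHom.SpecMap_iff.mp
      (IsIntegralHom.iff_universallyClosed_and_isAffineHom.mpr ⟨h, inferInstance⟩)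
  · intro h
    haveI : IsIntegralHom (Spec.map (CommRingCat.ofHom φ)) := IsIntegralHom.SpecMap_iff.mpr h
    infer_instance

theorem uhr_dominant_ker (φ : R →+* S) [h : IsDominant (Spec.map (CommRingCat.ofHom φ))] :
    RingHom.ker φ ≤ nilradical R :=
  (PrimeSpectrum.denseRange_comap_iff_ker_le_nilRadical (f := φ)).mp h.denseRange

theorem uhr_surj_of_lifts (φ : R →+* S)
    (h : ∀ p : PrimeSpectrum R, ∃ (K : Type u) (_ : Field K) (ψ : R →+* K) (σ : S →+* K),
      RingHom.ker ψ = p.asIdeal ∧ σ.comp φ = ψ) :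
    Function.Surjective (PrimeSpectrum.comap φ) := by
  intro p
  obtain ⟨K, _, ψ, σ, hψ, hσ⟩ := h p
  refine ⟨⟨RingHom.ker σ, RingHom.ker_isPrime σ⟩, ?_⟩
  apply PrimeSpectrum.ext
  show (RingHom.ker σ).comap φ = p.asIdeal
  rw [← hψ, ← hσ, RingHom.comap_ker]

end Misc

section SurjAlg

variable {A C D : Type u} [CommRing A] [CommRing C] [CommRing D] [Algebra A C] [Algebra A D]

theorem uhr_surjAlg_ruh (f : C →ₐ[A] D) (hf : Function.Surjective f)
    (hker : RingHom.ker (algebraMap A D) ≤ nilradical A) (h : RUH (algebraMap A C)) :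
    RUH (algebraMap A D) := by
  have hint : (algebraMap A D).IsIntegral := by
    intro d
    obtain ⟨c, rfl⟩ := hf d
    exact IsIntegral.map f (h.1 c)
  refine ⟨hint, uhr_comap_surj _ hint hker, ?_⟩
  intro K _ σ₁ σ₂ hσ
  have h1 := h.2.2 K (σ₁.comp (f : C →+* D)) (σ₂.comp (f : C →+* D)) (by
    rw [RingHom.comp_assoc, RingHom.comp_assoc, f.comp_algebraMap, hσ])
  ext d
  obtain ⟨c, rfl⟩ := hf d
  exact congrFun (congrArg DFunLike.coe h1) c

theorem uhr_surjAlg_res (f : C →ₐ[A] D) (hf : Function.Surjective f)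
    (h : RRes (algebraMap A C)) : RRes (algebraMap A D) := by
  intro y d
  obtain ⟨c, rfl⟩ := hf d
  obtain ⟨a, s, hs, hsa⟩ := h (PrimeSpectrum.comap (f : C →+* D) y) c
  refine ⟨a, s, ?_, ?_⟩
  · intro hc
    apply hs
    show f (algebraMap A C s) ∈ y.asIdeal
    rw [f.commutes]; exact hc
  · have h2 : f (algebraMap A C s * c - algebraMap A C a) ∈ y.asIdeal := hsa
    rw [map_sub, map_mul, f.commutes, f.commutes] at h2
    exact h2

end SurjAlg

section SSup

variable {A B : Type u} [CommRing A] [CommRing B] [Algebra A B]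

theorem uhr_ker_sub (B' : Subalgebra A B)
    (hker : RingHom.ker (algebraMap A B) ≤ nilradical A) :
    RingHom.ker (algebraMap A B') ≤ nilradical A := by
  intro a ha
  apply hker
  rw [RingHom.mem_ker] at ha ⊢
  rw [← B'.val.commutes a, ha, map_zero]

theorem uhr_sSup_ruh (hker : RingHom.ker (algebraMap A B) ≤ nilradical A)
    (𝒞 : Set (Subalgebra A B)) (h𝒞 : ∀ C ∈ 𝒞, RUH (algebraMap A C)) :
    RUH (algebraMap A (sSup 𝒞 : Subalgebra A B)) := by
  have hC : ∀ C ∈ 𝒞, C ≤ sSup 𝒞 := fun C hC => le_sSup hC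
  have hint : (algebraMap A (sSup 𝒞 : Subalgebra A B)).IsIntegral := by
    intro b
    refine uhr_gen_top 𝒞 (sSup 𝒞) le_rfl hC (integralClosure A (sSup 𝒞 : Subalgebra A B)) ?_ b
    intro C hCm c hc
    exact IsIntegral.map (Subalgebra.inclusion (hC C hCm)) ((h𝒞 C hCm).1 ⟨c, hc⟩)
  refine ⟨hint, uhr_comap_surj _ hint (uhr_ker_sub _ hker), ?_⟩
  intro K _ σ₁ σ₂ hσ
  ext b
  refine uhr_gen_top 𝒞 (sSup 𝒞) le_rfl hC (uhr_eqSub σ₁ σ₂ hσ) ?_ b
  intro C hCm c hc
  have h1 := (h𝒞 C hCm).2.2 K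
    (σ₁.comp (Subalgebra.inclusion (hC C hCm) : C →+* (sSup 𝒞 : Subalgebra A B)))
    (σ₂.comp (Subalgebra.inclusion (hC C hCm) : C →+* (sSup 𝒞 : Subalgebra A B))) (by
      rw [RingHom.comp_assoc, RingHom.comp_assoc, (Subalgebra.inclusion (hC C hCm)).comp_algebraMap,
        hσ])
  exact congrFun (congrArg DFunLike.coe h1) ⟨c, hc⟩

theorem uhr_sSup_res (𝒞 : Set (Subalgebra A B)) (h𝒞 : ∀ C ∈ 𝒞, RRes (algebraMap A C)) :
    RRes (algebraMap A (sSup 𝒞 : Subalgebra A B)) := by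
  have hC : ∀ C ∈ 𝒞, C ≤ sSup 𝒞 := fun C hC => le_sSup hC
  intro y b
  rw [← uhr_mem_resSub]
  refine uhr_gen_top 𝒞 (sSup 𝒞) le_rfl hC (uhr_resSub y) ?_ b
  intro C hCm c hc
  rw [uhr_mem_resSub]
  obtain ⟨a, s, hs, hsa⟩ := (h𝒞 C hCm)
    (PrimeSpectrum.comap (Subalgebra.inclusion (hC C hCm) : C →+* (sSup 𝒞 : Subalgebra A B)) y)
    ⟨c, hc⟩
  exact ⟨a, s, hs, hsa⟩

end SSup

section PolyQuot

open Polynomial

variable {A : Type u} [CommRing A] (I : Ideal A[X])

theorem uhr_pq_alg (a : A) : algebraMap A (A[X] ⧸ I) a = Ideal.Quotient.mk I (C a) := rfl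

theorem uhr_pq_gen (T : Subalgebra A (A[X] ⧸ I)) (ht : Ideal.Quotient.mk I X ∈ T) :
    ∀ b, b ∈ T := by
  intro b
  obtain ⟨f, rfl⟩ := Ideal.Quotient.mk_surjective b
  induction f using Polynomial.induction_on' with
  | add p q hp hq => rw [map_add]; exact T.add_mem hp hq
  | monomial n a =>
    rw [← C_mul_X_pow_eq_monomial, map_mul, map_pow, ← uhr_pq_alg]
    exact T.mul_mem (T.algebraMap_mem a) (T.pow_mem ht n)

theorem uhr_pq_lift {K : Type u} [Field K] (ψ : A →+* K) (τ : K) (S : Set A[X])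
    (hS : ∀ f ∈ S, eval₂ ψ τ f = 0) :
    ∃ σ : (A[X] ⧸ Ideal.span S) →+* K, σ.comp (algebraMap A (A[X] ⧸ Ideal.span S)) = ψ := by
  have hker : ∀ f ∈ Ideal.span S, eval₂RingHom ψ τ f = 0 := by
    intro f hf
    have h1 : Ideal.span S ≤ RingHom.ker (eval₂RingHom ψ τ) := by
      rw [Ideal.span_le]
      intro g hg
      exact (RingHom.mem_ker).mpr (hS g hg)
    exact (RingHom.mem_ker).mp (h1 hf)
  refine ⟨Ideal.Quotient.lift (Ideal.span S) (eval₂RingHom ψ τ) hker, ?_⟩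
  ext a
  show (Ideal.Quotient.lift _ _ hker) (Ideal.Quotient.mk _ (C a)) = ψ a
  rw [Ideal.Quotient.lift_mk]
  simp

end PolyQuot

end Groth.Agent.Lib.helper4
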