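import Mathlib
import Groth.Agent.Lib.helper4.UHR4

set_option autoImplicit false
universe u
open CategoryTheory AlgebraicGeometry

namespace Groth.Agent.Lib.helper4

open Groth.Agent.Lib.helper7

/-- the big ring: product of algebraic closures of all residue fields -/
abbrev Om (A : Type u) [CommRing A] : Type u :=
  ∀ 𝔭 : PrimeSpectrum A, AlgebraicClosure 𝔭.asIdeal.ResidueField

noncomputable def omHom (A : Type u) [CommRing A] (𝔭 : PrimeSpectrum A) :
    A →+* AlgebraicClosure 𝔭.asIdeal.ResidueField :=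
  (algebraMap 𝔭.asIdeal.ResidueField (AlgebraicClosure 𝔭.asIdeal.ResidueField)).comp
    (algebraMap A 𝔭.asIdeal.ResidueField)

noncomputable def omMap (A : Type u) [CommRing A] : A →+* Om A := RingHom.pi (omHom A)

theorem uhr_exists_awn (A : Type u) [CommRing A] :
    ∃ (B : Type u) (_ : CommRing B) (φ : A →+* B), RUH φ ∧
      ∀ (C : Type u) [CommRing C] (ψ : A →+* C), RUH ψ → ∃! χ : C →+* B, χ.comp ψ = φ := by
  letI algΩ : Algebra A (Om A) := (omMap A).toAlgebra
  have halg : ∀ (a : A) (𝔭 : PrimeSpectrum A), (algebraMap A (Om A) a) 𝔭 = omHom A 𝔭 a :=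
    fun a 𝔭 => rfl
  have hker : RingHom.ker (algebraMap A (Om A)) ≤ nilradical A := by
    intro a ha
    rw [mem_nilradical, nilpotent_iff_mem_prime]
    intro J hJ
    have h1 : (algebraMap A (Om A) a) ⟨J, hJ⟩ = 0 := by
      rw [(RingHom.mem_ker).mp ha]; rfl
    rw [halg] at h1
    have h1' : (algebraMap J.ResidueField (AlgebraicClosure J.ResidueField))
        (algebraMap A J.ResidueField a) = 0 := h1
    have h2 : algebraMap A J.ResidueField a = 0 := (map_eq_zero _).mp h1'
    exact Ideal.algebraMap_residueField_eq_zero.mp h2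
  obtain ⟨B', hB'⟩ : ∃ B' : Subalgebra A (Om A),
      B' = sSup {C : Subalgebra A (Om A) | RUH (algebraMap A C)} := ⟨_, rfl⟩
  have hU : RUH (algebraMap A B') := by
    rw [hB']; exact uhr_sSup_ruh hker _ (fun C hC => hC)
  refine ⟨B', inferInstance, algebraMap A B', hU, ?_⟩
  intro C _ ψ hψ
  letI algC : Algebra A C := ψ.toAlgebra
  have hext : ∀ 𝔭 : PrimeSpectrum A, ∃ σ : C →+* AlgebraicClosure 𝔭.asIdeal.ResidueField,
      σ.comp ψ = omHom A 𝔭 :=
    fun 𝔭 => uh_extend_hom ψ hψ.1 hψ.2.1 (omHom A 𝔭)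
  choose σ hσ using hext
  let g : C →ₐ[A] Om A :=
    { RingHom.pi σ with
      commutes' := by
        intro a
        funext 𝔭
        show σ 𝔭 (ψ a) = omHom A 𝔭 a
        exact congrFun (congrArg DFunLike.coe (hσ 𝔭)) a }
  have hgr : g.range ≤ B' := by
    rw [hB']
    apply le_sSup
    show RUH (algebraMap A g.range)
    exact uhr_surjAlg_ruh g.rangeRestrict g.rangeRestrict_surjective (uhr_ker_sub _ hker) hψ
  let χ : C →ₐ[A] B' := (Subalgebra.inclusion hgr).comp g.rangeRestrict
  have hχ : (χ : C →+* B').comp ψ = algebraMap A B' := χ.comp_algebraMap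
  refine ⟨(χ : C →+* B'), hχ, ?_⟩
  intro χ' hχ'
  apply RingHom.ext
  intro c
  apply Subtype.ext
  funext 𝔭
  have h1 : ((Pi.evalRingHom _ 𝔭).comp (B'.val : B' →+* Om A)).comp χ' =
      ((Pi.evalRingHom _ 𝔭).comp (B'.val : B' →+* Om A)).comp (χ : C →+* B') := by
    apply hψ.2.2
    apply RingHom.ext
    intro a
    have e1 : χ' (ψ a) = algebraMap A B' a := congrFun (congrArg DFunLike.coe hχ') a
    have e2 : (χ : C →+* B') (ψ a) = algebraMap A B' a := congrFun (congrArg DFunLike.coe hχ) a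
    simp only [RingHom.comp_apply, e1, e2]
  exact congrFun (congrArg DFunLike.coe h1) c

end Groth.Agent.Lib.helper4
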