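import Mathlib
import Groth.Agent.Lib.helper4.UHR5
import Groth.Agent.S7402
import Groth.Agent.S7403

set_option autoImplicit false
universe u
open CategoryTheory AlgebraicGeometry Polynomial

namespace Groth.Agent.Lib.helper4

open Groth.Agent.Lib.helper7

section Comp

variable {R S T : Type u} [CommRing R] [CommRing S] [CommRing T]

theorem uhr_comp (f : R →+* S) (g : S →+* T) (hf : RUH f) (hg : RUH g) : RUH (g.comp f) := by
  refine ⟨RingHom.IsIntegral.trans f g hf.1 hg.1, ?_, ?_⟩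
  · rw [PrimeSpectrum.comap_comp]
    exact hf.2.1.comp hg.2.1
  · intro K _ σ₁ σ₂ hσ
    apply hg.2.2
    apply hf.2.2
    rw [RingHom.comp_assoc, RingHom.comp_assoc]
    exact hσ

theorem uhr_cancel (f : R →+* S) (g : S →+* T) (hf : RUH f) (hgf : RUH (g.comp f)) : RUH g := by
  refine ⟨RingHom.IsIntegral.tower_top f g hgf.1, ?_, ?_⟩
  · intro q
    obtain ⟨r, hr⟩ := hgf.2.1 (PrimeSpectrum.comap f q)
    refine ⟨r, ?_⟩
    apply (uhr_bij f hf).1
    rw [← hr]
    rfl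
  · intro K _ σ₁ σ₂ hσ
    apply hgf.2.2
    rw [← RingHom.comp_assoc, ← RingHom.comp_assoc, hσ]

theorem uhr_red_eq {W : Type u} [CommRing W] [IsReduced W] (b w : W) (h2 : b ^ 2 = w ^ 2)
    (h3 : b ^ 3 = w ^ 3) : b = w := by
  have h : IsNilpotent (b - w) := by
    rw [nilpotent_iff_mem_prime]
    intro J hJ
    rw [← Ideal.algebraMap_residueField_eq_zero, map_sub, sub_eq_zero]
    apply uhr_field_eq
    · rw [← map_pow, ← map_pow, h2]
    · rw [← map_pow, ← map_pow, h3]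
  exact sub_eq_zero.mp h.eq_zero

theorem uhr_red_eq_p {W : Type u} [CommRing W] [IsReduced W] (p : ℕ) (hp : p.Prime) (b w : W)
    (h1 : (p : W) * b = (p : W) * w) (h2 : b ^ p = w ^ p) : b = w := by
  have h : IsNilpotent (b - w) := by
    rw [nilpotent_iff_mem_prime]
    intro J hJ
    rw [← Ideal.algebraMap_residueField_eq_zero, map_sub, sub_eq_zero]
    apply uhr_field_eq_p p hp
    · have h4 := congrArg (algebraMap W J.ResidueField) h1
      rw [map_mul, map_mul, map_natCast] at h4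
      exact h4
    · rw [← map_pow, ← map_pow, h2]
  exact sub_eq_zero.mp h.eq_zero

theorem uhr_quot_nil (W : Type u) [CommRing W] : RUH (Ideal.Quotient.mk (nilradical W)) := by
  have hint : (Ideal.Quotient.mk (nilradical W)).IsIntegral :=
    RingHom.isIntegral_of_surjective _ Ideal.Quotient.mk_surjective
  refine ⟨hint, uhr_comap_surj _ hint (by rw [Ideal.mk_ker]), ?_⟩
  intro K _ σ₁ σ₂ hσ
  exact Ideal.Quotient.ringHom_ext hσ

end Comp

section AWN

variable {A W : Type u} [CommRing A] [CommRing W]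

theorem uhr_awn_retract (φ : A →+* W) (hU : RUH φ)
    (huniv : ∀ (C : Type u) [CommRing C] (ψ : A →+* C), RUH ψ → ∃! χ : C →+* W, χ.comp ψ = φ)
    {C : Type u} [CommRing C] (ι : W →+* C) (hι : RUH ι) :
    ∃ ρ : C →+* W, ρ.comp ι = RingHom.id W := by
  obtain ⟨ρ, hρ, -⟩ := huniv C (ι.comp φ) (uhr_comp _ _ hU hι)
  have h1 : (ρ.comp ι).comp φ = φ := by rw [RingHom.comp_assoc]; exact hρ
  obtain ⟨i, hi, huniq⟩ := huniv W φ hU
  exact ⟨ρ, by rw [huniq _ h1, huniq (RingHom.id W) (RingHom.id_comp φ)]⟩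

theorem uhr_awn_reduced (φ : A →+* W) (hU : RUH φ)
    (huniv : ∀ (C : Type u) [CommRing C] (ψ : A →+* C), RUH ψ → ∃! χ : C →+* W, χ.comp ψ = φ) :
    IsReduced W := by
  obtain ⟨ρ, hρ⟩ := uhr_awn_retract φ hU huniv _ (uhr_quot_nil W)
  constructor
  intro x hx
  have h3 : Ideal.Quotient.mk (nilradical W) x = 0 :=
    Ideal.Quotient.eq_zero_iff_mem.mpr (mem_nilradical.mpr hx)
  have h4 := congrFun (congrArg DFunLike.coe hρ) x
  simp only [RingHom.comp_apply, RingHom.id_apply] at h4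
  rw [← h4, h3, map_zero]

theorem uhr_pq_rel {R : Type u} [CommRing R] (S : Set R[X]) (f : R[X]) (hf : f ∈ S) :
    Ideal.Quotient.mk (Ideal.span S) f = 0 :=
  Ideal.Quotient.eq_zero_iff_mem.mpr (Ideal.subset_span hf)

theorem uhr_awn_isAWNRing (φ : A →+* W) (hU : RUH φ)
    (huniv : ∀ (C : Type u) [CommRing C] (ψ : A →+* C), RUH ψ → ∃! χ : C →+* W, χ.comp ψ = φ) :
    HTop.IsAWNRing W := by
  haveI := uhr_awn_reduced φ hU huniv
  constructor
  · intro x y h
    obtain ⟨ρ, hρ⟩ := uhr_awn_retract φ hU huniv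
      (algebraMap W (W[X] ⧸ Ideal.span ({X ^ 2 - C x, X ^ 3 - C y} : Set W[X])))
      ((uhr_iff _).mp (Groth.Agent.S7402.result W x y h).1)
    have hρ' : ∀ w : W, ρ (algebraMap W _ w) = w :=
      fun w => congrFun (congrArg DFunLike.coe hρ) w
    have ht2 := uhr_pq_rel ({X ^ 2 - C x, X ^ 3 - C y} : Set W[X]) (X ^ 2 - C x) (by simp)
    have ht3 := uhr_pq_rel ({X ^ 2 - C x, X ^ 3 - C y} : Set W[X]) (X ^ 3 - C y) (by simp)
    rw [map_sub, map_pow, sub_eq_zero] at ht2 ht3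
    have e2 : x = ρ (Ideal.Quotient.mk _ X) ^ 2 := by
      rw [← map_pow, ht2]; exact (hρ' x).symm
    have e3 : y = ρ (Ideal.Quotient.mk _ X) ^ 3 := by
      rw [← map_pow, ht3]; exact (hρ' y).symm
    refine ⟨ρ (Ideal.Quotient.mk _ X), ⟨e2, e3⟩, ?_⟩
    rintro a' ⟨h2', h3'⟩
    apply uhr_red_eq
    · rw [← h2', ← e2]
    · rw [← h3', ← e3]
  · intro p hp x y h
    obtain ⟨I, hI⟩ : ∃ I : Ideal W[X],
      I = Ideal.span ({X ^ p - C x, C (p : W) * X - C y} : Set W[X]) := ⟨_, rfl⟩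
    have hS := (uhr_iff _).mp (Groth.Agent.S7403.result W p hp x y h)
    rw [← hI] at hS
    obtain ⟨ρ, hρ⟩ := uhr_awn_retract φ hU huniv (algebraMap W (W[X] ⧸ I)) hS
    have hρ' : ∀ w : W, ρ (algebraMap W _ w) = w :=
      fun w => congrFun (congrArg DFunLike.coe hρ) w
    have ht2 : Ideal.Quotient.mk I (X ^ p - C x) = 0 := by
      rw [hI]; exact uhr_pq_rel _ _ (by simp)
    have ht3 : Ideal.Quotient.mk I (C (p : W) * X - C y) = 0 := by
      rw [hI]; exact uhr_pq_rel _ _ (by simp)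
    rw [map_sub, map_pow, sub_eq_zero] at ht2
    rw [map_sub, map_mul, Polynomial.C_eq_natCast, map_natCast, sub_eq_zero] at ht3
    have e2 : x = ρ (Ideal.Quotient.mk _ X) ^ p := by
      rw [← map_pow, ht2]; exact (hρ' x).symm
    have e3 : y = (p : W) * ρ (Ideal.Quotient.mk _ X) := by
      have h5 := congrArg ρ ht3
      rw [map_mul, map_natCast] at h5
      rw [h5]; exact (hρ' y).symm
    refine ⟨ρ (Ideal.Quotient.mk _ X), ⟨e2, e3⟩, ?_⟩
    rintro a' ⟨h2', h3'⟩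
    apply uhr_red_eq_p p hp
    · rw [← h3', ← e3]
    · rw [← h2', ← e2]

theorem uhr_isAWNRing_of_bij {B : Type u} [CommRing B] (χ : B →+* W) (hbij : Function.Bijective χ)
    (hW : HTop.IsAWNRing W) : HTop.IsAWNRing B := by
  constructor
  · intro x y h
    obtain ⟨a, ⟨ha2, ha3⟩, hau⟩ := hW.1 (χ x) (χ y) (by rw [← map_pow, ← map_pow, h])
    obtain ⟨a₀, rfl⟩ := hbij.2 a
    refine ⟨a₀, ⟨hbij.1 (by rw [map_pow]; exact ha2), hbij.1 (by rw [map_pow]; exact ha3)⟩, ?_⟩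
    rintro a' ⟨h2, h3⟩
    apply hbij.1
    apply hau
    exact ⟨by rw [h2, map_pow], by rw [h3, map_pow]⟩
  · intro p hp x y h
    obtain ⟨a, ⟨ha2, ha3⟩, hau⟩ := hW.2 p hp (χ x) (χ y) (by
      have h1 := congrArg χ h
      rw [map_mul, map_pow, map_pow, map_natCast] at h1
      exact h1)
    obtain ⟨a₀, rfl⟩ := hbij.2 a
    refine ⟨a₀, ⟨hbij.1 (by rw [map_pow]; exact ha2),
      hbij.1 (by rw [map_mul, map_natCast]; exact ha3)⟩, ?_⟩
    rintro a' ⟨h2, h3⟩
    apply hbij.1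
    apply hau
    exact ⟨by rw [h2, map_pow], by rw [h3, map_mul, map_natCast]⟩

theorem uhr_isReduced_of_isAWNRing {B : Type u} [CommRing B] (hB : HTop.IsAWNRing B) :
    IsReduced B := by
  rw [isReduced_iff_pow_one_lt 2 one_lt_two]
  intro b hb
  obtain ⟨a, -, hau⟩ := hB.1 0 0 (by ring)
  have h1 : b = a := hau b ⟨hb.symm, by rw [pow_succ, hb, zero_mul]⟩
  have h2 : (0 : B) = a := hau 0 ⟨by ring, by ring⟩
  rw [h1, ← h2]

theorem uhr_bij_of_isAWNRing {B : Type u} [CommRing B] [IsReduced W] (χ : B →+* W) (hχ : RUH χ)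
    (hB : HTop.IsAWNRing B) : Function.Bijective χ := by
  haveI := uhr_isReduced_of_isAWNRing hB
  have hinj : Function.Injective χ := by
    rw [injective_iff_map_eq_zero]
    intro b hb
    have h1 : IsNilpotent b := by
      rw [nilpotent_iff_mem_prime]
      intro J hJ
      obtain ⟨q, hq⟩ := hχ.2.1 ⟨J, hJ⟩
      have h2 : (PrimeSpectrum.comap χ q).asIdeal = J := by rw [hq]
      rw [← h2]
      show χ b ∈ q.asIdeal
      rw [hb]; exact Ideal.zero_mem _
    exact h1.eq_zero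
  refine ⟨hinj, ?_⟩
  by_contra hns
  rcases uhr_sqcube_or_p χ hns hχ with ⟨w, hw, ⟨x, hx⟩, ⟨y, hy⟩⟩ | ⟨p, w, hp, hw, ⟨y, hy⟩, ⟨x, hx⟩⟩
  · have hxy : x ^ 3 = y ^ 2 := by
      apply hinj
      rw [map_pow, map_pow, hx, hy]; ring
    obtain ⟨a, ⟨ha2, ha3⟩, -⟩ := hB.1 x y hxy
    apply hw
    refine ⟨a, ?_⟩
    apply uhr_red_eq
    · rw [← map_pow, ← ha2, hx]
    · rw [← map_pow, ← ha3, hy]
  · have hxy : (p : B) ^ p * x = y ^ p := by
      apply hinj
      rw [map_mul, map_pow, map_pow, map_natCast, hx, hy]; ring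
    obtain ⟨a, ⟨ha2, ha3⟩, -⟩ := hB.2 p hp x y hxy
    apply hw
    refine ⟨a, ?_⟩
    apply uhr_red_eq_p p hp
    · rw [← hy, ha3, map_mul, map_natCast]
    · rw [← map_pow, ← ha2, hx]

end AWN

end Groth.Agent.Lib.helper4
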