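import Mathlib
import Groth.Agent.Lib.helper4.UHR6

/-!
# Seminormal / absolutely weakly normal rings are local (helper4)

Generic weighted-homogeneous "rules" `c₀ x^e₁ = y^e₂ ⟹ ∃ a, x = a^d₁ ∧ y = c a^d₂`
pass to localizations away from an element and glue along a finite cover by basic opens.
-/

set_option autoImplicit false
universe u
open CategoryTheory AlgebraicGeometry

namespace Groth.Agent.Lib.helper4

/-- Existence part of a weighted homogeneous rule. -/
def ERule (d₁ d₂ e₁ e₂ c₀ c : ℕ) (A : Type u) [CommRing A] : Prop :=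
  ∀ x y : A, (c₀ : A) * x ^ e₁ = y ^ e₂ → ∃ a : A, x = a ^ d₁ ∧ y = (c : A) * a ^ d₂

/-- Uniqueness part of a rule in reduced rings. -/
def URule (d₁ d₂ c : ℕ) : Prop :=
  ∀ (W : Type u) [CommRing W] [IsReduced W] (a b : W), a ^ d₁ = b ^ d₁ →
    (c : W) * a ^ d₂ = (c : W) * b ^ d₂ → a = b

section Loc

variable {A : Type u} [CommRing A]

theorem erule_loc (d₁ d₂ e₁ e₂ c₀ c : ℕ) (hD : d₁ * e₁ = d₂ * e₂) (hd₁ : 1 ≤ d₁) (hd₂ : 1 ≤ d₂)
    (he₁ : 1 ≤ e₁) (f : A) (B : Type u) [CommRing B] [Algebra A B] [IsLocalization.Away f B]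
    (h : ERule d₁ d₂ e₁ e₂ c₀ c A) : ERule d₁ d₂ e₁ e₂ c₀ c B := by
  intro x y hxy
  obtain ⟨n, x₀, hx₀⟩ := IsLocalization.Away.surj f x
  obtain ⟨m, y₀, hy₀⟩ := IsLocalization.Away.surj f y
  -- τ = f^(n+m)
  obtain ⟨τ, hτ⟩ : ∃ τ : A, τ = f ^ (n + m) := ⟨_, rfl⟩
  obtain ⟨X₁, hX₁⟩ : ∃ X₁ : A, X₁ = x₀ * f ^ m * τ ^ (d₁ - 1) := ⟨_, rfl⟩
  obtain ⟨Y₁, hY₁⟩ : ∃ Y₁ : A, Y₁ = y₀ * f ^ n * τ ^ (d₂ - 1) := ⟨_, rfl⟩
  have hτ' : algebraMap A B τ = algebraMap A B f ^ n * algebraMap A B f ^ m := by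
    rw [hτ, map_pow, pow_add]
  have hX₁' : algebraMap A B X₁ = x * algebraMap A B τ ^ d₁ := by
    rw [hX₁, map_mul, map_mul, ← hx₀, map_pow, map_pow]
    conv_rhs => rw [← Nat.sub_add_cancel hd₁, pow_succ]
    rw [hτ']
    ring
  have hY₁' : algebraMap A B Y₁ = y * algebraMap A B τ ^ d₂ := by
    rw [hY₁, map_mul, map_mul, ← hy₀, map_pow, map_pow]
    conv_rhs => rw [← Nat.sub_add_cancel hd₂, pow_succ]
    rw [hτ']
    ring
  have h1 : algebraMap A B ((c₀ : A) * X₁ ^ e₁) = algebraMap A B (Y₁ ^ e₂) := by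
    rw [map_mul, map_pow, map_pow, hX₁', hY₁', map_natCast, mul_pow, mul_pow, ← pow_mul, ← pow_mul,
      ← mul_assoc, hxy, hD]
  obtain ⟨⟨σ, j, rfl⟩, hσ⟩ := (IsLocalization.eq_iff_exists (Submonoid.powers f) B).mp h1
  dsimp only at hσ
  obtain ⟨σ, hσdef⟩ : ∃ σ : A, σ = f ^ j := ⟨_, rfl⟩
  rw [← hσdef] at hσ
  obtain ⟨X₂, hX₂⟩ : ∃ X₂ : A, X₂ = σ ^ d₁ * X₁ := ⟨_, rfl⟩
  obtain ⟨Y₂, hY₂⟩ : ∃ Y₂ : A, Y₂ = σ ^ d₂ * Y₁ := ⟨_, rfl⟩
  have hD1 : 1 ≤ d₁ * e₁ := Nat.mul_pos hd₁ he₁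
  have h2 : (c₀ : A) * X₂ ^ e₁ = Y₂ ^ e₂ := by
    rw [hX₂, hY₂, mul_pow, mul_pow, ← pow_mul, ← pow_mul, ← hD]
    have h3 : σ ^ (d₁ * e₁) = σ ^ (d₁ * e₁ - 1) * σ := by
      rw [← pow_succ, Nat.sub_add_cancel hD1]
    rw [h3]
    calc (c₀ : A) * (σ ^ (d₁ * e₁ - 1) * σ * X₁ ^ e₁)
        = σ ^ (d₁ * e₁ - 1) * (σ * ((c₀ : A) * X₁ ^ e₁)) := by ring
      _ = σ ^ (d₁ * e₁ - 1) * (σ * Y₁ ^ e₂) := by rw [hσ]
      _ = σ ^ (d₁ * e₁ - 1) * σ * Y₁ ^ e₂ := by ring
  obtain ⟨a, ha1, ha2⟩ := h X₂ Y₂ h2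
  have hu : IsUnit (algebraMap A B (τ * σ)) := by
    rw [hτ, hσdef, ← pow_add, map_pow]
    exact (IsLocalization.Away.algebraMap_isUnit f).pow _
  obtain ⟨v, hv⟩ := hu.exists_right_inv
  refine ⟨algebraMap A B a * v, ?_, ?_⟩
  · calc x = x * (algebraMap A B (τ * σ) * v) ^ d₁ := by rw [hv, one_pow, mul_one]
      _ = algebraMap A B σ ^ d₁ * (x * algebraMap A B τ ^ d₁) * v ^ d₁ := by
          rw [map_mul]; ring
      _ = algebraMap A B X₂ * v ^ d₁ := by rw [← hX₁', hX₂, map_mul, map_pow]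
      _ = (algebraMap A B a * v) ^ d₁ := by rw [ha1, map_pow, mul_pow]
  · calc y = y * (algebraMap A B (τ * σ) * v) ^ d₂ := by rw [hv, one_pow, mul_one]
      _ = algebraMap A B σ ^ d₂ * (y * algebraMap A B τ ^ d₂) * v ^ d₂ := by
          rw [map_mul]; ring
      _ = algebraMap A B Y₂ * v ^ d₂ := by rw [← hY₁', hY₂, map_mul, map_pow]
      _ = (c : B) * (algebraMap A B a * v) ^ d₂ := by
          rw [ha2, map_mul, map_pow, map_natCast, mul_pow]; ring

end Loc

section Glue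

variable {A : Type u} [CommRing A] {ι : Type*} [Fintype ι]
  (f : ι → A) (hf : Ideal.span (Set.range f) = ⊤)

include hf in
theorem loc_eq_of_pow (u v : A) (h : ∀ i, ∃ n, f i ^ n * u = f i ^ n * v) : u = v := by
  choose n hn using h
  obtain ⟨N, hN⟩ := Finite.exists_le n
  have key : ∀ t ∈ Ideal.span ((fun x => x ^ N) '' Set.range f), t * u = t * v := by
    intro t ht
    induction ht using Submodule.span_induction with
    | mem x hx =>
      obtain ⟨_, ⟨i, rfl⟩, rfl⟩ := hx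
      show f i ^ N * u = f i ^ N * v
      rw [← Nat.sub_add_cancel (hN i), pow_add, mul_assoc, mul_assoc, hn i]
    | zero => rw [zero_mul, zero_mul]
    | add x y _ _ hx hy => rw [add_mul, add_mul, hx, hy]
    | smul a x _ hx => rw [smul_eq_mul, mul_assoc, mul_assoc, hx]
  have h1 := key 1 (by rw [Ideal.span_pow_eq_top _ hf N]; trivial)
  rwa [one_mul, one_mul] at h1

include hf in
theorem loc_eq (B : ι → Type u) [∀ i, CommRing (B i)] [∀ i, Algebra A (B i)]
    [∀ i, IsLocalization.Away (f i) (B i)] (u v : A)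
    (h : ∀ i, algebraMap A (B i) u = algebraMap A (B i) v) : u = v := by
  apply loc_eq_of_pow f hf
  intro i
  obtain ⟨⟨_, n, rfl⟩, hc⟩ := (IsLocalization.eq_iff_exists (Submonoid.powers (f i)) (B i)).mp (h i)
  exact ⟨n, hc⟩

include hf in
theorem isReduced_glue (B : ι → Type u) [∀ i, CommRing (B i)] [∀ i, Algebra A (B i)]
    [∀ i, IsLocalization.Away (f i) (B i)] (hred : ∀ i, IsReduced (B i)) : IsReduced A := by
  constructor
  intro z hz
  apply loc_eq f hf B
  intro i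
  rw [map_zero]
  haveI := hred i
  exact (hz.map (algebraMap A (B i))).eq_zero

include hf in
theorem glue_elems (N : ℕ) (b : ι → A) (M : ℕ)
    (hcomp : ∀ i j, (f i * f j) ^ M * (b i * f j ^ N) = (f i * f j) ^ M * (b j * f i ^ N)) :
    ∃ a : A, ∀ i, f i ^ (N + M) * a = b i * f i ^ M := by
  have h1 : (1 : A) ∈ Ideal.span (Set.range fun i => f i ^ (N + M)) := by
    have h2 := Ideal.span_pow_eq_top _ hf (N + M)
    rw [← Set.range_comp] at h2
    have h3 : ((fun x : A => x ^ (N + M)) ∘ f) = fun i => f i ^ (N + M) := rfl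
    rw [h3] at h2
    rw [h2]; trivial
  obtain ⟨c, hc⟩ := Ideal.mem_span_range_iff_exists_fun.mp h1
  refine ⟨∑ i, c i * (b i * f i ^ M), fun j => ?_⟩
  rw [Finset.mul_sum]
  have h4 : ∀ i, f j ^ (N + M) * (c i * (b i * f i ^ M)) = b j * f j ^ M * (c i * f i ^ (N + M)) := by
    intro i
    have h5 := hcomp i j
    calc f j ^ (N + M) * (c i * (b i * f i ^ M))
        = c i * ((f i * f j) ^ M * (b i * f j ^ N)) := by rw [mul_pow, pow_add]; ring
      _ = c i * ((f i * f j) ^ M * (b j * f i ^ N)) := by rw [h5]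
      _ = b j * f j ^ M * (c i * f i ^ (N + M)) := by rw [mul_pow, pow_add]; ring
  rw [Finset.sum_congr rfl (fun i _ => h4 i), ← Finset.mul_sum, hc, mul_one]

include hf in
theorem erule_glue (d₁ d₂ e₁ e₂ c₀ c : ℕ) (hU : URule.{u} d₁ d₂ c)
    (B : ι → Type u) [∀ i, CommRing (B i)] [∀ i, Algebra A (B i)]
    [∀ i, IsLocalization.Away (f i) (B i)]
    (hred : ∀ i, IsReduced (B i)) (h : ∀ i, ERule d₁ d₂ e₁ e₂ c₀ c (B i)) :
    ERule d₁ d₂ e₁ e₂ c₀ c A := by
  haveI : IsReduced A := isReduced_glue f hf B hred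
  intro x y hxy
  have hloc : ∀ i, ∃ a : B i, algebraMap A (B i) x = a ^ d₁ ∧
      algebraMap A (B i) y = (c : B i) * a ^ d₂ := by
    intro i
    apply h i
    rw [← map_pow, ← map_pow, ← hxy, map_mul, map_natCast]
  choose α hα1 hα2 using hloc
  have hnum : ∀ i, ∃ (n : ℕ) (b : A), α i * algebraMap A (B i) (f i) ^ n = algebraMap A (B i) b :=
    fun i => IsLocalization.Away.surj (f i) (α i)
  choose n b₀ hb₀ using hnum
  obtain ⟨N, hN⟩ := Finite.exists_le n
  -- uniform numerators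
  obtain ⟨b, hbdef⟩ : ∃ b : ι → A, b = fun i => b₀ i * f i ^ (N - n i) := ⟨_, rfl⟩
  have hb : ∀ i, α i * algebraMap A (B i) (f i) ^ N = algebraMap A (B i) (b i) := by
    intro i
    rw [hbdef]
    simp only
    rw [map_mul, ← hb₀ i, map_pow, mul_assoc, ← pow_add, Nat.add_sub_cancel' (hN i)]
  -- compatibility
  have hcompat : ∀ i j, ∃ M : ℕ, (f i * f j) ^ M * (b i * f j ^ N) =
      (f i * f j) ^ M * (b j * f i ^ N) := by
    intro i j
    let C := Localization.Away (f i * f j)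
    have hui : IsUnit (algebraMap A C (f i)) := by
      have h1 : IsUnit (algebraMap A C (f i * f j)) := IsLocalization.Away.algebraMap_isUnit _
      rw [map_mul] at h1
      exact isUnit_of_mul_isUnit_left h1
    have huj : IsUnit (algebraMap A C (f j)) := by
      have h1 : IsUnit (algebraMap A C (f i * f j)) := IsLocalization.Away.algebraMap_isUnit _
      rw [map_mul] at h1
      exact isUnit_of_mul_isUnit_right h1
    let li : B i →+* C := IsLocalization.Away.lift (f i) hui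
    let lj : B j →+* C := IsLocalization.Away.lift (f j) huj
    have hli : ∀ r : A, li (algebraMap A (B i) r) = algebraMap A C r :=
      fun r => IsLocalization.Away.lift_eq (f i) hui r
    have hlj : ∀ r : A, lj (algebraMap A (B j) r) = algebraMap A C r :=
      fun r => IsLocalization.Away.lift_eq (f j) huj r
    have heq : li (α i) = lj (α j) := by
      apply hU C
      · rw [← map_pow, ← map_pow, ← hα1 i, ← hα1 j, hli, hlj]
      · have e1 : (c : C) * li (α i) ^ d₂ = li ((c : B i) * α i ^ d₂) := by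
          rw [map_mul, map_pow, map_natCast]
        have e2 : (c : C) * lj (α j) ^ d₂ = lj ((c : B j) * α j ^ d₂) := by
          rw [map_mul, map_pow, map_natCast]
        rw [e1, e2, ← hα2 i, ← hα2 j, hli, hlj]
    have h3 : algebraMap A C (b i * f j ^ N) = algebraMap A C (b j * f i ^ N) := by
      have hbi : algebraMap A C (b i) = li (α i) * algebraMap A C (f i) ^ N := by
        rw [← hli (b i), ← hb i, map_mul, map_pow, hli]
      have hbj : algebraMap A C (b j) = lj (α j) * algebraMap A C (f j) ^ N := by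
        rw [← hlj (b j), ← hb j, map_mul, map_pow, hlj]
      rw [map_mul, map_mul, hbi, hbj, heq, map_pow, map_pow]
      ring
    obtain ⟨⟨_, M, rfl⟩, hc⟩ := (IsLocalization.eq_iff_exists (Submonoid.powers (f i * f j)) C).mp h3
    exact ⟨M, hc⟩
  choose M₀ hM₀ using hcompat
  obtain ⟨M, hM⟩ := Finite.exists_le (fun p : ι × ι => M₀ p.1 p.2)
  have hcomp : ∀ i j, (f i * f j) ^ M * (b i * f j ^ N) = (f i * f j) ^ M * (b j * f i ^ N) := by
    intro i j
    rw [← Nat.sub_add_cancel (hM (i, j)), pow_add, mul_assoc, mul_assoc, hM₀ i j]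
  obtain ⟨a, ha⟩ := glue_elems f hf N b M hcomp
  have haα : ∀ i, algebraMap A (B i) a = α i := by
    intro i
    have h1 := congrArg (algebraMap A (B i)) (ha i)
    rw [map_mul, map_mul, ← hb i, map_pow, map_pow, pow_add] at h1
    have hu : IsUnit (algebraMap A (B i) (f i)) := IsLocalization.Away.algebraMap_isUnit _
    have hu2 : IsUnit (algebraMap A (B i) (f i) ^ N * algebraMap A (B i) (f i) ^ M) :=
      (hu.pow N).mul (hu.pow M)
    apply hu2.mul_left_cancel
    rw [h1]; ring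
  refine ⟨a, ?_, ?_⟩
  · apply loc_eq f hf B
    intro i
    rw [map_pow, haα i, hα1 i]
  · apply loc_eq f hf B
    intro i
    rw [map_mul, map_pow, map_natCast, haα i, hα2 i]

end Glue

section SN

variable (A : Type u) [CommRing A]

theorem isReduced_of_sn {A : Type u} [CommRing A] (hB : HTop.IsSeminormalRing A) : IsReduced A := by
  rw [isReduced_iff_pow_one_lt 2 one_lt_two]
  intro b hb
  obtain ⟨a, -, hau⟩ := hB 0 0 (by ring)
  have h1 : b = a := hau b ⟨hb.symm, by rw [pow_succ, hb, zero_mul]⟩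
  have h2 : (0 : A) = a := hau 0 ⟨by ring, by ring⟩
  rw [h1, ← h2]

theorem urule_sn : URule.{u} 2 3 1 := by
  intro W _ _ a b h2 h3
  rw [Nat.cast_one, one_mul, one_mul] at h3
  exact uhr_red_eq a b h2 h3

theorem urule_p (p : ℕ) (hp : p.Prime) : URule.{u} p 1 p := by
  intro W _ _ a b h2 h3
  rw [pow_one, pow_one] at h3
  exact uhr_red_eq_p p hp a b h3 h2

theorem sn_iff : HTop.IsSeminormalRing A ↔ IsReduced A ∧ ERule 2 3 3 2 1 1 A := by
  constructor
  · intro h
    refine ⟨isReduced_of_sn h, fun x y hxy => ?_⟩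
    rw [Nat.cast_one, one_mul] at hxy
    obtain ⟨a, ⟨h1, h2⟩, -⟩ := h x y hxy
    exact ⟨a, h1, by rw [Nat.cast_one, one_mul]; exact h2⟩
  · rintro ⟨hred, h⟩ x y hxy
    obtain ⟨a, h1, h2⟩ := h x y (by rw [Nat.cast_one, one_mul]; exact hxy)
    rw [Nat.cast_one, one_mul] at h2
    refine ⟨a, ⟨h1, h2⟩, ?_⟩
    rintro a' ⟨h1', h2'⟩
    exact uhr_red_eq a' a (by rw [← h1, ← h1']) (by rw [← h2, ← h2'])

theorem prule_iff (p : ℕ) (hp : p.Prime) [IsReduced A] :
    (∀ x y : A, (p : A) ^ p * x = y ^ p → ∃! a : A, x = a ^ p ∧ y = (p : A) * a) ↔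
      ERule p 1 1 p (p ^ p) p A := by
  constructor
  · intro h x y hxy
    rw [Nat.cast_pow, pow_one] at hxy
    obtain ⟨a, ⟨h1, h2⟩, -⟩ := h x y hxy
    exact ⟨a, h1, by rw [pow_one]; exact h2⟩
  · intro h x y hxy
    obtain ⟨a, h1, h2⟩ := h x y (by rw [Nat.cast_pow, pow_one]; exact hxy)
    rw [pow_one] at h2
    refine ⟨a, ⟨h1, h2⟩, ?_⟩
    rintro a' ⟨h1', h2'⟩
    exact uhr_red_eq_p p hp a' a (by rw [← h2, ← h2']) (by rw [← h1, ← h1'])

theorem awn_iff : HTop.IsAWNRing A ↔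
    IsReduced A ∧ ERule 2 3 3 2 1 1 A ∧ ∀ p : ℕ, p.Prime → ERule p 1 1 p (p ^ p) p A := by
  constructor
  · rintro ⟨h1, h2⟩
    obtain ⟨hred, h3⟩ := (sn_iff A).mp h1
    exact ⟨hred, h3, fun p hp => (prule_iff A p hp).mp (h2 p hp)⟩
  · rintro ⟨hred, h1, h2⟩
    exact ⟨(sn_iff A).mpr ⟨hred, h1⟩, fun p hp => (prule_iff A p hp).mpr (h2 p hp)⟩

variable {A}

theorem sn_loc (f : A) (B : Type u) [CommRing B] [Algebra A B] [IsLocalization.Away f B]
    (h : HTop.IsSeminormalRing A) : HTop.IsSeminormalRing B := by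
  obtain ⟨hred, h1⟩ := (sn_iff A).mp h
  refine (sn_iff B).mpr ⟨isReduced_localizationPreserves (Submonoid.powers f) B hred, ?_⟩
  exact erule_loc 2 3 3 2 1 1 rfl (by norm_num) (by norm_num) (by norm_num) f B h1

theorem awn_loc (f : A) (B : Type u) [CommRing B] [Algebra A B] [IsLocalization.Away f B]
    (h : HTop.IsAWNRing A) : HTop.IsAWNRing B := by
  obtain ⟨hred, h1, h2⟩ := (awn_iff A).mp h
  refine (awn_iff B).mpr ⟨isReduced_localizationPreserves (Submonoid.powers f) B hred, ?_, ?_⟩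
  · exact erule_loc 2 3 3 2 1 1 rfl (by norm_num) (by norm_num) (by norm_num) f B h1
  · intro p hp
    exact erule_loc p 1 1 p (p ^ p) p (by ring) hp.one_lt.le le_rfl le_rfl f B (h2 p hp)

theorem sn_glue {ι : Type*} [Fintype ι] (f : ι → A) (hf : Ideal.span (Set.range f) = ⊤)
    (B : ι → Type u) [∀ i, CommRing (B i)] [∀ i, Algebra A (B i)]
    [∀ i, IsLocalization.Away (f i) (B i)] (h : ∀ i, HTop.IsSeminormalRing (B i)) :
    HTop.IsSeminormalRing A := by
  have hred : ∀ i, IsReduced (B i) := fun i => ((sn_iff (B i)).mp (h i)).1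
  refine (sn_iff A).mpr ⟨isReduced_glue f hf B hred, ?_⟩
  exact erule_glue f hf 2 3 3 2 1 1 urule_sn B hred (fun i => ((sn_iff (B i)).mp (h i)).2)

theorem awn_glue {ι : Type*} [Fintype ι] (f : ι → A) (hf : Ideal.span (Set.range f) = ⊤)
    (B : ι → Type u) [∀ i, CommRing (B i)] [∀ i, Algebra A (B i)]
    [∀ i, IsLocalization.Away (f i) (B i)] (h : ∀ i, HTop.IsAWNRing (B i)) :
    HTop.IsAWNRing A := by
  have hred : ∀ i, IsReduced (B i) := fun i => ((awn_iff (B i)).mp (h i)).1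
  refine (awn_iff A).mpr ⟨isReduced_glue f hf B hred, ?_, ?_⟩
  · exact erule_glue f hf 2 3 3 2 1 1 urule_sn B hred (fun i => ((awn_iff (B i)).mp (h i)).2.1)
  · intro p hp
    exact erule_glue f hf p 1 1 p (p ^ p) p (urule_p p hp) B hred
      (fun i => ((awn_iff (B i)).mp (h i)).2.2 p hp)

/-- transfer along ring isomorphisms -/
theorem sn_of_equiv {B : Type u} [CommRing B] (e : A ≃+* B) (h : HTop.IsSeminormalRing A) :
    HTop.IsSeminormalRing B := by
  letI : Algebra A B := e.toRingHom.toAlgebra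
  haveI : IsLocalization.Away (1 : A) B := by
    have : IsLocalization.Away (1 : A) A := IsLocalization.away_of_isUnit_of_bijective A isUnit_one
      Function.bijective_id
    exact IsLocalization.isLocalization_of_algEquiv (Submonoid.powers (1 : A))
      (AlgEquiv.ofRingEquiv (f := e) (fun _ => rfl))
  exact sn_loc 1 B h

theorem awn_of_equiv {B : Type u} [CommRing B] (e : A ≃+* B) (h : HTop.IsAWNRing A) :
    HTop.IsAWNRing B := by
  letI : Algebra A B := e.toRingHom.toAlgebra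
  haveI : IsLocalization.Away (1 : A) B := by
    have : IsLocalization.Away (1 : A) A := IsLocalization.away_of_isUnit_of_bijective A isUnit_one
      Function.bijective_id
    exact IsLocalization.isLocalization_of_algEquiv (Submonoid.powers (1 : A))
      (AlgEquiv.ofRingEquiv (f := e) (fun _ => rfl))
  exact awn_loc 1 B h

end SN

end Groth.Agent.Lib.helper4
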