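import Mathlib
import Groth.Agent.Lib.helper4.UHR6
import Groth.Agent.Lib.helper4.SNLoc

/-!
# A chosen absolute weak normalization of a ring, and its compatibility with localization (helper4)
-/

set_option autoImplicit false
universe u
open CategoryTheory AlgebraicGeometry

namespace Groth.Agent.Lib.helper4

open Groth.Agent.Lib.helper7

section Basic

/-- chosen absolute weak normalization of a ring -/
def AwnRing (A : Type u) [CommRing A] : Type u := Classical.choose (uhr_exists_awn A)

noncomputable instance (A : Type u) [CommRing A] : CommRing (AwnRing A) :=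
  Classical.choose (Classical.choose_spec (uhr_exists_awn A))

noncomputable def awnMap (A : Type u) [CommRing A] : A →+* AwnRing A :=
  Classical.choose (Classical.choose_spec (Classical.choose_spec (uhr_exists_awn A)))

theorem awnMap_spec (A : Type u) [CommRing A] : RUH (awnMap A) ∧
    ∀ (C : Type u) [CommRing C] (ψ : A →+* C), RUH ψ →
      ∃! χ : C →+* AwnRing A, χ.comp ψ = awnMap A :=
  Classical.choose_spec (Classical.choose_spec (Classical.choose_spec (uhr_exists_awn A)))

theorem awn_ruh (A : Type u) [CommRing A] : RUH (awnMap A) := (awnMap_spec A).1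

theorem awn_isAWN (A : Type u) [CommRing A] : HTop.IsAWNRing (AwnRing A) :=
  uhr_awn_isAWNRing (awnMap A) (awn_ruh A) (awnMap_spec A).2

instance awn_reduced (A : Type u) [CommRing A] : IsReduced (AwnRing A) :=
  uhr_awn_reduced (awnMap A) (awn_ruh A) (awnMap_spec A).2

/-- maps out of a universal homeomorphism into a reduced ring are determined on the base -/
theorem ruh_hom_ext {A B W : Type u} [CommRing A] [CommRing B] [CommRing W] [IsReduced W]
    (φ : A →+* B) (hφ : RUH φ) (χ₁ χ₂ : B →+* W) (h : χ₁.comp φ = χ₂.comp φ) : χ₁ = χ₂ := by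
  apply RingHom.ext
  intro b
  have hn : IsNilpotent (χ₁ b - χ₂ b) := by
    rw [nilpotent_iff_mem_prime]
    intro J hJ
    have h1 : ((algebraMap W J.ResidueField).comp χ₁).comp φ =
        ((algebraMap W J.ResidueField).comp χ₂).comp φ := by
      rw [RingHom.comp_assoc, RingHom.comp_assoc, h]
    have h2 := hφ.2.2 J.ResidueField _ _ h1
    have h3 := congrFun (congrArg DFunLike.coe h2) b
    simp only [RingHom.comp_apply] at h3
    rw [← Ideal.algebraMap_residueField_eq_zero, map_sub, h3, sub_self]
  exact sub_eq_zero.mp hn.eq_zero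

theorem awn_hom_ext {A W : Type u} [CommRing A] [CommRing W] [IsReduced W]
    (χ₁ χ₂ : AwnRing A →+* W) (h : χ₁.comp (awnMap A) = χ₂.comp (awnMap A)) : χ₁ = χ₂ :=
  ruh_hom_ext (awnMap A) (awn_ruh A) χ₁ χ₂ h

end Basic

section Loc

variable {A B A' B' : Type u} [CommRing A] [CommRing B] [CommRing A'] [CommRing B']

/-- universal homeomorphisms of rings localize -/
theorem ruh_loc (φ : A →+* B) (hφ : RUH φ) (f : A) [Algebra A A'] [IsLocalization.Away f A']
    [Algebra B B'] [IsLocalization.Away (φ f) B'] (ψ : A' →+* B')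
    (hψ : ψ.comp (algebraMap A A') = (algebraMap B B').comp φ) : RUH ψ := by
  have hψ' : ∀ a : A, ψ (algebraMap A A' a) = algebraMap B B' (φ a) :=
    fun a => congrFun (congrArg DFunLike.coe hψ) a
  refine ⟨?_, ?_, ?_⟩
  · intro x
    obtain ⟨n, b, hb⟩ := IsLocalization.Away.surj (φ f) x
    obtain ⟨t, ht⟩ : ∃ t : A', algebraMap A A' f * t = 1 :=
      (IsLocalization.Away.algebraMap_isUnit (S := A') f).exists_right_inv
    have h1 : algebraMap B B' (φ f) * ψ t = 1 := by
      rw [← hψ', ← map_mul, ht, map_one]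
    have hx : x = algebraMap B B' b * ψ (t ^ n) := by
      calc x = x * (algebraMap B B' (φ f) * ψ t) ^ n := by rw [h1, one_pow, mul_one]
        _ = (x * algebraMap B B' (φ f) ^ n) * ψ t ^ n := by rw [mul_pow]; ring
        _ = algebraMap B B' b * ψ (t ^ n) := by rw [hb, map_pow]
    rw [hx]
    apply RingHom.IsIntegralElem.mul
    · obtain ⟨p, hp, hpe⟩ := hφ.1 b
      refine ⟨p.map (algebraMap A A'), hp.map _, ?_⟩
      rw [Polynomial.eval₂_map, hψ, ← Polynomial.hom_eval₂, hpe, map_zero]
    · exact ψ.isIntegralElem_map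
  · intro q'
    obtain ⟨P, hP⟩ := hφ.2.1 (PrimeSpectrum.comap (algebraMap A A') q')
    have hfP : P ∈ PrimeSpectrum.basicOpen (φ f) := by
      show φ f ∉ P.asIdeal
      intro hmem
      have h1 : f ∈ (PrimeSpectrum.comap φ P).asIdeal := hmem
      rw [hP] at h1
      have h2 : algebraMap A A' f ∈ q'.asIdeal := h1
      exact q'.2.ne_top (Ideal.eq_top_of_isUnit_mem _ h2
        (IsLocalization.Away.algebraMap_isUnit (S := A') f))
    have hr : P ∈ Set.range (PrimeSpectrum.comap (algebraMap B B')) := by
      rw [PrimeSpectrum.localization_away_comap_range B' (φ f)]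
      exact hfP
    obtain ⟨P', hP'⟩ := hr
    refine ⟨P', ?_⟩
    apply PrimeSpectrum.localization_comap_injective A' (Submonoid.powers f)
    rw [← PrimeSpectrum.comap_comp_apply, hψ, PrimeSpectrum.comap_comp_apply, hP', hP]
  · intro K _ σ₁ σ₂ hσ
    apply IsLocalization.ringHom_ext (Submonoid.powers (φ f))
    apply hφ.2.2
    rw [RingHom.comp_assoc, RingHom.comp_assoc, ← hψ, ← RingHom.comp_assoc, ← RingHom.comp_assoc, hσ]

end Loc

section AwnLoc

variable {A A' : Type u} [CommRing A] [CommRing A']

/-- Existence of the canonical map `A^awn → A'^awn` for a localization `A → A' = A_f`, and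
`A'^awn` is the localization of `A^awn`. -/
theorem awn_loc_exists (g : A →+* A') (f : A)
    (hf : letI := g.toAlgebra; IsLocalization.Away f A') :
    ∃ χ : AwnRing A →+* AwnRing A', χ.comp (awnMap A) = (awnMap A').comp g ∧
      (letI := χ.toAlgebra; IsLocalization.Away (awnMap A f) (AwnRing A')) := by
  letI := g.toAlgebra
  haveI : IsLocalization.Away f A' := hf
  obtain ⟨φ, hφdef⟩ : ∃ φ : A →+* AwnRing A, φ = awnMap A := ⟨_, rfl⟩
  have hu : IsUnit (((algebraMap (AwnRing A) (Localization.Away (φ f))).comp φ) f) :=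
    IsLocalization.Away.algebraMap_isUnit (φ f)
  obtain ⟨ψ, hψdef⟩ : ∃ ψ : A' →+* Localization.Away (φ f),
      ψ = IsLocalization.Away.lift f hu := ⟨_, rfl⟩
  have hψ : ψ.comp (algebraMap A A') = (algebraMap (AwnRing A) (Localization.Away (φ f))).comp φ := by
    rw [hψdef]; exact IsLocalization.Away.lift_comp f hu
  have hRψ : RUH ψ := ruh_loc φ (hφdef ▸ awn_ruh A) f ψ hψ
  obtain ⟨χ', hχ', -⟩ := (awnMap_spec A').2 (Localization.Away (φ f)) ψ hRψ
  have hRχ' : RUH χ' := uhr_cancel ψ χ' hRψ (by rw [hχ']; exact awn_ruh A')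
  have hawn : HTop.IsAWNRing (Localization.Away (φ f)) :=
    awn_loc (φ f) (Localization.Away (φ f)) (awn_isAWN A)
  have hbij : Function.Bijective χ' := uhr_bij_of_isAWNRing χ' hRχ' hawn
  refine ⟨χ'.comp (algebraMap (AwnRing A) (Localization.Away (φ f))), ?_, ?_⟩
  · rw [RingHom.comp_assoc, ← hφdef, ← hψ, ← RingHom.comp_assoc, hχ']
    rfl
  · letI := (χ'.comp (algebraMap (AwnRing A) (Localization.Away (φ f)))).toAlgebra
    let e : Localization.Away (φ f) ≃ₐ[AwnRing A] AwnRing A' :=
      { RingEquiv.ofBijective χ' hbij with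
        commutes' := fun b => rfl }
    rw [← hφdef]
    exact IsLocalization.isLocalization_of_algEquiv (Submonoid.powers (φ f)) e

/-- the condition under which the canonical map is defined -/
def IsLocHom (g : A →+* A') : Prop :=
  ∃ f : A, letI := g.toAlgebra; IsLocalization.Away f A'

theorem awnLocMap_exists (g : A →+* A') (h : IsLocHom g) :
    ∃ χ : AwnRing A →+* AwnRing A', χ.comp (awnMap A) = (awnMap A').comp g := by
  obtain ⟨f, hf⟩ := h
  obtain ⟨χ, hχ, -⟩ := awn_loc_exists g f hf
  exact ⟨χ, hχ⟩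

/-- the canonical map `A^awn → A'^awn` -/
noncomputable def awnLocMap (g : A →+* A') (h : IsLocHom g) : AwnRing A →+* AwnRing A' :=
  Classical.choose (awnLocMap_exists g h)

theorem awnLocMap_comp (g : A →+* A') (h : IsLocHom g) :
    (awnLocMap g h).comp (awnMap A) = (awnMap A').comp g :=
  Classical.choose_spec (awnLocMap_exists g h)

theorem awnLocMap_unique (g : A →+* A') (h : IsLocHom g) (χ : AwnRing A →+* AwnRing A')
    (hχ : χ.comp (awnMap A) = (awnMap A').comp g) : χ = awnLocMap g h :=
  awn_hom_ext _ _ (hχ.trans (awnLocMap_comp g h).symm)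

theorem awnLocMap_isLocalization (g : A →+* A') (h : IsLocHom g) (f : A)
    (hf : letI := g.toAlgebra; IsLocalization.Away f A') :
    letI := (awnLocMap g h).toAlgebra
    IsLocalization.Away (awnMap A f) (AwnRing A') := by
  obtain ⟨χ, hχ, hloc⟩ := awn_loc_exists g f hf
  rw [← awnLocMap_unique g h χ hχ]
  exact hloc

end AwnLoc

end Groth.Agent.Lib.helper4
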