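import Mathlib
import Groth.Agent.Lib.helper4.AWN1

/-!
# The absolute weak normalization of a scheme, by relative gluing (helper4)
-/

set_option autoImplicit false
universe u
open CategoryTheory AlgebraicGeometry Opposite

namespace Groth.Agent.Lib.helper4

open Groth.Agent.Lib.helper7 Scheme.AffineZariskiSite

variable (X : Scheme.{u})

/-- restriction map for an arrow of the affine Zariski site -/
noncomputable def resHom {U V : X.AffineZariskiSite} (i : V ≤ U) : Γ(X, U.1) →+* Γ(X, V.1) :=
  (X.presheaf.map (homOfLE (toOpens_mono i)).op).hom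

theorem resHom_loc {U V : X.AffineZariskiSite} (i : V ≤ U) : IsLocHom (resHom X i) := by
  obtain ⟨f, hf⟩ := id i
  obtain ⟨V, hV⟩ := V
  change X.basicOpen f = V at hf
  subst hf
  exact ⟨f, U.2.isLocalization_basicOpen f⟩

theorem resHom_refl (U : X.AffineZariskiSite) : resHom X (le_refl U) = RingHom.id _ := by
  unfold resHom
  have : (homOfLE (toOpens_mono (le_refl U))).op = 𝟙 (op U.1) := rfl
  rw [this, X.presheaf.map_id]
  rfl

theorem resHom_trans {U V W : X.AffineZariskiSite} (i : V ≤ U) (j : W ≤ V) :
    resHom X (le_trans j i) = (resHom X j).comp (resHom X i) := by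
  unfold resHom
  have : (homOfLE (toOpens_mono (le_trans j i))).op =
      (homOfLE (toOpens_mono i)).op ≫ (homOfLE (toOpens_mono j)).op := rfl
  rw [this, X.presheaf.map_comp]
  rfl

/-- the presheaf of absolute weak normalizations on the affine Zariski site -/
noncomputable def awnF : X.AffineZariskiSiteᵒᵖ ⥤ CommRingCat.{u} where
  obj U := CommRingCat.of (AwnRing Γ(X, U.unop.1))
  map {U V} i := CommRingCat.ofHom (awnLocMap (resHom X i.unop.le) (resHom_loc X i.unop.le))
  map_id U := by
    apply CommRingCat.hom_ext
    rw [CommRingCat.hom_id, CommRingCat.hom_ofHom]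
    symm
    refine awnLocMap_unique (resHom X (𝟙 U).unop.le) (resHom_loc X _) (RingHom.id _) ?_
    have : resHom X (𝟙 U).unop.le = RingHom.id _ := resHom_refl X U.unop
    rw [this]
    rfl
  map_comp {U V W} i j := by
    apply CommRingCat.hom_ext
    rw [CommRingCat.hom_comp, CommRingCat.hom_ofHom, CommRingCat.hom_ofHom, CommRingCat.hom_ofHom]
    symm
    refine awnLocMap_unique (resHom X (i ≫ j).unop.le) (resHom_loc X _) _ ?_
    have : resHom X (i ≫ j).unop.le = (resHom X j.unop.le).comp (resHom X i.unop.le) :=
      resHom_trans X i.unop.le j.unop.le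
    rw [this]
    rw [RingHom.comp_assoc, awnLocMap_comp, ← RingHom.comp_assoc, awnLocMap_comp, RingHom.comp_assoc]

/-- the structure map `𝒪_X → awnF` -/
noncomputable def awnα : (toOpensFunctor X).op ⋙ X.presheaf ⟶ awnF X where
  app U := CommRingCat.ofHom (awnMap Γ(X, U.unop.1))
  naturality {U V} i := by
    apply CommRingCat.hom_ext
    rw [CommRingCat.hom_comp, CommRingCat.hom_comp]
    exact (awnLocMap_comp (resHom X i.unop.le) (resHom_loc X i.unop.le)).symm

theorem awnα_coequifibered : (awnα X).Coequifibered := by
  rw [coequifibered_iff_forall_isLocalizationAway]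
  intro U f
  exact awnLocMap_isLocalization (resHom X (U.basicOpen_le f)) (resHom_loc X _) f
    (U.2.isLocalization_basicOpen f)

end Groth.Agent.Lib.helper4
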