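import Mathlib
import Groth.Agent.Lib.helper4.AWN2

set_option autoImplicit false
universe u
open CategoryTheory AlgebraicGeometry Opposite Limits

namespace Groth.Agent.Lib.helper4

open Groth.Agent.Lib.helper7 Scheme.AffineZariskiSite

section UHProps

theorem isUnivHomeo_eq : @FlatMor.IsUnivHomeo.{u} =
    ((@UniversallyInjective ⊓ @Surjective ⊓ @UniversallyClosed : MorphismProperty Scheme.{u})) := by
  ext X Y f
  rw [uh_isUnivHomeo_iff]
  show _ ↔ ((UniversallyInjective f ∧ Surjective f) ∧ UniversallyClosed f)
  tauto

instance : IsZariskiLocalAtTarget @FlatMor.IsUnivHomeo.{u} := by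
  rw [isUnivHomeo_eq]
  infer_instance

instance : MorphismProperty.IsStableUnderBaseChange @FlatMor.IsUnivHomeo.{u} := by
  rw [isUnivHomeo_eq]
  infer_instance

instance : MorphismProperty.IsMultiplicative @FlatMor.IsUnivHomeo.{u} := by
  rw [isUnivHomeo_eq]
  infer_instance

instance : MorphismProperty.RespectsIso @FlatMor.IsUnivHomeo.{u} := inferInstance

end UHProps

variable (X : Scheme.{u})

noncomputable def awnData : (Scheme.AffineZariskiSite.directedCover X).RelativeGluingData :=
  relativeGluingData (awnα_coequifibered X)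

instance : ((awnData X).functor ⋙ Scheme.forget).IsLocallyDirected :=
  Scheme.Cover.RelativeGluingData.instIsLocallyDirectedI₀CompFunctorForgetOfIsThin ..

noncomputable def awnScheme : Scheme.{u} := (awnData X).glued

noncomputable def awnν : awnScheme X ⟶ X := (awnData X).toBase

noncomputable def awnCover : (awnScheme X).OpenCover := (awnData X).cover

theorem awn_ι_ν (U : X.AffineZariskiSite) :
    (awnCover X).f U ≫ awnν X = Spec.map ((awnα X).app (op U)) ≫ U.2.fromSpec :=
  colimit.ι_desc (F := (awnData X).functor) _ _

example (U : X.AffineZariskiSite) : (awnCover X).X U = Spec ((awnF X).obj (op U)) := rfl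

theorem awn_isPullback (U : X.AffineZariskiSite) :
    IsPullback ((awnData X).natTrans.app U) ((awnCover X).f U) U.1.ι (awnν X) :=
  (awnData X).isPullback_natTrans_ι_toBase U

theorem awn_natTrans_app (U : X.AffineZariskiSite) :
    (awnData X).natTrans.app U = Spec.map ((awnα X).app (op U)) ≫ U.2.isoSpec.inv := rfl

theorem awn_uh_natTrans (U : X.AffineZariskiSite) :
    FlatMor.IsUnivHomeo ((awnData X).natTrans.app U) := by
  rw [awn_natTrans_app]
  exact (MorphismProperty.cancel_right_of_respectsIso @FlatMor.IsUnivHomeo _ _).mpr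
    ((uhr_iff _).mpr (awn_ruh _))

theorem awnν_isUnivHomeo : FlatMor.IsUnivHomeo (awnν X) := by
  apply IsZariskiLocalAtTarget.of_openCover (Scheme.AffineZariskiSite.directedCover X)
  intro U
  have h := (awn_isPullback X U).flip
  have h1 : h.isoPullback.hom ≫ pullback.snd _ _ = (awnData X).natTrans.app U :=
    h.isoPullback_hom_snd
  have h2 := awn_uh_natTrans X U
  rw [← h1] at h2
  exact (MorphismProperty.cancel_left_of_respectsIso @FlatMor.IsUnivHomeo _ _).mp h2

end Groth.Agent.Lib.helper4
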