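import Mathlib
import Groth.Agent.Lib.helper4.AWN3

set_option autoImplicit false
universe u
open CategoryTheory AlgebraicGeometry Opposite Limits

namespace Groth.Agent.Lib.helper4

open Groth.Agent.Lib.helper7 Scheme.AffineZariskiSite

section Univ

variable {X Y : Scheme.{u}} (π : Y ⟶ X) (hπ : FlatMor.IsUnivHomeo π)

include hπ

theorem uh_isHomeomorph : IsHomeomorph π :=
  hπ (𝟙 Y) (𝟙 X) π IsPullback.of_id_snd

theorem uh_isAffineHom : IsAffineHom π := by
  apply isAffineHom_of_isInducing π (uh_isHomeomorph π hπ).isInducing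
  rw [(uh_isHomeomorph π hπ).surjective.range_eq]
  exact isClosed_univ

theorem uh_app_ruh (U : X.Opens) (hU : IsAffineOpen U) : RUH (π.app U).hom := by
  haveI := uh_isAffineHom π hπ
  have hV : IsAffineOpen (π ⁻¹ᵁ U) := hU.preimage π
  have hpb : IsPullback (Spec.map (π.app U)) hV.fromSpec hU.fromSpec π := by
    apply IsOpenImmersion.isPullback
    · rw [← IsAffineOpen.SpecMap_appLE_fromSpec π hU hV le_rfl, Scheme.Hom.appLE_eq_app]
    · rw [IsAffineOpen.opensRange_fromSpec, IsAffineOpen.opensRange_fromSpec]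
  have h1 : FlatMor.IsUnivHomeo (Spec.map (π.app U)) := MorphismProperty.of_isPullback hpb.flip hπ
  exact (uhr_iff _).mp h1

theorem uh_preimage_affine (U : X.AffineZariskiSite) : IsAffineOpen (π ⁻¹ᵁ U.1) := by
  haveI := uh_isAffineHom π hπ
  exact U.2.preimage π

/-- the ring map `Γ(Y, π⁻¹U) → Γ(X,U)^awn` -/
noncomputable def uhχ (U : X.AffineZariskiSite) : Γ(Y, π ⁻¹ᵁ U.1) →+* AwnRing Γ(X, U.1) :=
  Classical.choose
    ((awnMap_spec Γ(X, U.1)).2 _ (π.app U.1).hom (uh_app_ruh π hπ U.1 U.2)).exists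

theorem uhχ_comp (U : X.AffineZariskiSite) :
    (uhχ π hπ U).comp (π.app U.1).hom = awnMap Γ(X, U.1) :=
  Classical.choose_spec
    ((awnMap_spec Γ(X, U.1)).2 _ (π.app U.1).hom (uh_app_ruh π hπ U.1 U.2)).exists

theorem uhχ_unique (U : X.AffineZariskiSite) (χ : Γ(Y, π ⁻¹ᵁ U.1) →+* AwnRing Γ(X, U.1))
    (h : χ.comp (π.app U.1).hom = awnMap Γ(X, U.1)) : χ = uhχ π hπ U :=
  ruh_hom_ext (π.app U.1).hom (uh_app_ruh π hπ U.1 U.2) _ _ (h.trans (uhχ_comp π hπ U).symm)

/-- the local pieces of the comparison morphism -/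
noncomputable def uhg (U : X.AffineZariskiSite) : Spec ((awnF X).obj (op U)) ⟶ Y :=
  Spec.map (CommRingCat.ofHom (uhχ π hπ U)) ≫ (uh_preimage_affine π hπ U).fromSpec

theorem uhg_compat {V U : X.AffineZariskiSite} (hij : V ⟶ U) :
    Spec.map ((awnF X).map hij.op) ≫ uhg π hπ U = uhg π hπ V := by
  have hle : π ⁻¹ᵁ V.1 ≤ π ⁻¹ᵁ U.1 := π.preimage_mono (toOpens_mono hij.le)
  unfold uhg
  rw [← (uh_preimage_affine π hπ U).map_fromSpec (uh_preimage_affine π hπ V) (homOfLE hle).op]
  rw [← Category.assoc, ← Category.assoc]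
  congr 1
  rw [← Spec.map_comp, ← Spec.map_comp]
  congr 1
  apply CommRingCat.hom_ext
  show (awnLocMap (resHom X hij.le) (resHom_loc X hij.le)).comp (uhχ π hπ U) =
    (uhχ π hπ V).comp (Y.presheaf.map (homOfLE hle).op).hom
  apply ruh_hom_ext (π.app U.1).hom (uh_app_ruh π hπ U.1 U.2)
  rw [RingHom.comp_assoc, uhχ_comp, awnLocMap_comp, RingHom.comp_assoc]
  have hnat : (Y.presheaf.map (homOfLE hle).op).hom.comp (π.app U.1).hom =
      (π.app V.1).hom.comp (resHom X hij.le) := by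
    have h1 := π.naturality (homOfLE (toOpens_mono hij.le)).op
    have h2 := congrArg CommRingCat.Hom.hom h1
    rw [CommRingCat.hom_comp, CommRingCat.hom_comp] at h2
    exact h2.symm
  rw [hnat, ← RingHom.comp_assoc, uhχ_comp]

/-- the comparison morphism `X^awn ⟶ Y` -/
noncomputable def uhLift : awnScheme X ⟶ Y :=
  (awnData X).cover.glueMorphismsOfLocallyDirected (uhg π hπ) (fun hij => uhg_compat π hπ hij)

theorem uhLift_ι (U : X.AffineZariskiSite) :
    (awnCover X).f U ≫ uhLift π hπ = uhg π hπ U :=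
  (awnData X).cover.map_glueMorphismsOfLocallyDirected (uhg π hπ)
    (fun hij => uhg_compat π hπ hij) U

theorem uh_fromSpec_comp (U : X.AffineZariskiSite) :
    (uh_preimage_affine π hπ U).fromSpec ≫ π = Spec.map (π.app U.1) ≫ U.2.fromSpec := by
  rw [← IsAffineOpen.SpecMap_appLE_fromSpec π U.2 (uh_preimage_affine π hπ U) le_rfl,
    Scheme.Hom.appLE_eq_app]

theorem uhg_comp (U : X.AffineZariskiSite) :
    uhg π hπ U ≫ π = Spec.map ((awnα X).app (op U)) ≫ U.2.fromSpec := by
  unfold uhg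
  rw [Category.assoc, uh_fromSpec_comp π hπ U, ← Category.assoc, ← Spec.map_comp]
  congr 2
  apply CommRingCat.hom_ext
  exact uhχ_comp π hπ U

theorem uhg_unique (U : X.AffineZariskiSite) (k : Spec ((awnF X).obj (op U)) ⟶ Y)
    (hk : k ≫ π = Spec.map ((awnα X).app (op U)) ≫ U.2.fromSpec) : k = uhg π hπ U := by
  have hrange : Set.range k ⊆ Set.range (uh_preimage_affine π hπ U).fromSpec := by
    rw [IsAffineOpen.range_fromSpec]
    rintro _ ⟨x, rfl⟩
    show π (k x) ∈ U.1
    rw [← Scheme.Hom.comp_apply, hk]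
    have : (Spec.map ((awnα X).app (op U)) ≫ U.2.fromSpec) x ∈ Set.range U.2.fromSpec := by
      rw [Scheme.Hom.comp_apply]; exact ⟨_, rfl⟩
    rw [IsAffineOpen.range_fromSpec] at this
    exact this
  obtain ⟨c, hc⟩ := Spec.map_surjective
    (IsOpenImmersion.lift (uh_preimage_affine π hπ U).fromSpec k hrange)
  have hfac : Spec.map c ≫ (uh_preimage_affine π hπ U).fromSpec = k := by
    rw [hc]; exact IsOpenImmersion.lift_fac _ _ _
  rw [← hfac]
  unfold uhg
  congr 2
  apply CommRingCat.hom_ext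
  show c.hom = uhχ π hπ U
  apply uhχ_unique
  have h3 : Spec.map c ≫ Spec.map (π.app U.1) ≫ U.2.fromSpec =
      Spec.map ((awnα X).app (op U)) ≫ U.2.fromSpec := by
    rw [← uh_fromSpec_comp π hπ U, ← Category.assoc, hfac, hk]
  rw [← Category.assoc] at h3
  have h3' := (cancel_mono U.2.fromSpec).mp h3
  rw [← Spec.map_comp] at h3'
  have h4 := Spec.map_injective h3'
  exact congrArg CommRingCat.Hom.hom h4

theorem uhLift_comp : uhLift π hπ ≫ π = awnν X := by
  apply (awnCover X).hom_ext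
  intro (U : X.AffineZariskiSite)
  rw [← Category.assoc, uhLift_ι, awn_ι_ν]
  exact uhg_comp π hπ U

theorem uhLift_unique (h' : awnScheme X ⟶ Y) (hh' : h' ≫ π = awnν X) : h' = uhLift π hπ := by
  apply (awnCover X).hom_ext
  intro (U : X.AffineZariskiSite)
  rw [uhLift_ι]
  have hk : ((awnCover X).f U ≫ h') ≫ π = Spec.map ((awnα X).app (op U)) ≫ U.2.fromSpec := by
    rw [Category.assoc, hh', awn_ι_ν]
  exact uhg_unique π hπ U _ hk

end Univ

end Groth.Agent.Lib.helper4
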