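import Mathlib
import Groth.Agent.Lib.helper4.SNLoc

/-!
# Affine-local ring properties of schemes (helper4)
-/

set_option autoImplicit false
universe u
open CategoryTheory AlgebraicGeometry

namespace Groth.Agent.Lib.helper4

theorem affine_local (P : ∀ (A : Type u) [CommRing A], Prop)
    (hloc : ∀ (A : Type u) [CommRing A] (f : A) (B : Type u) [CommRing B] [Algebra A B]
      [IsLocalization.Away f B], P A → P B)
    (hglue : ∀ (A : Type u) [CommRing A] (ι : Type u) [Fintype ι] (f : ι → A),
      Ideal.span (Set.range f) = ⊤ → ∀ (B : ι → Type u) [∀ i, CommRing (B i)]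
      [∀ i, Algebra A (B i)] [∀ i, IsLocalization.Away (f i) (B i)], (∀ i, P (B i)) → P A)
    (X : Scheme.{u}) :
    (∀ x : X, ∃ U : X.affineOpens, x ∈ (U : X.Opens) ∧ P Γ(X, U)) ↔
      ∀ U : X.affineOpens, P Γ(X, U) := by
  constructor
  · intro h V
    choose U hxU hPU using h
    have hsup : (⨆ x, (U x : X.Opens)) = ⊤ := by
      rw [eq_top_iff]
      intro x _
      exact TopologicalSpace.Opens.mem_iSup.mpr ⟨x, hxU x⟩
    refine of_affine_open_cover (P := fun W => P Γ(X, W)) U hsup V ?_ ?_ hPU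
    · intro W f hW
      haveI := W.2.isLocalization_basicOpen f
      exact hloc Γ(X, W) f Γ(X, X.basicOpen f) hW
    · intro W s hs hW
      have hr : Set.range (fun i : s => (i : Γ(X, W))) = (s : Set Γ(X, W)) := by
        ext x; simp
      haveI : ∀ i : s, IsLocalization.Away (i : Γ(X, W)) Γ(X, X.basicOpen (i : Γ(X, W))) :=
        fun i => W.2.isLocalization_basicOpen i.1
      exact hglue Γ(X, W) s (fun i : s => (i : Γ(X, W))) (by rw [hr]; exact hs)
        (fun i : s => Γ(X, X.basicOpen (i : Γ(X, W)))) (fun i => hW i)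
  · intro h x
    obtain ⟨W, hW, hxW, -⟩ := exists_isAffineOpen_mem_and_subset (X := X) (x := x) (U := ⊤) trivial
    exact ⟨⟨W, hW⟩, hxW, h ⟨W, hW⟩⟩

end Groth.Agent.Lib.helper4
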