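import Mathlib
import Groth.Agent.Lib.helper4.AWN4
import Groth.Agent.Lib.helper4.SNLoc2

set_option autoImplicit false
universe u
open CategoryTheory AlgebraicGeometry Opposite Limits

namespace Groth.Agent.Lib.helper4

open Groth.Agent.Lib.helper7 Scheme.AffineZariskiSite

variable (X : Scheme.{u})

theorem isAWNormalization_awnν : HTop.IsAWNormalization (awnν X) :=
  ⟨awnν_isUnivHomeo X, fun _ π hπ =>
    ⟨uhLift π hπ, uhLift_comp π hπ, fun h' hh' => uhLift_unique π hπ h' hh'⟩⟩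

/-- two absolute weak normalizations are isomorphic via any comparison map -/
theorem awn_unique_iso {X X₁ X₂ : Scheme.{u}} (ν₁ : X₁ ⟶ X) (ν₂ : X₂ ⟶ X)
    (h₁ : HTop.IsAWNormalization ν₁) (h₂ : HTop.IsAWNormalization ν₂) (h : X₁ ⟶ X₂)
    (hh : h ≫ ν₂ = ν₁) : IsIso h := by
  obtain ⟨b, hb, -⟩ := h₂.2 X₁ ν₁ h₁.1
  obtain ⟨i₁, -, hu₁⟩ := h₁.2 X₁ ν₁ h₁.1
  obtain ⟨i₂, -, hu₂⟩ := h₂.2 X₂ ν₂ h₂.1
  have e1 : h ≫ b = 𝟙 X₁ := by
    rw [hu₁ (h ≫ b) (by show (h ≫ b) ≫ ν₁ = ν₁; rw [Category.assoc, hb, hh]),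
      hu₁ (𝟙 X₁) (Category.id_comp _)]
  have e2 : b ≫ h = 𝟙 X₂ := by
    rw [hu₂ (b ≫ h) (by show (b ≫ h) ≫ ν₂ = ν₂; rw [Category.assoc, hh, hb]),
      hu₂ (𝟙 X₂) (Category.id_comp _)]
  exact ⟨b, e1, e2⟩

theorem isAWN_iff_affine : HTop.IsAWN X ↔ ∀ U : X.affineOpens, HTop.IsAWNRing Γ(X, U) :=
  affine_local (fun A _ => HTop.IsAWNRing A)
    (fun _ _ f B _ _ _ h => awn_loc f B h)
    (fun _ _ _ _ f hf B _ _ _ h => awn_glue f hf B h) X

theorem isAWN_of_iso {X Z : Scheme.{u}} (e : X ≅ Z) (hZ : HTop.IsAWN Z) : HTop.IsAWN X := by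
  rw [isAWN_iff_affine] at hZ ⊢
  intro U
  have hV : IsAffineOpen (e.inv ⁻¹ᵁ U.1) := U.2.preimage_of_isIso e.inv
  have h1 := hZ ⟨e.inv ⁻¹ᵁ U.1, hV⟩
  exact awn_of_equiv (asIso (e.inv.app U.1)).symm.commRingCatIsoToRingEquiv h1

theorem awnScheme_isAWN : HTop.IsAWN (awnScheme X) := by
  intro x
  obtain ⟨U, y, hy⟩ := (awnCover X).exists_eq x
  haveI : IsAffine ((awnCover X).X U) := inferInstanceAs (IsAffine (Spec _))
  refine ⟨⟨((awnCover X).f U).opensRange, isAffineOpen_opensRange _⟩, ⟨y, hy⟩, ?_⟩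
  let e : Γ(awnScheme X, ((awnCover X).f U).opensRange) ≅ (awnF X).obj (op U) :=
    (IsOpenImmersion.ΓIsoTop ((awnCover X).f U)).symm ≪≫ Scheme.ΓSpecIso _
  exact awn_of_equiv e.symm.commRingCatIsoToRingEquiv (awn_isAWN _)

instance awnScheme_isReduced : IsReduced (awnScheme X) := by
  haveI : ∀ U, IsReduced ((awnCover X).X U) := by
    intro U
    show IsReduced (Spec ((awnF X).obj (op U)))
    haveI : _root_.IsReduced ((awnF X).obj (op U)) := awn_reduced _
    infer_instance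
  exact IsReduced.of_openCover _ (awnCover X)

/-- properties local on the target can be checked for `awnν` on the pieces -/
theorem awnν_of_local (P : MorphismProperty Scheme.{u}) [IsZariskiLocalAtTarget P]
    (h : ∀ U : X.AffineZariskiSite, P (Spec.map ((awnα X).app (op U)))) : P (awnν X) := by
  apply IsZariskiLocalAtTarget.of_openCover (Scheme.AffineZariskiSite.directedCover X)
  intro U
  have hp := (awn_isPullback X U).flip
  have h1 : hp.isoPullback.hom ≫ pullback.snd _ _ = (awnData X).natTrans.app U :=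
    hp.isoPullback_hom_snd
  have h2 : P ((awnData X).natTrans.app U) := by
    rw [awn_natTrans_app]
    exact (MorphismProperty.cancel_right_of_respectsIso P _ _).mpr (h U)
  rw [← h1] at h2
  exact (MorphismProperty.cancel_left_of_respectsIso P _ _).mp h2

theorem isIso_ofHom_of_bijective {A B : Type u} [CommRing A] [CommRing B] (φ : A →+* B)
    (h : Function.Bijective φ) : IsIso (CommRingCat.ofHom φ) := by
  have : CommRingCat.ofHom φ = (RingEquiv.ofBijective φ h).toCommRingCatIso.hom := rfl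
  rw [this]
  infer_instance

theorem awnν_isIso_of_isAWN (hX : HTop.IsAWN X) : IsIso (awnν X) := by
  rw [isAWN_iff_affine] at hX
  apply awnν_of_local X (MorphismProperty.isomorphisms Scheme.{u})
  intro U
  have hbij : Function.Bijective (awnMap Γ(X, U.1)) :=
    uhr_bij_of_isAWNRing (awnMap Γ(X, U.1)) (awn_ruh _) (hX ⟨U.1, U.2⟩)
  haveI : IsIso ((awnα X).app (op U)) := isIso_ofHom_of_bijective _ hbij
  show IsIso (Spec.map ((awnα X).app (op U)))
  infer_instance

end Groth.Agent.Lib.helper4
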