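import Mathlib
import Groth.Agent.Lib.helper4.AWN5

set_option autoImplicit false
universe u
open CategoryTheory AlgebraicGeometry Opposite Limits

namespace Groth.Agent.Lib.helper4

open Groth.Agent.Lib.helper7 Scheme.AffineZariskiSite

/-- the cover of a scheme by the spectra of the rings of sections on its affine opens -/
noncomputable def affCover (X : Scheme.{u}) : X.OpenCover where
  I₀ := X.AffineZariskiSite
  X U := Spec Γ(X, U.1)
  f U := U.2.fromSpec
  mem₀ := by
    rw [Scheme.presieve₀_mem_precoverage_iff]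
    refine ⟨fun x ↦ ?_, inferInstance⟩
    obtain ⟨U, hxU⟩ := TopologicalSpace.Opens.mem_iSup.mp
      ((iSup_affineOpens_eq_top X).ge (Set.mem_univ x))
    have : x ∈ Set.range U.2.fromSpec := by rw [IsAffineOpen.range_fromSpec]; exact hxU
    exact ⟨U, this⟩

section

variable {X Y : Scheme.{u}} (π : Y ⟶ X) (hπ : FlatMor.IsUnivHomeo π)

include hπ

theorem uh_isPullback (U : X.AffineZariskiSite) :
    IsPullback (Spec.map (π.app U.1)) (uh_preimage_affine π hπ U).fromSpec U.2.fromSpec π := by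
  apply IsOpenImmersion.isPullback
  · exact uh_fromSpec_comp π hπ U
  · rw [IsAffineOpen.opensRange_fromSpec, IsAffineOpen.opensRange_fromSpec]

theorem uh_of_local (P : MorphismProperty Scheme.{u}) [IsZariskiLocalAtTarget P]
    (h : ∀ U : X.AffineZariskiSite, P (Spec.map (π.app U.1))) : P π := by
  apply IsZariskiLocalAtTarget.of_openCover (affCover X)
  intro U
  have hp := (uh_isPullback π hπ U).flip
  have h1 : hp.isoPullback.hom ≫ pullback.snd _ _ = Spec.map (π.app U.1) :=
    hp.isoPullback_hom_snd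
  have h2 := h U
  rw [← h1] at h2
  exact (MorphismProperty.cancel_left_of_respectsIso P _ _).mp h2

theorem isIso_of_uh_of_isAWN (hX : HTop.IsAWN X) [IsReduced Y] : IsIso π := by
  rw [isAWN_iff_affine] at hX
  apply uh_of_local π hπ (MorphismProperty.isomorphisms Scheme.{u})
  intro U
  have hbij : Function.Bijective (π.app U.1).hom :=
    uhr_bij_of_isAWNRing (π.app U.1).hom (uh_app_ruh π hπ U.1 U.2) (hX ⟨U.1, U.2⟩)
  haveI : IsIso (π.app U.1) := isIso_ofHom_of_bijective _ hbij
  show IsIso (Spec.map (π.app U.1))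
  infer_instance

end

variable (X : Scheme.{u})

theorem id_isAWNormalization_of_isAWN (hX : HTop.IsAWN X) : HTop.IsAWNormalization (𝟙 X) := by
  haveI := awnν_isIso_of_isAWN X hX
  refine ⟨MorphismProperty.id_mem _ X, fun Y π hπ => ?_⟩
  refine ⟨inv (awnν X) ≫ uhLift π hπ, ?_, ?_⟩
  · show (inv (awnν X) ≫ uhLift π hπ) ≫ π = 𝟙 X
    rw [Category.assoc, uhLift_comp, IsIso.inv_hom_id]
  · intro h' hh'
    have h1 : awnν X ≫ h' = uhLift π hπ :=
      uhLift_unique π hπ _ (by rw [Category.assoc, hh', Category.comp_id])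
    rw [← h1, IsIso.inv_hom_id_assoc]

theorem isAWN_of_isIso_awnν [IsIso (awnν X)] : HTop.IsAWN X :=
  isAWN_of_iso (asIso (awnν X)).symm (awnScheme_isAWN X)

theorem isAWN_of_id_isAWNormalization (h : HTop.IsAWNormalization (𝟙 X)) : HTop.IsAWN X := by
  haveI : IsIso (awnν X) := awn_unique_iso (awnν X) (𝟙 X) (isAWNormalization_awnν X) h (awnν X)
    (Category.comp_id _)
  exact isAWN_of_isIso_awnν X

theorem isAWNormalization_of_isAWN_source {X Y : Scheme.{u}} (π : Y ⟶ X)
    (hπ : FlatMor.IsUnivHomeo π) (hY : HTop.IsAWN Y) : HTop.IsAWNormalization π := by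
  have hid := id_isAWNormalization_of_isAWN Y hY
  refine ⟨hπ, fun Z ρ hρ => ?_⟩
  have hp : FlatMor.IsUnivHomeo (pullback.snd ρ π) := MorphismProperty.pullback_snd _ _ hρ
  obtain ⟨s, hs, hsu⟩ := hid.2 _ (pullback.snd ρ π) hp
  refine ⟨s ≫ pullback.fst ρ π, ?_, ?_⟩
  · show (s ≫ pullback.fst ρ π) ≫ ρ = π
    rw [Category.assoc, pullback.condition, ← Category.assoc, hs, Category.id_comp]
  · intro k hk
    have h1 := hsu (pullback.lift k (𝟙 Y) (by rw [hk, Category.id_comp])) (pullback.lift_snd _ _ _)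
    rw [← h1, pullback.lift_fst]

theorem isAWN_source_of_isAWNormalization {X X' : Scheme.{u}} (ν : X' ⟶ X)
    (hν : HTop.IsAWNormalization ν) : HTop.IsAWN X' := by
  obtain ⟨a, ha, -⟩ := hν.2 _ (awnν X) (awnν_isUnivHomeo X)
  haveI : IsIso a := awn_unique_iso ν (awnν X) hν (isAWNormalization_awnν X) a ha
  exact isAWN_of_iso (asIso a) (awnScheme_isAWN X)

end Groth.Agent.Lib.helper4
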