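import Mathlib

/-!
# Finitely generated submodules of free modules over a Bezout domain are free (helper4)
-/

set_option autoImplicit false

namespace Groth.Agent.Lib.helper4.BezFree

universe u v

section split

variable {R : Type u} [CommRing R] {N : Type v} [AddCommGroup N] [Module R N]
  (q : N →ₗ[R] R) (s : R →ₗ[R] N) (hqs : ∀ r, q (s r) = r)

/-- projection onto the kernel along a section -/
noncomputable def kerProj (hqs : ∀ r, q (s r) = r) : N →ₗ[R] LinearMap.ker q :=
  LinearMap.codRestrict (LinearMap.ker q) (LinearMap.id - s ∘ₗ q) (by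
    intro y
    rw [LinearMap.mem_ker]
    simp [hqs])

theorem kerProj_coe (y : N) : ((kerProj q s hqs y : LinearMap.ker q) : N) = y - s (q y) := rfl

/-- the splitting equivalence -/
noncomputable def splitEquiv : N ≃ₗ[R] (LinearMap.ker q × R) :=
  LinearEquiv.ofLinearMap
    (LinearMap.prod (kerProj q s hqs) q)
    (LinearMap.coprod (LinearMap.ker q).subtype s)
    (by
      apply LinearMap.ext
      rintro ⟨z, r⟩
      have hz : q z.1 = 0 := z.2
      refine Prod.ext (Subtype.ext ?_) ?_
      · simp [kerProj_coe, hqs, hz]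
      · simp [hqs, hz])
    (by
      apply LinearMap.ext
      intro y
      simp [kerProj_coe])

include s hqs in
theorem free_of_split [Module.Free R (LinearMap.ker q)] : Module.Free R N :=
  Module.Free.of_equiv (splitEquiv q s hqs).symm

include s hqs in
theorem finite_ker_of_split [Module.Finite R N] : Module.Finite R (LinearMap.ker q) :=
  Module.Finite.of_surjective (kerProj q s hqs) (by
    intro z
    refine ⟨z.1, Subtype.ext ?_⟩
    have hz : q z.1 = 0 := z.2
    simp [kerProj_coe, hz])

end split

theorem equiv_map_of_injOn {R : Type u} [CommRing R] {M M' : Type*} [AddCommGroup M] [Module R M]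
    [AddCommGroup M'] [Module R M'] (N : Submodule R M) (ψ : M →ₗ[R] M')
    (hinj : ∀ y ∈ N, ψ y = 0 → y = 0) : Nonempty (N ≃ₗ[R] N.map ψ) := by
  refine ⟨LinearEquiv.ofBijective (ψ.submoduleMap N) ⟨?_, ?_⟩⟩
  · rw [← LinearMap.ker_eq_bot, eq_bot_iff]
    intro y hy
    have h1 : ψ y.1 = 0 := by
      have := congrArg Subtype.val (LinearMap.mem_ker.mp hy)
      simpa using this
    exact (Submodule.mem_bot R).mpr (Subtype.ext (hinj y.1 y.2 h1))
  · rintro ⟨z, y, hy, rfl⟩
    exact ⟨⟨y, hy⟩, rfl⟩

theorem free_of_fg_fin {R : Type u} [CommRing R] [IsDomain R] [IsBezout R] :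
    ∀ (n : ℕ) (N : Submodule R (Fin n → R)), N.FG → Module.Free R N := by
  intro n
  induction n with
  | zero =>
    intro N _
    exact Module.Free.of_subsingleton R N
  | succ n ih =>
    intro N hN
    obtain ⟨π, hπ⟩ : ∃ π : (Fin (n + 1) → R) →ₗ[R] R, ∀ y, π y = y 0 := ⟨LinearMap.proj 0, fun _ => rfl⟩
    obtain ⟨τ, hτdef⟩ : ∃ τ : (Fin (n + 1) → R) →ₗ[R] (Fin n → R), ∀ y i, τ y i = y i.succ :=
      ⟨LinearMap.pi (fun i => LinearMap.proj i.succ), fun _ _ => rfl⟩
    have hτ : ∀ y, π y = 0 → τ y = 0 → y = 0 := by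
      intro y h0 ht
      funext i
      refine Fin.cases ?_ (fun j => ?_) i
      · exact (hπ y).symm.trans h0
      · exact (hτdef y j).symm.trans (congrFun ht j)
    have hIfg : (N.map π).FG := hN.map π
    obtain ⟨a, ha⟩ := (IsBezout.isPrincipal_of_FG (N.map π) hIfg).principal
    by_cases ha0 : a = 0
    · have h0 : ∀ y ∈ N, π y = 0 := by
        intro y hy
        have : π y ∈ N.map π := Submodule.mem_map_of_mem hy
        rw [ha, ha0] at this
        obtain ⟨r, hr⟩ := Submodule.mem_span_singleton.mp this
        rw [← hr, smul_zero]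
      obtain ⟨e⟩ := equiv_map_of_injOn N τ (fun y hy hty => hτ y (h0 y hy) hty)
      haveI := ih (N.map τ) (hN.map τ)
      exact Module.Free.of_equiv e.symm
    · have hamem : a ∈ N.map π := by rw [ha]; exact Submodule.mem_span_singleton_self a
      obtain ⟨x, hxN, hxa⟩ := hamem
      have hdiv : ∀ y : N, ∃ r : R, r * a = π y.1 := fun y => by
        have : π y.1 ∈ N.map π := Submodule.mem_map_of_mem y.2
        rw [ha] at this
        exact Submodule.mem_span_singleton.mp this
      choose qf hqf using hdiv
      let q : N →ₗ[R] R :=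
        { toFun := qf
          map_add' := fun y z => mul_right_cancel₀ ha0 (by
            rw [add_mul, hqf, hqf, hqf, Submodule.coe_add, map_add])
          map_smul' := fun r y => mul_right_cancel₀ ha0 (by
            rw [hqf, Submodule.coe_smul, map_smul, RingHom.id_apply, smul_eq_mul, smul_eq_mul,
              mul_assoc, hqf]) }
      have hq : ∀ y : N, q y * a = π y.1 := hqf
      have hqx : q ⟨x, hxN⟩ = 1 := mul_right_cancel₀ ha0 (by rw [hq, one_mul]; exact hxa)
      let s : R →ₗ[R] N := LinearMap.toSpanSingleton R N ⟨x, hxN⟩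
      have hqs : ∀ r, q (s r) = r := fun r => by
        show q (r • ⟨x, hxN⟩) = r
        rw [map_smul, hqx, smul_eq_mul, mul_one]
      haveI : Module.Finite R N := Module.Finite.iff_fg.mpr hN
      haveI hfin := finite_ker_of_split q s hqs
      have hker : ∀ y ∈ LinearMap.ker q, π y.1 = 0 := fun y hy => by
        rw [← hq, LinearMap.mem_ker.mp hy, zero_mul]
      obtain ⟨e⟩ := equiv_map_of_injOn (LinearMap.ker q) (τ ∘ₗ N.subtype)
        (fun y hy hψ => Subtype.ext (hτ y.1 (hker y hy) hψ))
      have hfg : ((LinearMap.ker q).map (τ ∘ₗ N.subtype)).FG :=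
        (Module.Finite.iff_fg.mp hfin).map _
      haveI := ih _ hfg
      haveI : Module.Free R (LinearMap.ker q) := Module.Free.of_equiv e.symm
      exact free_of_split q s hqs

theorem free_of_fg {R : Type u} [CommRing R] [IsDomain R] [IsBezout R]
    {F : Type v} [AddCommGroup F] [Module R F] [Module.Free R F] (N : Submodule R F)
    (hN : N.FG) : Module.Free R N := by
  classical
  obtain ⟨b⟩ : Nonempty (Module.Basis (Module.Free.ChooseBasisIndex R F) R F) :=
    ⟨Module.Free.chooseBasis R F⟩
  have hN' := hN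
  obtain ⟨T, hT⟩ := hN
  obtain ⟨J, hJ⟩ : ∃ J : Finset (Module.Free.ChooseBasisIndex R F),
      J = T.biUnion (fun t => (b.repr t).support) := ⟨_, rfl⟩
  have hsupp : ∀ y ∈ N, (b.repr y).support ⊆ J := by
    intro y hy
    rw [← hT] at hy
    induction hy using Submodule.span_induction with
    | mem t ht =>
      rw [hJ]
      exact Finset.subset_biUnion_of_mem (fun t => (b.repr t).support) ht
    | zero => simp
    | add y z _ _ hy hz =>
      rw [map_add]
      exact (Finsupp.support_add).trans (Finset.union_subset hy hz)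
    | smul r y _ hy =>
      rw [map_smul]
      exact (Finsupp.support_smul).trans hy
  obtain ⟨φ, hφ⟩ : ∃ φ : F →ₗ[R] (J → R), ∀ y j, φ y j = b.repr y j.1 :=
    ⟨LinearMap.pi (fun j => b.coord j.1), fun _ _ => rfl⟩
  have hinj : ∀ y ∈ N, φ y = 0 → y = 0 := by
    intro y hy h0
    apply b.repr.injective
    rw [map_zero]
    ext i
    by_cases hi : i ∈ J
    · have := congrFun h0 ⟨i, hi⟩
      rw [hφ] at this
      exact this
    · exact Finsupp.notMem_support_iff.mp (fun h => hi (hsupp y hy h))
  obtain ⟨e⟩ := equiv_map_of_injOn N φ hinj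
  let ε : (J → R) ≃ₗ[R] (Fin J.card → R) := LinearEquiv.funCongrLeft R R J.equivFin.symm
  have hfg : ((N.map φ).map (ε : (J → R) →ₗ[R] (Fin J.card → R))).FG := (hN'.map φ).map _
  haveI := free_of_fg_fin J.card _ hfg
  haveI : Module.Free R (N.map φ) := Module.Free.of_equiv (ε.submoduleMap (N.map φ)).symm
  exact Module.Free.of_equiv e.symm

end Groth.Agent.Lib.helper4.BezFree
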