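import Mathlib

/-!
# Refinement lemmas for Čech-type coverings (helper4)
-/

namespace Groth.Agent.Lib.helper4

open Set

theorem h4_cech_refine_core {X : Type*} [TopologicalSpace X] (Z : Set X) {ι : Type*}
    (U : ι → Set X) (p : ℕ)
    (W : (Fin (p + 1) → ι) → Set X) (hWo : ∀ t, IsOpen (W t))
    (hWZ : ∀ t, W t ∩ Z = (⋂ l, U (t l)) ∩ Z)
    (s : Finset ι) (V : ι → Set X) (hVo : ∀ i, IsOpen (V i)) (hVe : ∀ i, i ∉ s → V i = ∅)
    (hcov : Z ⊆ ⋃ i, V i) (hcl : ∀ i, closure (V i) ∩ Z ⊆ U i) :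
    ∃ V' : ι → Set X, (∀ i, IsOpen (V' i)) ∧ (Z ⊆ ⋃ i, V' i) ∧ (∀ i, V' i ⊆ V i) ∧
      (∀ t : Fin (p + 1) → ι, (⋂ l, V' (t l)) ⊆ W t) := by
  classical
  set N : Set X := ⋃ t ∈ Fintype.piFinset (fun _ : Fin (p + 1) => s),
    ((⋂ l, closure (V (t l))) \ W t) with hN
  have hNcl : IsClosed N := by
    refine isClosed_biUnion_finset fun t _ => ?_
    exact (isClosed_iInter fun l => isClosed_closure).sdiff (hWo t)
  have hNZ : ∀ z ∈ Z, z ∉ N := by
    intro z hz hzN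
    rw [hN] at hzN
    simp only [mem_iUnion, exists_prop] at hzN
    obtain ⟨t, -, hz1, hz2⟩ := hzN
    apply hz2
    have : z ∈ (⋂ l, U (t l)) ∩ Z := by
      refine ⟨mem_iInter.2 fun l => hcl (t l) ⟨mem_iInter.1 hz1 l, hz⟩, hz⟩
    rw [← hWZ t] at this
    exact this.1
  refine ⟨fun i => V i \ N, fun i => (hVo i).sdiff hNcl, ?_, fun i => sdiff_subset, ?_⟩
  · intro z hz
    obtain ⟨i, hi⟩ := mem_iUnion.1 (hcov hz)
    exact mem_iUnion.2 ⟨i, hi, hNZ z hz⟩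
  · intro t x hx
    have hx' : ∀ l, x ∈ V (t l) \ N := fun l => mem_iInter.1 hx l
    by_cases ht : ∀ l, t l ∈ s
    · by_contra hxW
      apply (hx' 0).2
      rw [hN]
      simp only [mem_iUnion, exists_prop]
      refine ⟨t, Fintype.mem_piFinset.2 ht, mem_iInter.2 fun l => subset_closure (hx' l).1, hxW⟩
    · push Not at ht
      obtain ⟨l, hl⟩ := ht
      have := (hx' l).1
      rw [hVe _ hl] at this
      exact absurd this (notMem_empty x)

end Groth.Agent.Lib.helper4
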