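import Mathlib

/-!
# Helper lemmas on the constructible topology (helper4)
-/

set_option autoImplicit false

open Topology

namespace Groth.Agent.Lib.helper4

variable {X : Type*} [TopologicalSpace X]

/-- Compact opens are clopen in the constructible topology. -/
theorem h4_isClopen_constr_of_isCompact_isOpen {U : Set X} (hU : IsOpen U) (hc : IsCompact U) :
    @IsClopen X (constructibleTopology X) U := by
  refine ⟨?_, hc.isOpen_constructibleTopology_of_isOpen hU⟩
  rw [← @isOpen_compl_iff _ _ (constructibleTopology X)]
  exact IsCompact.isOpen_constructibleTopology_of_isClosed (by simpa using hc) hU.isClosed_compl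

/-- In a prespectral space the constructible topology is finer than the original one. -/
theorem h4_isOpen_constr_of_isOpen [PrespectralSpace X] {U : Set X} (hU : IsOpen U) :
    IsOpen[constructibleTopology X] U := by
  rw [PrespectralSpace.isTopologicalBasis.open_eq_sUnion' hU]
  refine @isOpen_sUnion _ (constructibleTopology X) _ ?_
  rintro V ⟨⟨hVo, hVc⟩, -⟩
  exact hVc.isOpen_constructibleTopology_of_isOpen hVo

theorem h4_isClosed_constr_of_isClosed [PrespectralSpace X] {Z : Set X} (hZ : IsClosed Z) :
    IsClosed[constructibleTopology X] Z := by
  rw [← @isOpen_compl_iff _ _ (constructibleTopology X)]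
  exact h4_isOpen_constr_of_isOpen hZ.isOpen_compl

theorem h4_constr_le [PrespectralSpace X] :
    constructibleTopology X ≤ (inferInstance : TopologicalSpace X) :=
  fun _ hU => h4_isOpen_constr_of_isOpen hU

/-- The identity is continuous from the constructible topology to the original one. -/
theorem h4_continuous_id_constr [PrespectralSpace X] :
    @Continuous X X (constructibleTopology X) _ id :=
  continuous_id_iff_le.mpr h4_constr_le

/-- In a T0 prespectral space, two distinct points are separated by a compact open. -/
theorem h4_exists_compact_open_separating [T0Space X] [PrespectralSpace X] {x y : X} (h : x ≠ y) :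
    ∃ U : Set X, IsOpen U ∧ IsCompact U ∧ ((x ∈ U ∧ y ∉ U) ∨ (y ∈ U ∧ x ∉ U)) := by
  obtain ⟨V, hV, hxy⟩ := exists_isOpen_xor_mem h
  rcases hxy with ⟨hx, hy⟩ | ⟨hy, hx⟩
  · obtain ⟨U, ⟨hUo, hUc⟩, hxU, hUV⟩ :=
      PrespectralSpace.isTopologicalBasis.exists_subset_of_mem_open hx hV
    exact ⟨U, hUo, hUc, Or.inl ⟨hxU, fun h => hy (hUV h)⟩⟩
  · obtain ⟨U, ⟨hUo, hUc⟩, hyU, hUV⟩ :=
      PrespectralSpace.isTopologicalBasis.exists_subset_of_mem_open hy hV
    exact ⟨U, hUo, hUc, Or.inr ⟨hyU, fun h => hx (hUV h)⟩⟩

/-- The constructible topology of a T0 prespectral space is Hausdorff. -/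
theorem h4_t2Space_constr [T0Space X] [PrespectralSpace X] :
    @T2Space X (constructibleTopology X) := by
  refine @T2Space.mk _ (constructibleTopology X) ?_
  intro x y hxy
  obtain ⟨U, hUo, hUc, h⟩ := h4_exists_compact_open_separating hxy
  have hcl := h4_isClopen_constr_of_isCompact_isOpen hUo hUc
  rcases h with ⟨hx, hy⟩ | ⟨hy, hx⟩
  · exact ⟨U, Uᶜ, hcl.2, (@IsClopen.compl _ (constructibleTopology X) _ hcl).2, hx, hy,
      disjoint_compl_right⟩
  · exact ⟨Uᶜ, U, (@IsClopen.compl _ (constructibleTopology X) _ hcl).2, hcl.2, hx, hy,
      disjoint_compl_left⟩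

/-- The constructible topology of a spectral space is compact. -/
theorem h4_compactSpace_constr [CompactSpace X] [QuasiSober X] [PrespectralSpace X]
    [QuasiSeparatedSpace X] : @CompactSpace X (constructibleTopology X) :=
  @Function.Surjective.compactSpace (WithConstructibleTopology X) X _ (constructibleTopology X)
    WithTopology.ofTopology (WithTopology.continuous_ofTopology _) inferInstance
    (WithTopology.ofTopology_surjective _)

/-- A constructibly closed subset of a spectral space is compact in the constructible topology. -/
theorem h4_isCompact_constr_of_isClosed_constr [CompactSpace X] [QuasiSober X] [PrespectralSpace X]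
    [QuasiSeparatedSpace X] {E : Set X} (hE : IsClosed[constructibleTopology X] E) :
    @IsCompact X (constructibleTopology X) E :=
  @IsClosed.isCompact X (constructibleTopology X) E h4_compactSpace_constr hE

/-- A constructibly closed subset of a spectral space is quasi-compact. -/
theorem h4_isCompact_of_isClosed_constr [CompactSpace X] [QuasiSober X] [PrespectralSpace X]
    [QuasiSeparatedSpace X] {E : Set X} (hE : IsClosed[constructibleTopology X] E) :
    IsCompact E := by
  have := @IsCompact.image X X (constructibleTopology X) _ E id
    (h4_isCompact_constr_of_isClosed_constr hE) h4_continuous_id_constr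
  simpa using this

/-- Spectral maps are continuous for the constructible topologies. -/
theorem h4_continuous_constr_of_isSpectralMap {Y : Type*} [TopologicalSpace Y] {f : X → Y}
    (hf : IsSpectralMap f) :
    @Continuous X Y (constructibleTopology X) (constructibleTopology Y) f := by
  refine (@continuous_generateFrom_iff X Y f (constructibleTopology X) _).mpr ?_
  rintro s (⟨hso, hsc⟩ | ⟨hscl, hsc⟩)
  · exact (hf.isCompact_preimage_of_isOpen hso hsc).isOpen_constructibleTopology_of_isOpen
      (hso.preimage hf.continuous)
  · refine IsCompact.isOpen_constructibleTopology_of_isClosed ?_ (hscl.preimage hf.continuous)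
    rw [← Set.preimage_compl]
    exact hf.isCompact_preimage_of_isOpen hscl.isOpen_compl hsc

end Groth.Agent.Lib.helper4
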