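import Mathlib
import Groth.Agent.S8344
import Groth.Agent.S7542

/-!
# Constructible subsets of constructible subsets (helper4)
-/

set_option autoImplicit false

universe u

open Topology TopologicalSpace Set

namespace Groth.Agent.Lib.helper4

theorem h4_isConstructible_preimage_of_isEmbedding {X Y : Type*} [TopologicalSpace X]
    [TopologicalSpace Y] [PrespectralSpace X] {f : Y → X} (hf : IsEmbedding f)
    (hr : IsRetrocompact (Set.range f)) {E : Set X} (hE : IsConstructible E) :
    IsConstructible (f ⁻¹' E) := by
  refine hE.preimage hf.continuous ?_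
  intro U hUo hUr K hKc hKo
  obtain ⟨V, hVo, rfl⟩ := hf.isInducing.isOpen_iff.mp hKo
  have hKX : IsCompact (f '' (f ⁻¹' V)) := hKc.image hf.continuous
  have hsub : f '' (f ⁻¹' V) ⊆ V := Set.image_preimage_subset _ _
  obtain ⟨V', hV'c, hV'o, h1, h2⟩ :=
    PrespectralSpace.exists_isCompact_and_isOpen_between hKX hVo hsub
  have hK : f ⁻¹' V = f ⁻¹' V' :=
    subset_antisymm (fun y hy => h1 ⟨y, hy, rfl⟩) (Set.preimage_mono h2)
  rw [hK, ← Set.preimage_inter, hf.isInducing.isCompact_iff, Set.image_preimage_eq_inter_range,
    Set.inter_comm]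
  exact hr (hUr hV'c hV'o) (hUo.inter hV'o)

theorem h4_prespectralSpace_of_isEmbedding {X Y : Type*} [TopologicalSpace X]
    [TopologicalSpace Y] [PrespectralSpace X] {f : Y → X} (hf : IsEmbedding f)
    (hr : IsRetrocompact (Set.range f)) : PrespectralSpace Y :=
  .of_isTopologicalBasis (PrespectralSpace.isTopologicalBasis.isInducing hf.isInducing) (by
    rintro _ ⟨U, ⟨hUo, hUc⟩, rfl⟩
    rw [hf.isInducing.isCompact_iff, Set.image_preimage_eq_inter_range, Set.inter_comm]
    exact hr hUc hUo)

/-- Stacks 09YH in embedding form: if `f : Y → X` is an embedding whose range is constructible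
in a prespectral space `X`, then images of constructible subsets of `Y` are constructible. -/
theorem h4_isConstructible_image_of_isEmbedding {X : Type u} [TopologicalSpace X]
    [PrespectralSpace X] {E : Set X} (hE : IsConstructible E) :
    ∀ (Y : Type u) [TopologicalSpace Y] (f : Y → X), IsEmbedding f → Set.range f = E →
      ∀ F : Set Y, IsConstructible F → IsConstructible (f '' F) := by
  induction E, hE using BooleanSubalgebra.closure_sdiff_sup_induction with
  | isSublattice =>
    exact ⟨fun s hs t ht ↦ ⟨hs.1.union ht.1, hs.2.union ht.2⟩,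
      fun s hs t ht ↦ ⟨hs.1.inter ht.1, hs.2.inter_isOpen ht.2 ht.1⟩⟩
  | bot_mem => exact ⟨isOpen_empty, .empty⟩
  | top_mem => exact ⟨isOpen_univ, .univ⟩
  | sdiff U hU V hV =>
    intro Y _ f hf hrange F hF
    have hfUV : ∀ y, f y ∈ U \ V := fun y => hrange ▸ Set.mem_range_self y
    let g : Y → ↥U := fun y => ⟨f y, (hfUV y).1⟩
    have hg_cont : Continuous g := hf.continuous.subtype_mk _
    have hg_emb : IsEmbedding g :=
      IsEmbedding.of_comp hg_cont continuous_subtype_val (by exact hf)
    have hrange_g : Set.range g = (Subtype.val : ↥U → X) ⁻¹' Vᶜ := by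
      ext u
      constructor
      · rintro ⟨y, rfl⟩
        exact (hfUV y).2
      · intro hu
        have : u.1 ∈ Set.range f := by
          rw [hrange]
          exact ⟨u.2, hu⟩
        obtain ⟨y, hy⟩ := this
        exact ⟨y, Subtype.ext hy⟩
    have hgce : IsClosedEmbedding g :=
      ⟨hg_emb, by rw [hrange_g]; exact hV.1.isClosed_compl.preimage continuous_subtype_val⟩
    have hcompl : IsRetrocompact (Set.range g)ᶜ := by
      rw [hrange_g, ← Set.preimage_compl, compl_compl]
      exact hV.2.preimage_of_isOpenEmbedding hU.1.isOpenEmbedding_subtypeVal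
    have h1 : IsConstructible (g '' F) := hF.image_of_isClosedEmbedding hgce hcompl
    have h2 : IsConstructible ((Subtype.val : ↥U → X) '' (g '' F)) :=
      h1.image_of_isOpenEmbedding hU.1.isOpenEmbedding_subtypeVal
        (by rw [Subtype.range_val]; exact hU.2)
    rw [Set.image_image] at h2
    exact h2
  | sup s hs t ht hs' ht' =>
    intro Y _ f hf hrange F hF
    have hsc : IsConstructible s := hs
    have htc : IsConstructible t := ht
    have hr : IsRetrocompact (Set.range f) := by
      rw [hrange]
      exact Groth.Agent.S8344.result (hsc.union htc)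
    have hY : PrespectralSpace Y := h4_prespectralSpace_of_isEmbedding hf hr
    have key : ∀ s' : Set X, IsConstructible s' → s' ⊆ s ∪ t →
        (∀ (Y : Type u) [TopologicalSpace Y] (f : Y → X), IsEmbedding f → Set.range f = s' →
          ∀ F : Set Y, IsConstructible F → IsConstructible (f '' F)) →
        IsConstructible (f '' (F ∩ f ⁻¹' s')) := by
      intro s' hs'c hs'sub ih
      have hY1c : IsConstructible (f ⁻¹' s') :=
        h4_isConstructible_preimage_of_isEmbedding hf hr hs'c
      have hY1r : IsRetrocompact (f ⁻¹' s') := Groth.Agent.S8344.result hY1c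
      have hF1 : IsConstructible ((Subtype.val : ↥(f ⁻¹' s') → Y) ⁻¹' F) :=
        Groth.Agent.S7542.result (f ⁻¹' s') hY1r F hF
      have h1 := ih ↥(f ⁻¹' s') (f ∘ Subtype.val) (hf.comp IsEmbedding.subtypeVal)
        (by
          rw [Set.range_comp, Subtype.range_val, Set.image_preimage_eq_inter_range, hrange]
          exact Set.inter_eq_left.2 hs'sub) _ hF1
      rw [Set.image_comp, Subtype.image_preimage_coe, Set.inter_comm] at h1
      exact h1
    have h1 := key s hsc Set.subset_union_left hs'
    have h2 := key t htc Set.subset_union_right ht'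
    have : f '' F = f '' (F ∩ f ⁻¹' s) ∪ f '' (F ∩ f ⁻¹' t) := by
      rw [← Set.image_union, ← Set.inter_union_distrib_left, ← Set.preimage_union]
      congr 1
      symm
      apply Set.inter_eq_left.2
      intro y _
      have : f y ∈ Set.range f := Set.mem_range_self y
      rw [hrange] at this
      exact this
    rw [this]
    exact h1.union h2

end Groth.Agent.Lib.helper4
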