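import Mathlib

set_option autoImplicit false
universe u

namespace Groth.Agent.Lib.helper4.GrNat

open DirectSum

section A

variable {R A : Type u} [CommRing R] [CommRing A] [Algebra R A] (𝒜 : ℕ → Submodule R A)
  [GradedAlgebra 𝒜]

/-- `A_{≥ n}`. -/
abbrev G (n : ℕ) : Submodule R A := ⨆ (m : ℕ) (_ : n ≤ m), 𝒜 m

theorem le_G {n m : ℕ} (h : n ≤ m) : 𝒜 m ≤ G 𝒜 n := le_iSup₂_of_le m h le_rfl

theorem G_eq (n : ℕ) : G 𝒜 n = ⨆ k : ℕ, 𝒜 (n + k) := by
  apply le_antisymm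
  · refine iSup₂_le fun m hm => ?_
    refine le_iSup_of_le (m - n) ?_
    rw [Nat.add_sub_cancel' hm]
  · exact iSup_le fun k => le_G 𝒜 (Nat.le_add_right n k)

theorem G_anti {a b : ℕ} (h : a ≤ b) : G 𝒜 b ≤ G 𝒜 a :=
  iSup₂_le fun _ hm => le_G 𝒜 (h.trans hm)

theorem gmul_le (i j : ℕ) : 𝒜 i * 𝒜 j ≤ 𝒜 (i + j) :=
  Submodule.mul_le.mpr fun _ hx _ hy => SetLike.mul_mem_graded hx hy

theorem G_mul_le (b c : ℕ) : G 𝒜 b * G 𝒜 c ≤ G 𝒜 (b + c) := by
  unfold G
  simp only [Submodule.iSup_mul, Submodule.mul_iSup]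
  refine iSup₂_le fun m hm => iSup₂_le fun m' hm' => ?_
  exact (gmul_le 𝒜 m' m).trans (le_iSup₂_of_le (f := fun k (_ : b + c ≤ k) => 𝒜 k) (m' + m) (Nat.add_le_add hm' hm) le_rfl)

theorem proj_eq_zero_of_mem_G {n i : ℕ} (hi : i < n) {u : A} (hu : u ∈ G 𝒜 n) :
    (decompose 𝒜 u i : A) = 0 := by
  rw [G_eq] at hu
  refine Submodule.iSup_induction (fun k => 𝒜 (n + k))
    (motive := fun u => (decompose 𝒜 u i : A) = 0) hu (fun k x hx => ?_) ?_ (fun x y hx hy => ?_)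
  · exact decompose_of_mem_ne 𝒜 hx (by omega)
  · simp
  · simp only [decompose_add, DirectSum.add_apply, Submodule.coe_add, hx, hy, add_zero]

theorem proj_mul_mem (b c : ℕ) {u v : A} (hu : u ∈ G 𝒜 b) (hv : v ∈ G 𝒜 c) :
    (decompose 𝒜 (u * v) (b + c) : A) ∈ 𝒜 b * 𝒜 c := by
  rw [G_eq] at hu hv
  refine Submodule.iSup_induction (fun k => 𝒜 (b + k))
    (motive := fun u => (decompose 𝒜 (u * v) (b + c) : A) ∈ 𝒜 b * 𝒜 c) hu
    (fun k x hx => ?_) ?_ (fun x y hx hy => ?_)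
  · refine Submodule.iSup_induction (fun l => 𝒜 (c + l))
      (motive := fun v => (decompose 𝒜 (x * v) (b + c) : A) ∈ 𝒜 b * 𝒜 c) hv
      (fun l y hy => ?_) ?_ (fun y z hy hz => ?_)
    · have hxy : x * y ∈ 𝒜 (b + k + (c + l)) := SetLike.mul_mem_graded hx hy
      by_cases hkl : k = 0 ∧ l = 0
      · obtain ⟨rfl, rfl⟩ := hkl
        have hx' : x ∈ 𝒜 b := hx
        have hy' : y ∈ 𝒜 c := hy
        have hxy' : x * y ∈ 𝒜 (b + c) := SetLike.mul_mem_graded hx' hy'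
        rw [decompose_of_mem_same 𝒜 hxy']
        exact Submodule.mul_mem_mul hx' hy'
      · have hne : b + k + (c + l) ≠ b + c := by omega
        rw [decompose_of_mem_ne 𝒜 hxy hne]
        exact Submodule.zero_mem _
    · simp
    · rw [mul_add, decompose_add, DirectSum.add_apply, Submodule.coe_add]
      exact Submodule.add_mem _ hy hz
  · simp
  · rw [add_mul, decompose_add, DirectSum.add_apply, Submodule.coe_add]
    exact Submodule.add_mem _ hx hy

theorem proj_mem_of_mem_mul (b c : ℕ) {w : A} (hw : w ∈ G 𝒜 b * G 𝒜 c) :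
    (decompose 𝒜 w (b + c) : A) ∈ 𝒜 b * 𝒜 c := by
  refine Submodule.mul_induction_on hw (fun u hu v hv => proj_mul_mem 𝒜 b c hu hv)
    (fun x y hx hy => ?_)
  rw [decompose_add, DirectSum.add_apply, Submodule.coe_add]
  exact Submodule.add_mem _ hx hy

theorem A_iff_G_succ (n₀ : ℕ) :
    (∀ n, n₀ ≤ n → G 𝒜 (n + 1) = G 𝒜 1 * G 𝒜 n) ↔
      (∀ n, n₀ ≤ n → 𝒜 (n + 1) = 𝒜 1 * 𝒜 n) := by
  constructor
  · intro h n hn
    apply le_antisymm
    · intro x hx
      have hx' : x ∈ G 𝒜 1 * G 𝒜 n := by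
        rw [← h n hn]; exact le_G 𝒜 le_rfl hx
      have h1 := proj_mem_of_mem_mul 𝒜 1 n hx'
      rw [Nat.add_comm 1 n, decompose_of_mem_same 𝒜 hx] at h1
      exact h1
    · have h1 := gmul_le 𝒜 1 n
      rwa [Nat.add_comm 1 n] at h1
  · intro h n hn
    apply le_antisymm
    · refine iSup₂_le fun m hm => ?_
      obtain ⟨m', rfl⟩ : ∃ m', m = m' + 1 := ⟨m - 1, by omega⟩
      rw [h m' (by omega)]
      exact mul_le_mul' (le_G 𝒜 le_rfl) (le_G 𝒜 (by omega))
    · have h1 := G_mul_le 𝒜 1 n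
      rwa [Nat.add_comm 1 n] at h1

theorem pow_mono' {P Q : Submodule R A} (h : P ≤ Q) (n : ℕ) : P ^ n ≤ Q ^ n := by
  induction n with
  | zero => rw [pow_zero, pow_zero]
  | succ k ih => rw [pow_succ, pow_succ]; exact mul_le_mul' ih h

theorem A_pow_le (n : ℕ) : 𝒜 1 ^ n ≤ 𝒜 n := by
  induction n with
  | zero => rw [pow_zero, Submodule.one_le]; exact SetLike.one_mem_graded 𝒜
  | succ k ih =>
    rw [pow_succ]; exact (mul_le_mul' ih le_rfl).trans (gmul_le 𝒜 k 1)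

theorem G_pow_le (n : ℕ) : G 𝒜 1 ^ n ≤ G 𝒜 n := by
  induction n with
  | zero =>
    rw [pow_zero, Submodule.one_le]; exact le_G 𝒜 le_rfl (SetLike.one_mem_graded 𝒜)
  | succ k ih =>
    rw [pow_succ]; exact (mul_le_mul' ih le_rfl).trans (G_mul_le 𝒜 k 1)

theorem proj_pow_mem (n : ℕ) {w : A} (hw : w ∈ G 𝒜 1 ^ n) :
    (decompose 𝒜 w n : A) ∈ 𝒜 1 ^ n := by
  induction n generalizing w with
  | zero =>
    rw [pow_zero] at hw ⊢
    obtain ⟨r, rfl⟩ := Submodule.mem_one.mp hw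
    rw [decompose_of_mem_same 𝒜 (SetLike.algebraMap_mem_graded 𝒜 r)]
    exact Submodule.mem_one.mpr ⟨r, rfl⟩
  | succ k ih =>
    rw [pow_succ] at hw ⊢
    refine Submodule.mul_induction_on hw (fun u hu v hv => ?_) (fun x y hx hy => ?_)
    · have hu' : u ∈ G 𝒜 k := G_pow_le 𝒜 k hu
      rw [G_eq] at hv
      refine Submodule.iSup_induction (fun l => 𝒜 (1 + l))
        (motive := fun v => (decompose 𝒜 (u * v) (k + 1) : A) ∈ 𝒜 1 ^ k * 𝒜 1) hv
        (fun l y hy => ?_) ?_ (fun y z hy hz => ?_)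
      · by_cases hl : l = 0
        · subst hl
          have hy' : y ∈ 𝒜 1 := hy
          rw [coe_decompose_mul_of_right_mem_of_le 𝒜 hy' (by omega : 1 ≤ k + 1)]
          have e : k + 1 - 1 = k := by omega
          rw [e]
          exact Submodule.mul_mem_mul (ih hu) hy'
        · by_cases hle : 1 + l ≤ k + 1
          · rw [coe_decompose_mul_of_right_mem_of_le 𝒜 hy hle,
              proj_eq_zero_of_mem_G 𝒜 (by omega) hu', zero_mul]
            exact Submodule.zero_mem _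
          · rw [coe_decompose_mul_of_right_mem_of_not_le 𝒜 hy hle]
            exact Submodule.zero_mem _
      · simp
      · rw [mul_add, decompose_add, DirectSum.add_apply, Submodule.coe_add]
        exact Submodule.add_mem _ hy hz
    · rw [decompose_add, DirectSum.add_apply, Submodule.coe_add]
      exact Submodule.add_mem _ hx hy

theorem G1_mul_le (j : ℕ) : G 𝒜 1 * 𝒜 j ≤ G 𝒜 1 :=
  (mul_le_mul' le_rfl (le_G 𝒜 (le_refl j))).trans
    ((G_mul_le 𝒜 1 j).trans (G_anti 𝒜 (Nat.le_add_right 1 j)))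

theorem A_iff_G_pow (n₀ : ℕ) (hn₀ : 1 ≤ n₀) :
    (∀ n, n₀ ≤ n → G 𝒜 n = G 𝒜 1 ^ n) ↔ (∀ n, n₀ ≤ n → 𝒜 n = 𝒜 1 ^ n) := by
  constructor
  · intro h n hn
    apply le_antisymm
    · intro x hx
      have hx' : x ∈ G 𝒜 1 ^ n := by
        rw [← h n hn]; exact le_G 𝒜 le_rfl hx
      have h1 := proj_pow_mem 𝒜 n hx'
      rwa [decompose_of_mem_same 𝒜 hx] at h1
    · exact A_pow_le 𝒜 n
  · intro h n hn
    apply le_antisymm
    · refine iSup₂_le fun m hm => ?_
      rw [h m (hn.trans hm)]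
      obtain ⟨j, rfl⟩ : ∃ j, m = n + j := ⟨m - n, by omega⟩
      obtain ⟨n', rfl⟩ : ∃ n', n = n' + 1 := ⟨n - 1, by omega⟩
      rw [pow_add]
      calc 𝒜 1 ^ (n' + 1) * 𝒜 1 ^ j ≤ G 𝒜 1 ^ (n' + 1) * 𝒜 j :=
            mul_le_mul' (pow_mono' (le_G 𝒜 le_rfl) _) (A_pow_le 𝒜 j)
        _ = G 𝒜 1 ^ n' * (G 𝒜 1 * 𝒜 j) := by rw [pow_succ, mul_assoc]
        _ ≤ G 𝒜 1 ^ n' * G 𝒜 1 := mul_le_mul' le_rfl (G1_mul_le 𝒜 j)
        _ = G 𝒜 1 ^ (n' + 1) := (pow_succ _ _).symm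
    · exact G_pow_le 𝒜 n

end A

section B

variable {R A B : Type u} [CommRing R] [CommRing A] [Algebra R A] (𝒜 : ℕ → Submodule R A)
  [GradedAlgebra 𝒜] [CommRing B] [Algebra R B] (ℬ : ℕ → Submodule R B)

/-- the `R`-linear monomial map. -/
noncomputable abbrev mon (R : Type u) {A : Type u} [CommRing R] [CommRing A] [Algebra R A] (n : ℕ) :
    A →ₗ[R] Polynomial A :=
  (Polynomial.monomial n : A →ₗ[A] Polynomial A).restrictScalars R

theorem mon_inj (n : ℕ) : Function.Injective (mon R (A := A) n) :=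
  Polynomial.monomial_injective n

theorem map_mon_mul (i j : ℕ) (U V : Submodule R A) :
    Submodule.map (mon R i) U * Submodule.map (mon R j) V =
      Submodule.map (mon R (i + j)) (U * V) := by
  apply le_antisymm
  · rw [Submodule.mul_le]
    rintro _ ⟨u, hu, rfl⟩ _ ⟨v, hv, rfl⟩
    refine ⟨u * v, Submodule.mul_mem_mul hu hv, ?_⟩
    show Polynomial.monomial (i + j) (u * v) = Polynomial.monomial i u * Polynomial.monomial j v
    rw [Polynomial.monomial_mul_monomial]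
  · rw [Submodule.map_le_iff_le_comap, Submodule.mul_le]
    intro u hu v hv
    have h1 : mon R (i + j) (u * v) = mon R i u * mon R j v := by
      show Polynomial.monomial (i + j) (u * v) =
        Polynomial.monomial i u * Polynomial.monomial j v
      rw [Polynomial.monomial_mul_monomial]
    rw [Submodule.mem_comap, h1]
    exact Submodule.mul_mem_mul ⟨u, hu, rfl⟩ ⟨v, hv, rfl⟩

theorem map_mon_pow (U : Submodule R A) (n : ℕ) :
    Submodule.map (mon R 1) U ^ n = Submodule.map (mon R n) (U ^ n) := by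
  induction n with
  | zero =>
    have h1 : (mon R 0) (1 : A) = (1 : Polynomial A) := Polynomial.monomial_zero_one
    rw [pow_zero, pow_zero, Submodule.one_eq_span, Submodule.one_eq_span, Submodule.map_span,
      Set.image_singleton, h1]
  | succ k ih =>
    rw [pow_succ, pow_succ, ih, map_mon_mul]

theorem B_iff_G_mul (φ : B →ₐ[R] Polynomial A) (hφ : Function.Injective φ)
    (hdeg : ∀ n, Submodule.map φ.toLinearMap (ℬ n) = Submodule.map (mon R n) (G 𝒜 n))
    (a b c : ℕ) (habc : a = b + c) :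
    ℬ a = ℬ b * ℬ c ↔ G 𝒜 a = G 𝒜 b * G 𝒜 c := by
  subst habc
  rw [← (Submodule.map_injective_of_injective (f := φ.toLinearMap) hφ).eq_iff,
    Submodule.map_mul, hdeg, hdeg, hdeg, map_mon_mul,
    (Submodule.map_injective_of_injective (mon_inj (b + c))).eq_iff]

theorem B_iff_G_pow (φ : B →ₐ[R] Polynomial A) (hφ : Function.Injective φ)
    (hdeg : ∀ n, Submodule.map φ.toLinearMap (ℬ n) = Submodule.map (mon R n) (G 𝒜 n))
    (n : ℕ) :
    ℬ n = ℬ 1 ^ n ↔ G 𝒜 n = G 𝒜 1 ^ n := by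
  rw [← (Submodule.map_injective_of_injective (f := φ.toLinearMap) hφ).eq_iff,
    Submodule.map_pow, hdeg, hdeg, map_mon_pow,
    (Submodule.map_injective_of_injective (mon_inj n)).eq_iff]

end B

end Groth.Agent.Lib.helper4.GrNat
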