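import Groth.Agent.Lib.helper4.GrpdPts

/-!
# Conjugation of the stabilizer of a groupoid scheme (helper4)

The base change of the stabilizer `G → U` along `t` is identified with its base change along `s`
through `(γ, r) ↦ r⁻¹ γ r`.
-/

set_option autoImplicit false

universe u

open CategoryTheory CategoryTheory.Limits AlgebraicGeometry

namespace Groth.Agent.Lib.helper4

/-- A commutative square having the universal property on `T`-points is cartesian. -/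
theorem h4_isPullback_of_points {C : Type*} [Category C] {P X Y Z : C} (fst : P ⟶ X) (snd : P ⟶ Y)
    (f : X ⟶ Z) (g : Y ⟶ Z) (w : fst ≫ f = snd ≫ g)
    (h : ∀ {T : C} (a : T ⟶ X) (b : T ⟶ Y), a ≫ f = b ≫ g →
      ∃ l : T ⟶ P, (l ≫ fst = a ∧ l ≫ snd = b) ∧
        ∀ m : T ⟶ P, m ≫ fst = a → m ≫ snd = b → m = l) :
    IsPullback fst snd f g :=
  ⟨⟨w⟩, ⟨PullbackCone.IsLimit.mk _ (fun s => Classical.choose (h s.fst s.snd s.condition))
    (fun s => (Classical.choose_spec (h s.fst s.snd s.condition)).1.1)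
    (fun s => (Classical.choose_spec (h s.fst s.snd s.condition)).1.2)
    (fun s m h1 h2 => (Classical.choose_spec (h s.fst s.snd s.condition)).2 m h1 h2)⟩⟩

variable {S : Scheme.{u}} (G : Grpd.GroupoidScheme S)

/-- `r⁻¹ γ r` -/
noncomputable def cj1 {T : Scheme.{u}} (γ r : T ⟶ G.R) (h1 : γ ≫ G.t = r ≫ G.t)
    (h2 : γ ≫ G.s = r ≫ G.t) : T ⟶ G.R :=
  gm G (gm G (r ≫ G.i) γ (by rw [Category.assoc, G.i_s, h1])) r (by rw [gm_s, h2])

theorem cj1_congr {T : Scheme.{u}} {γ γ' r r' : T ⟶ G.R} (hγ : γ = γ') (hr : r = r')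
    (h1 : γ ≫ G.t = r ≫ G.t) (h2 : γ ≫ G.s = r ≫ G.t) :
    cj1 G γ r h1 h2 = cj1 G γ' r' (by rw [← hγ, ← hr]; exact h1)
      (by rw [← hγ, ← hr]; exact h2) := by
  subst hγ hr; rfl

theorem cj1_s {T : Scheme.{u}} (γ r : T ⟶ G.R) (h1 : γ ≫ G.t = r ≫ G.t)
    (h2 : γ ≫ G.s = r ≫ G.t) : cj1 G γ r h1 h2 ≫ G.s = r ≫ G.s := by
  unfold cj1; rw [gm_s]

theorem cj1_t {T : Scheme.{u}} (γ r : T ⟶ G.R) (h1 : γ ≫ G.t = r ≫ G.t)
    (h2 : γ ≫ G.s = r ≫ G.t) : cj1 G γ r h1 h2 ≫ G.t = r ≫ G.s := by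
  unfold cj1; rw [gm_t, gm_t, Category.assoc, G.i_t]

/-- `r δ r⁻¹` -/
noncomputable def cj2 {T : Scheme.{u}} (δ r : T ⟶ G.R) (h1 : δ ≫ G.t = r ≫ G.s)
    (h2 : δ ≫ G.s = r ≫ G.s) : T ⟶ G.R :=
  gm G (gm G r δ h1.symm) (r ≫ G.i) (by rw [gm_s, h2, Category.assoc, G.i_t])

theorem cj2_congr {T : Scheme.{u}} {δ δ' r r' : T ⟶ G.R} (hδ : δ = δ') (hr : r = r')
    (h1 : δ ≫ G.t = r ≫ G.s) (h2 : δ ≫ G.s = r ≫ G.s) :
    cj2 G δ r h1 h2 = cj2 G δ' r' (by rw [← hδ, ← hr]; exact h1)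
      (by rw [← hδ, ← hr]; exact h2) := by
  subst hδ hr; rfl

theorem cj2_s {T : Scheme.{u}} (δ r : T ⟶ G.R) (h1 : δ ≫ G.t = r ≫ G.s)
    (h2 : δ ≫ G.s = r ≫ G.s) : cj2 G δ r h1 h2 ≫ G.s = r ≫ G.t := by
  unfold cj2; rw [gm_s, Category.assoc, G.i_s]

theorem cj2_t {T : Scheme.{u}} (δ r : T ⟶ G.R) (h1 : δ ≫ G.t = r ≫ G.s)
    (h2 : δ ≫ G.s = r ≫ G.s) : cj2 G δ r h1 h2 ≫ G.t = r ≫ G.t := by
  unfold cj2; rw [gm_t, gm_t]

theorem cj2_cj1 {T : Scheme.{u}} (γ r : T ⟶ G.R) (h1 : γ ≫ G.t = r ≫ G.t)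
    (h2 : γ ≫ G.s = r ≫ G.t) :
    cj2 G (cj1 G γ r h1 h2) r (cj1_t G γ r h1 h2) (cj1_s G γ r h1 h2) = γ := by
  unfold cj1 cj2
  have hA : (r ≫ G.i) ≫ G.s = γ ≫ G.t := by rw [Category.assoc, G.i_s, h1]
  have hB : gm G (r ≫ G.i) γ hA ≫ G.s = r ≫ G.t := by rw [gm_s, h2]
  have hC : r ≫ G.s = gm G (r ≫ G.i) γ hA ≫ G.t := by rw [gm_t, Category.assoc, G.i_t]
  have e1 : gm G r (gm G (gm G (r ≫ G.i) γ hA) r hB) (hC.trans (gm_t G _ _ hB).symm)
      = gm G (gm G r (gm G (r ≫ G.i) γ hA) hC) r ((gm_s G _ _ hC).trans hB) :=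
    (gm_assoc G r (gm G (r ≫ G.i) γ hA) r hC hB).symm
  have e2 : gm G r (gm G (r ≫ G.i) γ hA) hC = γ := gm_i_gm G r γ h1.symm
  calc gm G (gm G r (gm G (gm G (r ≫ G.i) γ _) r _) _) (r ≫ G.i) _
      = gm G (gm G γ r h2) (r ≫ G.i) (by rw [gm_s, Category.assoc, G.i_t]) :=
        gm_congr G (e1.trans (gm_congr G e2 rfl _)) rfl _
    _ = γ := gm_gm_i G γ r h2

theorem cj1_cj2 {T : Scheme.{u}} (δ r : T ⟶ G.R) (h1 : δ ≫ G.t = r ≫ G.s)
    (h2 : δ ≫ G.s = r ≫ G.s) :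
    cj1 G (cj2 G δ r h1 h2) r (cj2_t G δ r h1 h2) (cj2_s G δ r h1 h2) = δ := by
  unfold cj1 cj2
  have hA : r ≫ G.s = δ ≫ G.t := h1.symm
  have hB : gm G r δ hA ≫ G.s = (r ≫ G.i) ≫ G.t := by rw [gm_s, h2, Category.assoc, G.i_t]
  have hC : (r ≫ G.i) ≫ G.s = gm G r δ hA ≫ G.t := by rw [gm_t, Category.assoc, G.i_s]
  have e1 : gm G (r ≫ G.i) (gm G (gm G r δ hA) (r ≫ G.i) hB) (hC.trans (gm_t G _ _ hB).symm)
      = gm G (gm G (r ≫ G.i) (gm G r δ hA) hC) (r ≫ G.i) ((gm_s G _ _ hC).trans hB) :=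
    (gm_assoc G (r ≫ G.i) (gm G r δ hA) (r ≫ G.i) hC hB).symm
  have e2 : gm G (r ≫ G.i) (gm G r δ hA) hC = δ := i_gm_gm G r δ hA
  calc gm G (gm G (r ≫ G.i) (gm G (gm G r δ _) (r ≫ G.i) _) _) r _
      = gm G (gm G δ (r ≫ G.i) (by rw [h2, Category.assoc, G.i_t])) r
          (by rw [gm_s, Category.assoc, G.i_s]) :=
        gm_congr G (e1.trans (gm_congr G e2 rfl _)) rfl _
    _ = δ := gm_i_gm' G δ r h2

theorem precomp_cj1 {T T' : Scheme.{u}} (x : T' ⟶ T) (γ r : T ⟶ G.R) (h1 : γ ≫ G.t = r ≫ G.t)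
    (h2 : γ ≫ G.s = r ≫ G.t) :
    x ≫ cj1 G γ r h1 h2 = cj1 G (x ≫ γ) (x ≫ r)
      (by rw [Category.assoc, Category.assoc, h1])
      (by rw [Category.assoc, Category.assoc, h2]) := by
  unfold cj1
  rw [precomp_gm]
  refine gm_congr G ?_ rfl _
  rw [precomp_gm]
  exact gm_congr G (Category.assoc _ _ _).symm rfl _

/-- The base change of the stabilizer along `t` is its base change along `s`, through
conjugation. -/
theorem h4_stab_conj_isPullback :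
    ∃ c' : pullback G.stabilizerToU G.t ⟶ G.stabilizer,
      IsPullback c' (pullback.snd G.stabilizerToU G.t) G.stabilizerToU G.s := by
  have hX : pullback.fst G.stabilizerToU G.t ≫ G.stabilizerToU =
      pullback.snd G.stabilizerToU G.t ≫ G.t := pullback.condition
  have g1 : (pullback.fst G.stabilizerToU G.t ≫ stabFst G) ≫ G.t =
      pullback.snd G.stabilizerToU G.t ≫ G.t := by
    rw [Category.assoc, stabFst_t]; exact hX
  have g2 : (pullback.fst G.stabilizerToU G.t ≫ stabFst G) ≫ G.s =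
      pullback.snd G.stabilizerToU G.t ≫ G.t := by
    rw [Category.assoc, stabFst_s]; exact hX
  obtain ⟨c', hc'1, hc'f⟩ : ∃ c' : pullback G.stabilizerToU G.t ⟶ G.stabilizer,
      c' ≫ stabFst G = cj1 G (pullback.fst G.stabilizerToU G.t ≫ stabFst G)
        (pullback.snd G.stabilizerToU G.t) g1 g2 ∧
      c' ≫ G.stabilizerToU = pullback.snd G.stabilizerToU G.t ≫ G.s :=
    ⟨stabLift G _ _ (cj1_t G _ _ g1 g2) (cj1_s G _ _ g1 g2), stabLift_fst G _ _ _ _,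
      stabLift_snd G _ _ _ _⟩
  refine ⟨c', h4_isPullback_of_points _ _ _ _ hc'f ?_⟩
  intro T a b hab
  have d1 : (a ≫ stabFst G) ≫ G.t = b ≫ G.s := by
    rw [Category.assoc, stabFst_t]; exact hab
  have d2 : (a ≫ stabFst G) ≫ G.s = b ≫ G.s := by
    rw [Category.assoc, stabFst_s]; exact hab
  obtain ⟨l0, hl01, hl0f⟩ : ∃ l0 : T ⟶ G.stabilizer,
      l0 ≫ stabFst G = cj2 G (a ≫ stabFst G) b d1 d2 ∧ l0 ≫ G.stabilizerToU = b ≫ G.t :=
    ⟨stabLift G _ _ (cj2_t G _ _ d1 d2) (cj2_s G _ _ d1 d2), stabLift_fst G _ _ _ _,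
      stabLift_snd G _ _ _ _⟩
  obtain ⟨l, hl0, hl1⟩ : ∃ l : T ⟶ pullback G.stabilizerToU G.t,
      l ≫ pullback.fst G.stabilizerToU G.t = l0 ∧ l ≫ pullback.snd G.stabilizerToU G.t = b :=
    ⟨pullback.lift l0 b hl0f, pullback.lift_fst _ _ _, pullback.lift_snd _ _ _⟩
  refine ⟨l, ⟨?_, hl1⟩, ?_⟩
  · apply stab_hom_ext
    · rw [Category.assoc, hc'1, precomp_cj1]
      have e1 : l ≫ pullback.fst G.stabilizerToU G.t ≫ stabFst G =
          cj2 G (a ≫ stabFst G) b d1 d2 := by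
        rw [← Category.assoc, hl0, hl01]
      exact (cj1_congr G e1 hl1 _ _).trans (cj1_cj2 G _ _ d1 d2)
    · rw [Category.assoc, hc'f, ← Category.assoc, hl1, hab]
  · intro m hm1 hm2
    apply pullback.hom_ext
    · rw [hl0]
      apply stab_hom_ext
      · rw [hl01]
        have e0 : a ≫ stabFst G =
            cj1 G (m ≫ pullback.fst G.stabilizerToU G.t ≫ stabFst G)
              (m ≫ pullback.snd G.stabilizerToU G.t)
              (by rw [Category.assoc, g1, Category.assoc])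
              (by rw [Category.assoc, g2, Category.assoc]) := by
          rw [← hm1, Category.assoc, hc'1, precomp_cj1]
        symm
        calc cj2 G (a ≫ stabFst G) b d1 d2
            = cj2 G (cj1 G (m ≫ pullback.fst G.stabilizerToU G.t ≫ stabFst G)
                (m ≫ pullback.snd G.stabilizerToU G.t) _ _)
                (m ≫ pullback.snd G.stabilizerToU G.t) (cj1_t G _ _ _ _) (cj1_s G _ _ _ _) :=
              cj2_congr G e0 hm2.symm _ _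
          _ = m ≫ pullback.fst G.stabilizerToU G.t ≫ stabFst G := cj2_cj1 G _ _ _ _
          _ = (m ≫ pullback.fst G.stabilizerToU G.t) ≫ stabFst G := (Category.assoc _ _ _).symm
      · rw [hl0f, Category.assoc, hX, ← Category.assoc, hm2]
    · rw [hl1, hm2]

end Groth.Agent.Lib.helper4
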