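import Groth.Agent.Lib.helper4.GrpdPts

/-!
# Invariance of largest opens under a groupoid (helper4)
-/

set_option autoImplicit false

universe u

open CategoryTheory CategoryTheory.Limits AlgebraicGeometry

namespace Groth.Agent.Lib.helper4

variable {S : Scheme.{u}} (G : Grpd.GroupoidScheme S)

/-- Key inclusion: if the base changes of `f : E ⟶ U` along `t` and along `s` agree (through a
cartesian square `hF`), `P` is local on the target for the precoverage of `Q0`, `s` and `t` are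
`Q0`-coverings, and `W` is the largest open over which `f` has `P`, then `t⁻¹ W ≤ s⁻¹ W`. -/
theorem h4_preimage_le_of_max (Q0 : MorphismProperty Scheme.{u})
    [Q0.IsStableUnderBaseChange] [Q0.IsStableUnderComposition]
    (hopen : ∀ {X Y : Scheme.{u}} (f : X ⟶ Y), Q0 f → IsOpenMap f)
    (himm : ∀ {X Y : Scheme.{u}} (f : X ⟶ Y) [IsOpenImmersion f], Q0 f)
    (P : MorphismProperty Scheme.{u}) [P.IsLocalAtTarget (Scheme.precoverage Q0)]
    (hs : Presieve.singleton G.s ∈ Scheme.precoverage Q0 G.U)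
    (ht : Presieve.singleton G.t ∈ Scheme.precoverage Q0 G.U)
    {E : Scheme.{u}} (f : E ⟶ G.U) (c' : pullback f G.t ⟶ E)
    (hF : IsPullback c' (pullback.snd f G.t) f G.s)
    (W : G.U.Opens) (hW : P (f ∣_ W)) (hmax : ∀ W' : G.U.Opens, P (f ∣_ W') → W' ≤ W) :
    G.t ⁻¹ᵁ W ≤ G.s ⁻¹ᵁ W := by
  obtain ⟨hs_surj, hsQ⟩ := (Scheme.singleton_mem_precoverage_iff Q0 G.s).mp hs
  obtain ⟨ht_surj, htQ⟩ := (Scheme.singleton_mem_precoverage_iff Q0 G.t).mp ht
  set V : G.R.Opens := G.t ⁻¹ᵁ W with hV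
  let W' : G.U.Opens := ⟨G.s '' (V : Set G.R), hopen G.s hsQ _ V.2⟩
  have hW'mem : ∀ x : G.U, x ∈ W' ↔ ∃ r ∈ V, G.s r = x := fun x => Iff.rfl
  -- the covering `g : V ⟶ W'`
  have hrange : Set.range (V.ι ≫ G.s) ⊆ Set.range W'.ι := by
    rintro _ ⟨x, rfl⟩
    rw [Scheme.Opens.range_ι]
    exact ⟨V.ι x, x.2, by simp⟩
  let g : (V : Scheme.{u}) ⟶ (W' : Scheme.{u}) := IsOpenImmersion.lift W'.ι (V.ι ≫ G.s) hrange
  have hg : g ≫ W'.ι = V.ι ≫ G.s := IsOpenImmersion.lift_fac _ _ _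
  have hgQ : Q0 g := by
    have sq : IsPullback (𝟙 (V : Scheme.{u})) g (V.ι ≫ G.s) W'.ι :=
      IsPullback.of_horiz_isIso_mono ⟨by rw [Category.id_comp, hg]⟩
    exact Q0.of_isPullback sq (Q0.comp_mem _ _ (himm V.ι) hsQ)
  have hgsurj : Function.Surjective g := by
    rintro ⟨x, hx⟩
    obtain ⟨r, hr, rfl⟩ := (hW'mem x).mp hx
    refine ⟨⟨r, hr⟩, ?_⟩
    apply W'.ι.isOpenEmbedding.injective
    have h1 : W'.ι (g ⟨r, hr⟩) = (g ≫ W'.ι) ⟨r, hr⟩ := rfl
    rw [h1, hg]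
    rfl
  have hgK : Presieve.singleton g ∈ Scheme.precoverage Q0 (W' : Scheme.{u}) :=
    (Scheme.singleton_mem_precoverage_iff Q0 g).mpr ⟨hgsurj, hgQ⟩
  -- the covering `t ∣_ W`
  have htWQ : Q0 (G.t ∣_ W) := Q0.of_isPullback (isPullback_morphismRestrict G.t W).flip htQ
  have htWsurj : Function.Surjective (G.t ∣_ W) := by
    rintro ⟨x, hx⟩
    obtain ⟨r, rfl⟩ := ht_surj x
    refine ⟨⟨r, hx⟩, ?_⟩
    apply Subtype.ext
    rw [morphismRestrict_base_coe]
  have htWK : Presieve.singleton (G.t ∣_ W) ∈ Scheme.precoverage Q0 (W : Scheme.{u}) :=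
    (Scheme.singleton_mem_precoverage_iff Q0 _).mpr ⟨htWsurj, htWQ⟩
  -- base change of `f ∣_ W` along `t ∣_ W`
  have hPsnd : P (pullback.snd (f ∣_ W) (G.t ∣_ W)) :=
    MorphismProperty.IsLocalAtTarget.pullbackSnd htWK (Presieve.singleton.mk) hW
  -- the chain of cartesian squares
  have sqA : IsPullback (pullback.fst (f ∣_ W) (G.t ∣_ W)) (pullback.snd (f ∣_ W) (G.t ∣_ W))
      (f ∣_ W) (G.t ∣_ W) := IsPullback.of_hasPullback _ _
  have sqB : IsPullback (f ⁻¹ᵁ W).ι (f ∣_ W) f W.ι := (isPullback_morphismRestrict f W).flip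
  have sqC : IsPullback (pullback.fst (f ∣_ W) (G.t ∣_ W) ≫ (f ⁻¹ᵁ W).ι)
      (pullback.snd (f ∣_ W) (G.t ∣_ W)) f (V.ι ≫ G.t) := by
    have := sqA.paste_horiz sqB
    rwa [morphismRestrict_ι] at this
  have sqD : IsPullback (pullback.fst f G.t) (pullback.snd f G.t) f G.t :=
    IsPullback.of_hasPullback _ _
  have sqE := IsPullback.of_right' sqC sqD
  have sqG := sqE.paste_horiz hF
  rw [← hg] at sqG
  have sqH : IsPullback (f ⁻¹ᵁ W').ι (f ∣_ W') f W'.ι := (isPullback_morphismRestrict f W').flip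
  have sqI := IsPullback.of_right' sqG sqH
  have hPsnd' : P (pullback.snd (f ∣_ W') g) := by
    have e := sqI.isoPullback_hom_snd
    rw [← e, P.cancel_left_of_respectsIso] at *
    · exact hPsnd
  have hPW' : P (f ∣_ W') := by
    refine MorphismProperty.IsLocalAtTarget.of_forall_pullbackSnd hgK ?_
    intro T k _ hk
    cases hk
    exact hPsnd'
  have hle := hmax W' hPW'
  intro r hr
  exact hle ((hW'mem _).mpr ⟨r, hr, rfl⟩)

/-- The largest open is invariant. -/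
theorem h4_preimage_eq_of_max (Q0 : MorphismProperty Scheme.{u})
    [Q0.IsStableUnderBaseChange] [Q0.IsStableUnderComposition]
    (hopen : ∀ {X Y : Scheme.{u}} (f : X ⟶ Y), Q0 f → IsOpenMap f)
    (himm : ∀ {X Y : Scheme.{u}} (f : X ⟶ Y) [IsOpenImmersion f], Q0 f)
    (P : MorphismProperty Scheme.{u}) [P.IsLocalAtTarget (Scheme.precoverage Q0)]
    (hs : Presieve.singleton G.s ∈ Scheme.precoverage Q0 G.U)
    (ht : Presieve.singleton G.t ∈ Scheme.precoverage Q0 G.U)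
    {E : Scheme.{u}} (f : E ⟶ G.U) (c' : pullback f G.t ⟶ E)
    (hF : IsPullback c' (pullback.snd f G.t) f G.s)
    (W : G.U.Opens) (hW : P (f ∣_ W)) (hmax : ∀ W' : G.U.Opens, P (f ∣_ W') → W' ≤ W) :
    G.s ⁻¹ᵁ W = G.t ⁻¹ᵁ W := by
  have hle := h4_preimage_le_of_max G Q0 hopen himm P hs ht f c' hF W hW hmax
  apply le_antisymm _ hle
  intro r hr
  have h1 : G.i r ∈ G.t ⁻¹ᵁ W := by
    change G.t (G.i r) ∈ W
    have : G.t (G.i r) = (G.i ≫ G.t) r := rfl
    rw [this, G.i_t]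
    exact hr
  have h2 := hle h1
  change G.s (G.i r) ∈ W at h2
  have : G.s (G.i r) = (G.i ≫ G.s) r := rfl
  rw [this, G.i_s] at h2
  exact h2

end Groth.Agent.Lib.helper4
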