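import Groth.Prelude.Def_Grpd
import Mathlib

/-!
# T-point calculus for groupoid schemes (helper4)
-/

set_option autoImplicit false

universe u

open CategoryTheory CategoryTheory.Limits AlgebraicGeometry

namespace Groth.Agent.Lib.helper4

variable {S : Scheme.{u}} (G : Grpd.GroupoidScheme S)

/-- composition of `T`-points -/
noncomputable def gm {T : Scheme.{u}} (α β : T ⟶ G.R) (h : α ≫ G.s = β ≫ G.t) : T ⟶ G.R :=
  pullback.lift α β h ≫ G.c

theorem gm_congr {T : Scheme.{u}} {α α' β β' : T ⟶ G.R} (hα : α = α') (hβ : β = β')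
    (h : α ≫ G.s = β ≫ G.t) : gm G α β h = gm G α' β' (by rw [← hα, ← hβ]; exact h) := by
  subst hα hβ; rfl

theorem gm_s {T : Scheme.{u}} (α β : T ⟶ G.R) (h : α ≫ G.s = β ≫ G.t) :
    gm G α β h ≫ G.s = β ≫ G.s := G.comp_s α β h

theorem gm_t {T : Scheme.{u}} (α β : T ⟶ G.R) (h : α ≫ G.s = β ≫ G.t) :
    gm G α β h ≫ G.t = α ≫ G.t := G.comp_t α β h

theorem gm_assoc {T : Scheme.{u}} (α β γ : T ⟶ G.R) (h₁ : α ≫ G.s = β ≫ G.t)
    (h₂ : β ≫ G.s = γ ≫ G.t) :
    gm G (gm G α β h₁) γ ((gm_s G α β h₁).trans h₂) =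
      gm G α (gm G β γ h₂) (h₁.trans (gm_t G β γ h₂).symm) := G.assoc α β γ h₁ h₂

theorem gm_e {T : Scheme.{u}} (α : T ⟶ G.R) :
    gm G α (α ≫ G.s ≫ G.e)
      (by rw [Category.assoc, Category.assoc, G.e_t, Category.comp_id]) = α := G.comp_e α

theorem e_gm {T : Scheme.{u}} (α : T ⟶ G.R) :
    gm G (α ≫ G.t ≫ G.e) α
      (by rw [Category.assoc, Category.assoc, G.e_s, Category.comp_id]) = α := G.e_comp α

theorem gm_i {T : Scheme.{u}} (α : T ⟶ G.R) :
    gm G α (α ≫ G.i) (by rw [Category.assoc, G.i_t]) = α ≫ G.t ≫ G.e := G.comp_i α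

theorem i_gm {T : Scheme.{u}} (α : T ⟶ G.R) :
    gm G (α ≫ G.i) α (by rw [Category.assoc, G.i_s]) = α ≫ G.s ≫ G.e := G.i_comp α

theorem precomp_gm {T T' : Scheme.{u}} (x : T' ⟶ T) (α β : T ⟶ G.R) (h : α ≫ G.s = β ≫ G.t) :
    x ≫ gm G α β h = gm G (x ≫ α) (x ≫ β) (by rw [Category.assoc, Category.assoc, h]) := by
  unfold gm
  rw [← Category.assoc]
  congr 1
  apply pullback.hom_ext
  · rw [Category.assoc, pullback.lift_fst, pullback.lift_fst]
  · rw [Category.assoc, pullback.lift_snd, pullback.lift_snd]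

theorem comp_c {T : Scheme.{u}} (f : T ⟶ pullback G.s G.t) :
    f ≫ G.c = gm G (f ≫ pullback.fst G.s G.t) (f ≫ pullback.snd G.s G.t)
      (by rw [Category.assoc, Category.assoc, pullback.condition]) := by
  unfold gm
  congr 1
  apply pullback.hom_ext
  · rw [pullback.lift_fst]
  · rw [pullback.lift_snd]

/-- `a⁻¹ (a b) = b` -/
theorem i_gm_gm {T : Scheme.{u}} (α β : T ⟶ G.R) (h : α ≫ G.s = β ≫ G.t) :
    gm G (α ≫ G.i) (gm G α β h) (by rw [Category.assoc, G.i_s, gm_t]) = β := by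
  have hi : (α ≫ G.i) ≫ G.s = α ≫ G.t := by rw [Category.assoc, G.i_s]
  have h1 := gm_assoc G (α ≫ G.i) α β hi h
  have h2 : α ≫ G.s ≫ G.e = β ≫ G.t ≫ G.e := by
    rw [← Category.assoc, h, Category.assoc]
  calc gm G (α ≫ G.i) (gm G α β h) _ = gm G (gm G (α ≫ G.i) α hi) β _ := h1.symm
    _ = gm G (α ≫ G.s ≫ G.e) β _ := gm_congr G (i_gm G α) rfl _
    _ = gm G (β ≫ G.t ≫ G.e) β _ := gm_congr G h2 rfl _
    _ = β := e_gm G β

/-- `a (a⁻¹ b) = b` -/
theorem gm_i_gm {T : Scheme.{u}} (a b : T ⟶ G.R) (h : a ≫ G.t = b ≫ G.t) :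
    gm G a (gm G (a ≫ G.i) b (by rw [Category.assoc, G.i_s, h]))
      (by rw [gm_t, Category.assoc, G.i_t]) = b := by
  have hi : a ≫ G.s = (a ≫ G.i) ≫ G.t := by rw [Category.assoc, G.i_t]
  have hb : (a ≫ G.i) ≫ G.s = b ≫ G.t := by rw [Category.assoc, G.i_s, h]
  have h1 := gm_assoc G a (a ≫ G.i) b hi hb
  have h2 : a ≫ G.t ≫ G.e = b ≫ G.t ≫ G.e := by
    rw [← Category.assoc, h, Category.assoc]
  calc gm G a (gm G (a ≫ G.i) b _) _ = gm G (gm G a (a ≫ G.i) hi) b _ := h1.symm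
    _ = gm G (a ≫ G.t ≫ G.e) b _ := gm_congr G (gm_i G a) rfl _
    _ = gm G (b ≫ G.t ≫ G.e) b _ := gm_congr G h2 rfl _
    _ = b := e_gm G b

/-- `(x b) b⁻¹ = x` -/
theorem gm_gm_i {T : Scheme.{u}} (x b : T ⟶ G.R) (h : x ≫ G.s = b ≫ G.t) :
    gm G (gm G x b h) (b ≫ G.i) (by rw [gm_s, Category.assoc, G.i_t]) = x := by
  have hi : b ≫ G.s = (b ≫ G.i) ≫ G.t := by rw [Category.assoc, G.i_t]
  have h1 := gm_assoc G x b (b ≫ G.i) h hi
  have h2 : b ≫ G.t ≫ G.e = x ≫ G.s ≫ G.e := by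
    rw [← Category.assoc, ← h, Category.assoc]
  calc gm G (gm G x b h) (b ≫ G.i) _ = gm G x (gm G b (b ≫ G.i) hi) _ := h1
    _ = gm G x (b ≫ G.t ≫ G.e) _ := gm_congr G rfl (gm_i G b) _
    _ = gm G x (x ≫ G.s ≫ G.e) _ := gm_congr G rfl h2 _
    _ = x := gm_e G x

/-- `(a b⁻¹) b = a` when `s a = s b` -/
theorem gm_i_gm' {T : Scheme.{u}} (a b : T ⟶ G.R) (h : a ≫ G.s = b ≫ G.s) :
    gm G (gm G a (b ≫ G.i) (by rw [Category.assoc, G.i_t, h])) b
      (by rw [gm_s, Category.assoc, G.i_s]) = a := by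
  have ha : a ≫ G.s = (b ≫ G.i) ≫ G.t := by rw [Category.assoc, G.i_t, h]
  have hi : (b ≫ G.i) ≫ G.s = b ≫ G.t := by rw [Category.assoc, G.i_s]
  have h1 := gm_assoc G a (b ≫ G.i) b ha hi
  have h2 : b ≫ G.s ≫ G.e = a ≫ G.s ≫ G.e := by
    rw [← Category.assoc, ← h, Category.assoc]
  calc gm G (gm G a (b ≫ G.i) _) b _ = gm G a (gm G (b ≫ G.i) b hi) _ := h1
    _ = gm G a (b ≫ G.s ≫ G.e) _ := gm_congr G rfl (i_gm G b) _
    _ = gm G a (a ≫ G.s ≫ G.e) _ := gm_congr G rfl h2 _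
    _ = a := gm_e G a

/-! ### the stabilizer -/

/-- the projection of the stabilizer to `R` -/
noncomputable def stabFst : G.stabilizer ⟶ G.R := pullback.fst G.j G.diag

theorem j_fst : G.j ≫ pullback.fst G.pU G.pU = G.t := by
  rw [Grpd.GroupoidScheme.j, pullback.lift_fst]

theorem j_snd : G.j ≫ pullback.snd G.pU G.pU = G.s := by
  rw [Grpd.GroupoidScheme.j, pullback.lift_snd]

theorem diag_fst : G.diag ≫ pullback.fst G.pU G.pU = 𝟙 _ := by
  rw [Grpd.GroupoidScheme.diag, pullback.lift_fst]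

theorem diag_snd : G.diag ≫ pullback.snd G.pU G.pU = 𝟙 _ := by
  rw [Grpd.GroupoidScheme.diag, pullback.lift_snd]

theorem stabFst_t : stabFst G ≫ G.t = G.stabilizerToU := by
  have h := congrArg (fun f => f ≫ pullback.fst G.pU G.pU)
    (pullback.condition (f := G.j) (g := G.diag))
  simp only [Category.assoc] at h
  rw [j_fst, diag_fst, Category.comp_id] at h
  exact h

theorem stabFst_s : stabFst G ≫ G.s = G.stabilizerToU := by
  have h := congrArg (fun f => f ≫ pullback.snd G.pU G.pU)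
    (pullback.condition (f := G.j) (g := G.diag))
  simp only [Category.assoc] at h
  rw [j_snd, diag_snd, Category.comp_id] at h
  exact h

/-- a `T`-point of the stabilizer from an arrow with equal source and target -/
noncomputable def stabLift {T : Scheme.{u}} (a : T ⟶ G.R) (v : T ⟶ G.U) (ht : a ≫ G.t = v)
    (hs : a ≫ G.s = v) : T ⟶ G.stabilizer :=
  pullback.lift a v (by
    apply pullback.hom_ext
    · rw [Category.assoc, j_fst, Category.assoc, diag_fst, Category.comp_id, ht]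
    · rw [Category.assoc, j_snd, Category.assoc, diag_snd, Category.comp_id, hs])

theorem stabLift_fst {T : Scheme.{u}} (a : T ⟶ G.R) (v : T ⟶ G.U) (ht : a ≫ G.t = v)
    (hs : a ≫ G.s = v) : stabLift G a v ht hs ≫ stabFst G = a :=
  pullback.lift_fst _ _ _

theorem stabLift_snd {T : Scheme.{u}} (a : T ⟶ G.R) (v : T ⟶ G.U) (ht : a ≫ G.t = v)
    (hs : a ≫ G.s = v) : stabLift G a v ht hs ≫ G.stabilizerToU = v :=
  pullback.lift_snd _ _ _

theorem stab_hom_ext {T : Scheme.{u}} (f g : T ⟶ G.stabilizer)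
    (h1 : f ≫ stabFst G = g ≫ stabFst G) (h2 : f ≫ G.stabilizerToU = g ≫ G.stabilizerToU) :
    f = g :=
  pullback.hom_ext h1 h2

theorem jj_t : pullback.fst G.j G.j ≫ G.t = pullback.snd G.j G.j ≫ G.t := by
  have h := congrArg (fun f => f ≫ pullback.fst G.pU G.pU)
    (pullback.condition (f := G.j) (g := G.j))
  simp only [Category.assoc] at h
  rw [j_fst] at h
  exact h

theorem jj_s : pullback.fst G.j G.j ≫ G.s = pullback.snd G.j G.j ≫ G.s := by
  have h := congrArg (fun f => f ≫ pullback.snd G.pU G.pU)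
    (pullback.condition (f := G.j) (g := G.j))
  simp only [Category.assoc] at h
  rw [j_snd] at h
  exact h

end Groth.Agent.Lib.helper4
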