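import Mathlib

set_option autoImplicit false
universe u

namespace Groth.Agent.Lib.helper4

open Finset

theorem h4_idem_jacobson_eq_zero {A : Type u} [CommRing A] {x : A} (hx : IsIdempotentElem x)
    (hj : x ∈ Ideal.jacobson (⊥ : Ideal A)) : x = 0 := by
  have hu : IsUnit (x * (-1) + 1) := Ideal.mem_jacobson_bot.mp hj (-1)
  have h0 : x * (x * (-1) + 1) = 0 := by
    have := hx.eq
    calc x * (x * (-1) + 1) = x - x * x := by ring
      _ = 0 := by rw [this, sub_self]
  exact (hu.mul_left_eq_zero).mp h0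

theorem h4_hensel_core {A : Type u} [CommRing A] (I : Ideal A)
    (hI : I ≤ Ideal.jacobson (⊥ : Ideal A))
    (hidem : ∀ e : A ⧸ I, IsIdempotentElem e →
      ∃ e' : A, IsIdempotentElem e' ∧ Ideal.Quotient.mk I e' = e)
    {ι : Type} [Fintype ι] [DecidableEq ι] (a : ι → A) (a₀ : A)
    (h0 : ∏ i, (a₀ - a i) ∈ I)
    (h1 : IsUnit (Ideal.Quotient.mk I (∑ i, ∏ j ∈ univ.erase i, (a₀ - a j)))) :
    ∃ r : A, ∏ i, (r - a i) = 0 ∧ r - a₀ ∈ I := by
  classical
  set π := Ideal.Quotient.mk I with hπ
  let u : ι → A ⧸ I := fun i => π (a₀ - a i)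
  let v : ι → A ⧸ I := fun i => ∏ j ∈ univ.erase i, u j
  have hs : π (∑ i, ∏ j ∈ univ.erase i, (a₀ - a j)) = ∑ i, v i := by
    simp only [map_sum, map_prod, v, u]
  rw [hs] at h1
  obtain ⟨s', hs'⟩ := h1.exists_right_inv
  set s := ∑ i, v i with hsdef
  have hprod : ∏ i, u i = 0 := by
    have : ∏ i, u i = π (∏ i, (a₀ - a i)) := by simp only [map_prod, u]
    rw [this]
    exact Ideal.Quotient.eq_zero_iff_mem.mpr h0
  have huv : ∀ i, u i * v i = 0 := by
    intro i
    change u i * ∏ j ∈ univ.erase i, u j = 0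
    rw [Finset.mul_prod_erase _ _ (mem_univ i)]
    exact hprod
  have hvv : ∀ i k, i ≠ k → v i * v k = 0 := by
    intro i k hik
    have hk : k ∈ univ.erase i := mem_erase.mpr ⟨hik.symm, mem_univ k⟩
    have : v i = u k * ∏ j ∈ (univ.erase i).erase k, u j := by
      change ∏ j ∈ univ.erase i, u j = _
      rw [Finset.mul_prod_erase _ _ hk]
    rw [this]
    calc u k * (∏ j ∈ (univ.erase i).erase k, u j) * v k
        = (∏ j ∈ (univ.erase i).erase k, u j) * (u k * v k) := by ring
      _ = 0 := by rw [huv k, mul_zero]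
  have hvs : ∀ i, v i * v i = v i * s := by
    intro i
    rw [hsdef, Finset.mul_sum, Finset.sum_eq_single i]
    · intro k _ hk
      exact hvv i k hk.symm
    · intro h; exact absurd (mem_univ i) h
  let ē : ι → A ⧸ I := fun i => v i * s'
  have hē_idem : ∀ i, IsIdempotentElem (ē i) := by
    intro i
    change v i * s' * (v i * s') = v i * s'
    calc v i * s' * (v i * s') = (v i * v i) * s' * s' := by ring
      _ = v i * (s * s') * s' := by rw [hvs i]; ring
      _ = v i * s' := by rw [hs', mul_one]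
  have hē_orth : ∀ i k, i ≠ k → ē i * ē k = 0 := by
    intro i k hik
    change v i * s' * (v k * s') = 0
    calc v i * s' * (v k * s') = (v i * v k) * s' * s' := by ring
      _ = 0 := by rw [hvv i k hik, zero_mul, zero_mul]
  have hē_sum : ∑ i, ē i = 1 := by
    change ∑ i, v i * s' = 1
    rw [← Finset.sum_mul]
    exact hs'
  have hē_u : ∀ i, ē i * u i = 0 := by
    intro i
    change v i * s' * u i = 0
    calc v i * s' * u i = (u i * v i) * s' := by ring
      _ = 0 := by rw [huv i, zero_mul]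
  choose e he heπ using fun i => hidem (ē i) (hē_idem i)
  have horth : ∀ i k, i ≠ k → e i * e k = 0 := by
    intro i k hik
    apply h4_idem_jacobson_eq_zero ((he i).mul (he k))
    apply hI
    rw [← Ideal.Quotient.eq_zero_iff_mem, map_mul, heπ, heπ]
    exact hē_orth i k hik
  have hEidem : IsIdempotentElem (∑ i, e i) := by
    change (∑ i, e i) * (∑ i, e i) = ∑ i, e i
    rw [Finset.sum_mul]
    refine Finset.sum_congr rfl fun i _ => ?_
    rw [Finset.mul_sum, Finset.sum_eq_single i]
    · exact (he i).eq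
    · intro k _ hk; exact horth i k hk.symm
    · intro h; exact absurd (mem_univ i) h
  have hsum : ∑ i, e i = 1 := by
    have h1' : IsIdempotentElem (1 - ∑ i, e i) := hEidem.one_sub
    have h2 : (1 - ∑ i, e i) = 0 := by
      apply h4_idem_jacobson_eq_zero h1'
      apply hI
      rw [← Ideal.Quotient.eq_zero_iff_mem, map_sub, map_one, map_sum]
      have h5 : ∑ i, (Ideal.Quotient.mk I) (e i) = ∑ i, ē i :=
        Finset.sum_congr rfl (fun i _ => heπ i)
      rw [h5, hē_sum, sub_self]
    exact (sub_eq_zero.mp h2).symm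
  refine ⟨∑ i, e i * a i, ?_, ?_⟩
  · have hr : ∀ i, e i * ((∑ k, e k * a k) - a i) = 0 := by
      intro i
      rw [mul_sub, Finset.mul_sum, Finset.sum_eq_single i]
      · rw [← mul_assoc, (he i).eq, sub_self]
      · intro k _ hk
        rw [← mul_assoc, horth i k hk.symm, zero_mul]
      · intro h; exact absurd (mem_univ i) h
    calc ∏ i, ((∑ k, e k * a k) - a i)
        = (∑ i, e i) * ∏ i, ((∑ k, e k * a k) - a i) := by rw [hsum, one_mul]
      _ = ∑ i, e i * ∏ j, ((∑ k, e k * a k) - a j) := Finset.sum_mul _ _ _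
      _ = 0 := by
        refine Finset.sum_eq_zero fun i _ => ?_
        rw [← Finset.mul_prod_erase _ _ (mem_univ i), ← mul_assoc, hr i, zero_mul]
  · rw [← Ideal.Quotient.eq_zero_iff_mem]
    have : π ((∑ i, e i * a i) - a₀) = - ∑ i, ē i * u i := by
      have h3 : π a₀ = ∑ i, ē i * π a₀ := by rw [← Finset.sum_mul, hē_sum, one_mul]
      rw [map_sub, map_sum, h3, ← Finset.sum_sub_distrib, ← Finset.sum_neg_distrib]
      refine Finset.sum_congr rfl fun i _ => ?_
      rw [map_mul, heπ]
      change ē i * π (a i) - ē i * π a₀ = -(ē i * π (a₀ - a i))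
      rw [map_sub]
      ring
    rw [this]
    simp only [hē_u, Finset.sum_const_zero, neg_zero]

end Groth.Agent.Lib.helper4
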