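import Groth.Prelude.Def_LambdaRing
import Mathlib
import Groth.Agent.Lib.helper2.Lam

/-!
# Pre-λ-rings with `λ_t(1) = 1 + t` (helper4)
-/

set_option autoImplicit false

universe u

open PowerSeries Finset LambdaRing

namespace Groth.Agent.Lib.helper4

variable {K : Type u} [CommRing K] [LambdaOps K]

theorem h4_lamSeries_one (h1 : ∀ k : ℕ, 2 ≤ k → LambdaOps.lam k (1 : K) = 0) :
    lamSeries (1 : K) = 1 + X := by
  ext k
  rcases k with _ | _ | k
  · simp [lamSeries, LambdaOps.lam_zero]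
  · simp [lamSeries, LambdaOps.lam_one, coeff_one, coeff_X]
  · simp [lamSeries, h1 (k + 2) (by omega), coeff_one, coeff_X]

theorem h4_lamSeries_natCast (h1 : ∀ k : ℕ, 2 ≤ k → LambdaOps.lam k (1 : K) = 0) (m : ℕ) :
    lamSeries (m : K) = (1 + X) ^ m := by
  induction m with
  | zero => simp [h2_lamSeries_zero]
  | succ m ih => rw [Nat.cast_succ, h2_lamSeries_add, ih, h4_lamSeries_one h1, pow_succ]

omit [LambdaOps K] in
theorem h4_coeff_one_add_X_pow (m k : ℕ) :
    coeff k ((1 + X : PowerSeries K) ^ m) = (m.choose k : K) := by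
  have : (1 + X : PowerSeries K) ^ m = (((1 + Polynomial.X : Polynomial K) ^ m : Polynomial K) : PowerSeries K) := by
    simp
  rw [this, Polynomial.coeff_coe, Polynomial.coeff_one_add_X_pow]

theorem h4_lam_eq_coeff (n : ℕ) (x : K) : LambdaOps.lam n x = coeff n (lamSeries x) := by
  simp [lamSeries]

/-- If `λ^j(z) = 0` for `j ≥ 2` then `γ^k(z) = z` for `k ≥ 1`. -/
theorem h4_gamma_of_lam_eq_zero (z : K) (hz : ∀ j : ℕ, 2 ≤ j → LambdaOps.lam j z = 0) (k : ℕ) :
    gamma k z = if k = 0 then 1 else z := by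
  unfold gamma
  by_cases hk : k = 0
  · simp [hk]
  · rw [if_neg hk, if_neg hk]
    rw [Finset.sum_eq_single 1]
    · simp [LambdaOps.lam_one]
    · intro j _ hj1
      rcases j with _ | _ | j
      · simp
      · exact absurd rfl hj1
      · simp [hz (j + 2) (by omega)]
    · intro h
      exact absurd (Finset.mem_range.2 (by omega)) h

theorem h4_gammaSeries_of_lam_eq_zero (z : K) (hz : ∀ j : ℕ, 2 ≤ j → LambdaOps.lam j z = 0) :
    h2gammaSeries z = 1 + C z * h2G K := by
  ext k
  simp only [h2gammaSeries, coeff_mk, h4_gamma_of_lam_eq_zero z hz, map_add, coeff_C_mul]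
  rcases k with _ | k
  · simp [h2G]
  · simp [h2G, coeff_one, coeff_succ_X_mul]

/-- In a pre-λ-ring with `λ_t(1) = 1 + t`, if `λ^j(y) = 0` for `j ≥ 2` then
`γ_t(y - 1) = 1 + (y - 1) t`. -/
theorem h4_gammaSeries_sub_one (h1 : ∀ k : ℕ, 2 ≤ k → LambdaOps.lam k (1 : K) = 0) (y : K)
    (hy : ∀ j : ℕ, 2 ≤ j → LambdaOps.lam j y = 0) :
    h2gammaSeries (y - 1) = 1 + C (y - 1) * X := by
  have hadd := h2_gammaSeries_add (y - 1) 1
  rw [sub_add_cancel, h4_gammaSeries_of_lam_eq_zero y hy, h4_gammaSeries_of_lam_eq_zero 1 h1,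
    map_one, one_mul, h2_one_add_G] at hadd
  have h2 := congrArg (fun p => p * (1 - X)) hadd
  beta_reduce at h2
  rw [mul_assoc, mk_one_mul_one_sub_eq_one, mul_one, add_mul, one_mul, mul_assoc,
    h2_G_mul_one_sub] at h2
  rw [← h2, map_sub, map_one]
  ring

theorem h4_gammaSeries_zero : h2gammaSeries (0 : K) = 1 := by
  have h := h2_gammaSeries_add (0 : K) 0
  rw [add_zero] at h
  have hc : constantCoeff (h2gammaSeries (0 : K)) = 1 := by
    rw [← coeff_zero_eq_constantCoeff_apply]
    simp [h2gammaSeries, gamma]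
  have hu : IsUnit (h2gammaSeries (0 : K)) := by
    rw [PowerSeries.isUnit_iff_constantCoeff, hc]
    exact isUnit_one
  obtain ⟨u, hu⟩ := hu
  rw [← hu] at h ⊢
  have : (u : PowerSeries K) * 1 = u * u := by rw [mul_one]; exact h
  exact (Units.mul_right_inj u).1 this.symm

theorem h4_gammaSeries_sum {ι : Type*} (s : Finset ι) (f : ι → K) :
    h2gammaSeries (∑ i ∈ s, f i) = ∏ i ∈ s, h2gammaSeries (f i) := by
  classical
  induction s using Finset.induction_on with
  | empty => simp [h4_gammaSeries_zero]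
  | insert a s ha ih => rw [Finset.sum_insert ha, Finset.prod_insert ha, h2_gammaSeries_add, ih]

omit [LambdaOps K] in
theorem h4_coeff_prod_one_add {ι : Type*} [DecidableEq ι] (s : Finset ι) (a : ι → K) (k : ℕ) :
    coeff k (∏ i ∈ s, (1 + C (a i) * X : PowerSeries K)) =
      ∑ t ∈ s.powersetCard k, ∏ i ∈ t, a i := by
  rw [Finset.prod_one_add, map_sum, Finset.powersetCard_eq_filter, Finset.sum_filter]
  refine Finset.sum_congr rfl fun t _ => ?_
  rw [Finset.prod_mul_distrib, Finset.prod_const, ← map_prod, coeff_C_mul_X_pow]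
  by_cases h : t.card = k
  · simp [h]
  · simp [h, Ne.symm h]

end Groth.Agent.Lib.helper4
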