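import Groth.Prelude.Def_LambdaRing
import Mathlib
import Groth.Agent.Lib.helper4.PreLam

/-!
# More λ-ring lemmas (helper4)
-/

set_option autoImplicit false

universe u

open PowerSeries Finset LambdaRing

namespace Groth.Agent.Lib.helper4

section Comb

variable {R : Type u} [CommRing R]

theorem h4_coeff_one_sub_X_pow' (r k : ℕ) :
    coeff k ((1 - X : PowerSeries R) ^ r) = (-1 : R) ^ k * (r.choose k : R) := by
  have h3 : (1 - PowerSeries.X : PowerSeries R) ^ r =
      PowerSeries.rescale (-1 : R) ((1 + PowerSeries.X) ^ r) := by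
    rw [map_pow, map_add, map_one, PowerSeries.rescale_X]
    simp [sub_eq_add_neg]
  rw [h3, coeff_rescale, h4_coeff_one_add_X_pow]

theorem h4_coeff_one_sub_X_pow (r k : ℕ) :
    coeff k ((1 - X : PowerSeries ℤ) ^ r) = (-1 : ℤ) ^ k * (r.choose k : ℤ) :=
  h4_coeff_one_sub_X_pow' r k

theorem h4_alt_choose_identity (r : ℕ) :
    ∑ m ∈ Finset.range (r + 1),
      (-1 : ℤ) ^ (r - m) * (r.choose m : ℤ) * ((r + m).choose m : ℤ) = 1 := by
  have h : PowerSeries.coeff r ((PowerSeries.mk 1 : PowerSeries ℤ) ^ (r + 1) * (1 - X : PowerSeries ℤ) ^ r) = 1 := by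
    have : (PowerSeries.mk 1 : PowerSeries ℤ) ^ (r + 1) * (1 - X : PowerSeries ℤ) ^ r = PowerSeries.mk 1 := by
      rw [pow_succ, mul_assoc, mul_comm (PowerSeries.mk 1) ((1 - X) ^ r), ← mul_assoc, ← mul_pow,
        mk_one_mul_one_sub_eq_one, one_pow, one_mul]
    rw [this, coeff_mk]; rfl
  rw [coeff_mul, Finset.Nat.sum_antidiagonal_eq_sum_range_succ
    (fun i j => coeff i ((PowerSeries.mk 1 : PowerSeries ℤ) ^ (r + 1)) * coeff j ((1 - X : PowerSeries ℤ) ^ r))] at h
  refine Eq.trans ?_ h
  apply Finset.sum_congr rfl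
  intro m hm
  have hm' : m ≤ r := by have := Finset.mem_range.1 hm; omega
  rw [h4_coeff_one_sub_X_pow, mk_one_pow_eq_mk_choose_add, coeff_mk, Nat.choose_symm hm',
    ← Nat.choose_symm_add]
  ring

/-- `Π_{u ∈ s} (1 + u X)` -/
noncomputable def h4P (s : Multiset R) : PowerSeries R :=
  (s.map fun u => (1 + C u * X : PowerSeries R)).prod

theorem h4P_zero : h4P (0 : Multiset R) = 1 := by simp [h4P]

theorem h4P_cons (a : R) (s : Multiset R) : h4P (a ::ₘ s) = (1 + C a * X) * h4P s := by
  simp [h4P]

theorem h4_coeff_zero_one_add_mul (a : R) (Q : PowerSeries R) :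
    coeff 0 ((1 + C a * X) * Q) = coeff 0 Q := by
  simp

theorem h4_coeff_succ_one_add_mul (a : R) (Q : PowerSeries R) (k : ℕ) :
    coeff (k + 1) ((1 + C a * X) * Q) = coeff (k + 1) Q + a * coeff k Q := by
  rw [add_mul, one_mul, map_add, mul_assoc, coeff_C_mul, coeff_succ_X_mul]

theorem h4P_coeff_zero (s : Multiset R) : coeff 0 (h4P s) = 1 := by
  induction s using Multiset.induction_on with
  | empty => simp [h4P_zero]
  | cons a s ih => rw [h4P_cons, h4_coeff_zero_one_add_mul, ih]

theorem h4P_coeff_eq_zero (s : Multiset R) : ∀ k, Multiset.card s < k → coeff k (h4P s) = 0 := by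
  induction s using Multiset.induction_on with
  | empty =>
    intro k hk
    rw [h4P_zero, coeff_one, if_neg]
    simp at hk; omega
  | cons a s ih =>
    intro k hk
    rw [Multiset.card_cons] at hk
    obtain ⟨k, rfl⟩ : ∃ k', k = k' + 1 := ⟨k - 1, by omega⟩
    rw [h4P_cons, h4_coeff_succ_one_add_mul, ih (k + 1) (by omega), ih k (by omega)]
    simp

theorem h4P_coeff_card (s : Multiset R) : coeff (Multiset.card s) (h4P s) = s.prod := by
  induction s using Multiset.induction_on with
  | empty => simp [h4P_zero]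
  | cons a s ih =>
    rw [Multiset.card_cons, h4P_cons, h4_coeff_succ_one_add_mul, ih,
      h4P_coeff_eq_zero s _ (Nat.lt_succ_self _), Multiset.prod_cons, zero_add]

theorem h4P_coeff_dual (inv' : R → R) (s : Multiset R) (h : ∀ u ∈ s, inv' u * u = 1) :
    ∀ i j, i + j = Multiset.card s →
      coeff i (h4P s) = coeff j (h4P (s.map inv')) * s.prod := by
  induction s using Multiset.induction_on with
  | empty =>
    intro i j hij
    simp at hij
    obtain ⟨rfl, rfl⟩ := hij
    simp [h4P_zero]
  | cons a s ih =>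
    intro i j hij
    have ha : inv' a * a = 1 := h a (Multiset.mem_cons_self a s)
    have hs : ∀ u ∈ s, inv' u * u = 1 := fun u hu => h u (Multiset.mem_cons_of_mem hu)
    have ih' := ih hs
    rw [Multiset.card_cons] at hij
    rw [Multiset.map_cons, h4P_cons, h4P_cons, Multiset.prod_cons]
    have hcard : Multiset.card (s.map inv') = Multiset.card s := Multiset.card_map _ _
    rcases i with _ | i
    · -- i = 0, j = card s + 1
      obtain rfl : j = Multiset.card s + 1 := by omega
      rw [h4_coeff_zero_one_add_mul, h4_coeff_succ_one_add_mul,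
        h4P_coeff_eq_zero (s.map inv') _ (by rw [hcard]; exact Nat.lt_succ_self _), zero_add,
        ih' 0 (Multiset.card s) (by omega)]
      calc coeff (Multiset.card s) (h4P (s.map inv')) * s.prod
          = (inv' a * a) * (coeff (Multiset.card s) (h4P (s.map inv')) * s.prod) := by
            rw [ha, one_mul]
        _ = _ := by ring
    · rcases j with _ | j
      · -- j = 0, i + 1 = card s + 1
        obtain rfl : i = Multiset.card s := by omega
        rw [h4_coeff_zero_one_add_mul, h4_coeff_succ_one_add_mul,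
          h4P_coeff_eq_zero s _ (Nat.lt_succ_self _), zero_add, h4P_coeff_card, h4P_coeff_zero,
          one_mul]
      · rw [h4_coeff_succ_one_add_mul, h4_coeff_succ_one_add_mul,
          ih' (i + 1) j (by omega), ih' i (j + 1) (by omega)]
        calc coeff j (h4P (s.map inv')) * s.prod + a * (coeff (j + 1) (h4P (s.map inv')) * s.prod)
            = (inv' a * a) * (coeff j (h4P (s.map inv')) * s.prod) +
                a * (coeff (j + 1) (h4P (s.map inv')) * s.prod) := by rw [ha, one_mul]
          _ = _ := by ring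

end Comb

section Lam

variable {K : Type u} [CommRing K] [LambdaOps K]

theorem h4_lamSeries_sum_lines (P : PosStructure K) (s : Multiset K)
    (hs : ∀ u ∈ s, P.IsLine u) : lamSeries s.sum = h4P s :=
  h2_lamSeries_sum_lines P s hs

/-- duality `λ^i(Σ u) = λ^(m-i)(Σ u⁻¹) · λ^m(Σ u)` for sums of line elements -/
theorem h4_lam_sum_lines_dual (P : PosStructure K) (s : Multiset K)
    (hs : ∀ u ∈ s, P.IsLine u) (inv' : K → K) (h1 : ∀ u ∈ s, inv' u * u = 1)
    (h2 : ∀ u ∈ s, P.IsLine (inv' u)) (i : ℕ) (hi : i ≤ Multiset.card s) :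
    LambdaOps.lam i s.sum =
      LambdaOps.lam (Multiset.card s - i) (s.map inv').sum * LambdaOps.lam (Multiset.card s) s.sum := by
  have hs' : ∀ v ∈ s.map inv', P.IsLine v := by
    intro v hv
    obtain ⟨u, hu, rfl⟩ := Multiset.mem_map.1 hv
    exact h2 u hu
  rw [h4_lam_eq_coeff, h4_lam_eq_coeff, h4_lam_eq_coeff, h4_lamSeries_sum_lines P s hs,
    h4_lamSeries_sum_lines P _ hs', h4P_coeff_card,
    h4P_coeff_dual inv' s h1 i (Multiset.card s - i) (by omega)]

theorem h4_gamma_one (z : K) : gamma 1 z = z := by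
  simp [gamma, Finset.sum_range_succ, LambdaOps.lam_one]

theorem h4_map_gamma {K' : Type u} [CommRing K'] [LambdaOps K'] {f : K →+* K'}
    (hf : IsLambdaHom f) (k : ℕ) (x : K) : f (gamma k x) = gamma k (f x) := by
  unfold gamma
  by_cases hk : k = 0
  · simp [hk]
  · rw [if_neg hk, if_neg hk, map_sum]
    apply Finset.sum_congr rfl
    intro j _
    rw [map_mul, map_natCast]
    by_cases hj : j = 0
    · simp [hj]
    · rw [if_neg hj, if_neg hj, hf j x]

/-- `γ^m(e - m) = Σ_{i ≤ m} (-1)^(m-i) λ^i(e)` for `e` positive of augmentation `m`. -/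
theorem h4_gamma_top (P : PosStructure K) (e : K) (he : e ∈ P.pos) :
    gamma (P.aug e).toNat (e - ((P.aug e).toNat : K)) =
      ∑ i ∈ range ((P.aug e).toNat + 1), (-1 : K) ^ ((P.aug e).toNat - i) * LambdaOps.lam i e := by
  rw [h2_gamma_sub_natCast P e he, h2Q, Polynomial.finsetSum_coeff]
  apply Finset.sum_congr rfl
  intro i hi
  have hi' : i ≤ (P.aug e).toNat := by have := Finset.mem_range.1 hi; omega
  rw [mul_assoc, Polynomial.coeff_C_mul, Polynomial.coeff_X_pow_mul', if_pos hi']
  have : ((1 - Polynomial.X : Polynomial K) ^ ((P.aug e).toNat - i)).coeff ((P.aug e).toNat - i) =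
      (-1 : K) ^ ((P.aug e).toNat - i) := by
    have h := h4_coeff_one_sub_X_pow' (R := K) ((P.aug e).toNat - i) ((P.aug e).toNat - i)
    rw [Nat.choose_self, Nat.cast_one, mul_one] at h
    rw [← h, ← Polynomial.coeff_coe]
    simp
  rw [this, mul_comm]

theorem h4_lamAlt_eq (P : PosStructure K) (e : K) (he : e ∈ P.pos) :
    ∑ i ∈ range ((P.aug e).toNat + 1), (-1 : K) ^ i * LambdaOps.lam i e =
      (-1 : K) ^ (P.aug e).toNat * gamma (P.aug e).toNat (e - ((P.aug e).toNat : K)) := by
  rw [h4_gamma_top P e he, Finset.mul_sum]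
  apply Finset.sum_congr rfl
  intro i hi
  have hi' : i ≤ (P.aug e).toNat := by have := Finset.mem_range.1 hi; omega
  rw [← mul_assoc, ← pow_add]
  congr 1
  have : (P.aug e).toNat + ((P.aug e).toNat - i) = i + 2 * ((P.aug e).toNat - i) := by omega
  rw [this, pow_add, pow_mul]
  simp

end Lam

section Filt

variable {K : Type u} [CommRing K] [LambdaOps K]

/-- generators of the `n`-th term of the γ-filtration -/
def h4IsGen (P : PosStructure K) (n : ℕ) (y : K) : Prop :=
  ∃ l : List (ℕ × K), (∀ p ∈ l, P.aug p.2 = 0) ∧ n ≤ (l.map Prod.fst).sum ∧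
    y = (l.map fun p => gamma p.1 p.2).prod

theorem h4_gammaFiltration_of_ne_zero (P : PosStructure K) (n : ℕ) (hn : n ≠ 0) :
    gammaFiltration P n = AddSubgroup.closure {y | h4IsGen P n y} := by
  rw [gammaFiltration, if_neg hn]
  rfl

theorem h4_gammaFiltration_zero (P : PosStructure K) : gammaFiltration P 0 = ⊤ := by
  rw [gammaFiltration, if_pos rfl]

theorem h4_gen_mem (P : PosStructure K) (n : ℕ) (y : K) (h : h4IsGen P n y) :
    y ∈ gammaFiltration P n := by
  by_cases hn : n = 0
  · subst hn; rw [h4_gammaFiltration_zero]; trivial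
  · rw [h4_gammaFiltration_of_ne_zero P n hn]; exact AddSubgroup.subset_closure h

theorem h4_gen_mono (P : PosStructure K) {a b : ℕ} (hab : a ≤ b) {y : K} (h : h4IsGen P b y) :
    h4IsGen P a y := by
  obtain ⟨l, hl, hbl, rfl⟩ := h
  exact ⟨l, hl, le_trans hab hbl, rfl⟩

theorem h4_gen_mul (P : PosStructure K) {a b : ℕ} {x y : K} (hx : h4IsGen P a x)
    (hy : h4IsGen P b y) : h4IsGen P (a + b) (x * y) := by
  obtain ⟨l, hl, hal, rfl⟩ := hx
  obtain ⟨l', hl', hbl, rfl⟩ := hy
  refine ⟨l ++ l', ?_, ?_, ?_⟩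
  · intro p hp
    rcases List.mem_append.1 hp with h | h
    exacts [hl p h, hl' p h]
  · rw [List.map_append, List.sum_append]; omega
  · rw [List.map_append, List.prod_append]

theorem h4_gen_gamma (P : PosStructure K) (n : ℕ) (z : K) (hz : P.aug z = 0) :
    h4IsGen P n (gamma n z) :=
  ⟨[(n, z)], by simpa using hz, by simp, by simp⟩

theorem h4_gammaFiltration_le (P : PosStructure K) (n : ℕ) (hn : n ≠ 0) (S : AddSubgroup K)
    (h : ∀ y, h4IsGen P n y → y ∈ S) : gammaFiltration P n ≤ S := by
  rw [h4_gammaFiltration_of_ne_zero P n hn, AddSubgroup.closure_le]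
  exact h

theorem h4_any_mul_gen (P : PosStructure K) {b : ℕ} (x y : K) (hy : h4IsGen P b y) :
    x * y ∈ gammaFiltration P b := by
  have hxy : x * y = (x - (P.aug x : K)) * y + (P.aug x) • y := by rw [zsmul_eq_mul]; ring
  rw [hxy]
  apply AddSubgroup.add_mem
  · apply h4_gen_mem
    have hz : P.aug (x - (P.aug x : K)) = 0 := by
      rw [map_sub, map_intCast]; simp
    have hg : h4IsGen P 1 (x - (P.aug x : K)) := by
      have := h4_gen_gamma P 1 _ hz
      rwa [h4_gamma_one] at this
    exact h4_gen_mono P (by omega) (h4_gen_mul P hg hy)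
  · exact AddSubgroup.zsmul_mem _ (h4_gen_mem P b y hy) _

theorem h4_gammaFiltration_mul_mem (P : PosStructure K) {a b : ℕ} {x y : K}
    (hx : x ∈ gammaFiltration P a) (hy : y ∈ gammaFiltration P b) :
    x * y ∈ gammaFiltration P (a + b) := by
  by_cases ha : a = 0
  · by_cases hb : b = 0
    · subst ha; subst hb; rw [h4_gammaFiltration_zero]; trivial
    · subst ha; rw [zero_add]
      have := h4_gammaFiltration_le P b hb ((gammaFiltration P b).comap (AddMonoidHom.mulLeft x))
        (fun y hy => h4_any_mul_gen P x y hy)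
      exact this hy
  · by_cases hb : b = 0
    · subst hb; rw [add_zero, mul_comm]
      have := h4_gammaFiltration_le P a ha ((gammaFiltration P a).comap (AddMonoidHom.mulLeft y))
        (fun x hx => h4_any_mul_gen P y x hx)
      exact this hx
    · have h1 : ∀ y, h4IsGen P b y → ∀ x ∈ gammaFiltration P a, x * y ∈ gammaFiltration P (a + b) := by
        intro y hy
        have := h4_gammaFiltration_le P a ha
          ((gammaFiltration P (a + b)).comap (AddMonoidHom.mulRight y))
          (fun x hx => h4_gen_mem P _ _ (h4_gen_mul P hx hy))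
        exact fun x hx => this hx
      have := h4_gammaFiltration_le P b hb
        ((gammaFiltration P (a + b)).comap (AddMonoidHom.mulLeft x))
        (fun y hy => h1 y hy x hx)
      exact this hy

end Filt

end Groth.Agent.Lib.helper4
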