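import Groth.Prelude.Def_LambdaRing
import Groth.Prelude.Def_W4bkmilneecrracsp2Inv
import Mathlib
import Groth.Agent.Lib.helper4.Lam2

/-!
# λ-rings with involution (helper4)
-/

set_option autoImplicit false

universe u

open PowerSeries Finset LambdaRing

namespace Groth.Agent.Lib.helper4

variable {K : Type u} [CommRing K] [LambdaOps K]

theorem h4_inv_zero {P : PosStructure K} {inv : K → K} (hV : IsInvolution P inv) : inv 0 = 0 := by
  have := hV.map_add 0 0
  rw [add_zero] at this
  exact left_eq_add.mp this

theorem h4_inv_multiset_sum {P : PosStructure K} {inv : K → K} (hV : IsInvolution P inv)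
    (t : Multiset K) : inv t.sum = (t.map inv).sum := by
  induction t using Multiset.induction_on with
  | empty => simpa using h4_inv_zero hV
  | cons a t ih => rw [Multiset.sum_cons, hV.map_add, ih, Multiset.map_cons, Multiset.sum_cons]

theorem h4_sum_lines_mem_pos (P : PosStructure K) (s : Multiset K) (hs : ∀ u ∈ s, P.IsLine u)
    (hne : s ≠ 0) : s.sum ∈ P.pos := by
  induction s using Multiset.induction_on with
  | empty => exact absurd rfl hne
  | cons a t ih =>
    by_cases ht : t = 0
    · subst ht
      simpa using (hs a (Multiset.mem_cons_self a 0)).1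
    · rw [Multiset.sum_cons]
      exact P.add_mem _ _ (hs a (Multiset.mem_cons_self a t)).1
        (ih (fun v hv => hs v (Multiset.mem_cons_of_mem hv)) ht)

/-- `γ^m(Σu - m) = λ_{-1}(Σ u⁻¹) · λ^m(Σ u)` for a nonempty sum of `m` line elements. -/
theorem h4_gamma_top_dual (P : PosStructure K) (s : Multiset K) (hs : ∀ u ∈ s, P.IsLine u)
    (hne : s ≠ 0) (inv' : K → K) (h1 : ∀ u ∈ s, inv' u * u = 1)
    (h2 : ∀ u ∈ s, P.IsLine (inv' u)) :
    gamma (Multiset.card s) (s.sum - (Multiset.card s : K)) =
      (∑ i ∈ range (Multiset.card s + 1), (-1 : K) ^ i * LambdaOps.lam i (s.map inv').sum) *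
        LambdaOps.lam (Multiset.card s) s.sum := by
  have hpos := h4_sum_lines_mem_pos P s hs hne
  have haug : (P.aug s.sum).toNat = Multiset.card s := by
    rw [h2_aug_sum_lines P s hs]; simp
  have h := h4_gamma_top P s.sum hpos
  rw [haug] at h
  rw [h, Finset.sum_mul, ← Finset.sum_range_reflect]
  apply Finset.sum_congr rfl
  intro i hi
  have hi' : i ≤ Multiset.card s := by have := Finset.mem_range.1 hi; omega
  have h3 := h4_lam_sum_lines_dual P s hs inv' h1 h2 (Multiset.card s - i) (by omega)
  have h4 : Multiset.card s - (Multiset.card s - i) = i := by omega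
  rw [h4] at h3
  rw [Nat.add_sub_cancel, h3, h4]
  ring

end Groth.Agent.Lib.helper4
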