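import Mathlib

set_option autoImplicit false
open CategoryTheory CategoryTheory.Limits AlgebraicGeometry

universe u

namespace Groth.Agent.Lib.helper4.LargestOpen

theorem L1 (Q : MorphismProperty Scheme.{u}) (P : MorphismProperty Scheme.{u})
    [P.IsLocalAtSource (Scheme.precoverage Q)]
    (hid : ∀ X : Scheme.{u}, Q (𝟙 X))
    {U X Y : Scheme.{u}} (q : U ⟶ X) (f : X ⟶ Y) (hq : Q q) (hf : P f) : P (q ≫ f) := by
  let Xs : Bool → Scheme.{u} := fun b => Bool.rec X U b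
  let fs : ∀ b, Xs b ⟶ X := fun b => Bool.rec (motive := fun b => Xs b ⟶ X) (𝟙 X) q b
  have hR : Presieve.ofArrows Xs fs ∈ Scheme.precoverage Q X := by
    rw [Scheme.ofArrows_mem_precoverage_iff]
    refine ⟨fun x => ⟨false, x, rfl⟩, ?_⟩
    rintro (_ | _)
    · exact hid X
    · exact hq
  exact MorphismProperty.IsLocalAtSource.comp (P := P) hR q
    (Presieve.ofArrows.mk (ι := Bool) true) hf

theorem L2 (Q : MorphismProperty Scheme.{u}) (P : MorphismProperty Scheme.{u})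
    [P.IsLocalAtSource (Scheme.precoverage Q)]
    {U X Y : Scheme.{u}} (q : U ⟶ X) (f : X ⟶ Y) (hq : Q q) (hs : Function.Surjective q.base)
    (h : P (q ≫ f)) : P f := by
  have hR : Presieve.singleton q ∈ Scheme.precoverage Q X := by
    rw [Scheme.singleton_mem_precoverage_iff]
    exact ⟨hs, hq⟩
  refine MorphismProperty.IsLocalAtSource.of_forall_comp (P := P) hR ?_
  rintro U g ⟨⟩
  exact h

theorem main (Q : MorphismProperty Scheme.{u}) [Q.IsStableUnderComposition]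
    [Q.IsStableUnderBaseChange]
    (hQo : ∀ {A B : Scheme.{u}} (j : A ⟶ B), IsOpenImmersion j → Q j)
    (hQopen : ∀ {A B : Scheme.{u}} (j : A ⟶ B), Q j → IsOpenMap j)
    (P : MorphismProperty Scheme.{u}) [P.IsLocalAtSource (Scheme.precoverage Q)]
    {X Y : Scheme.{u}} (f : X ⟶ Y) :
    ∃ W : X.Opens, (P (W.ι ≫ f) ∧ ∀ W' : X.Opens, P (W'.ι ≫ f) → W' ≤ W) ∧
      ∀ (X' : Scheme.{u}) (g : X' ⟶ X) (_ : Q g) (V : X'.Opens),
        (P (V.ι ≫ g ≫ f) ∧ ∀ V' : X'.Opens, P (V'.ι ≫ g ≫ f) → V' ≤ V) → V = g ⁻¹ᵁ W := by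
  have hid : ∀ X : Scheme.{u}, Q (𝟙 X) := fun X => hQo _ inferInstance
  haveI hZ : P.IsLocalAtSource Scheme.zariskiPrecoverage :=
    MorphismProperty.IsLocalAtSource.of_le (L := Scheme.precoverage Q)
      (Scheme.precoverage_mono (fun _ _ j hj => hQo j hj))
  let W : X.Opens := ⨆ (W₀ : {W₀ : X.Opens // P (W₀.ι ≫ f)}), W₀.1
  have hWle : ∀ W₀ : X.Opens, P (W₀.ι ≫ f) → W₀ ≤ W := fun W₀ h =>
    le_iSup (fun W₀ : {W₀ : X.Opens // P (W₀.ι ≫ f)} => W₀.1) ⟨W₀, h⟩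
  have hPW : P (W.ι ≫ f) := by
    let Us : {W₀ : X.Opens // P (W₀.ι ≫ f)} → Scheme.{u} := fun W₀ => W₀.1.toScheme
    let js : ∀ W₀, Us W₀ ⟶ W.toScheme := fun W₀ => X.homOfLE (hWle W₀.1 W₀.2)
    have hR : Presieve.ofArrows Us js ∈ Scheme.zariskiPrecoverage W.toScheme := by
      show Presieve.ofArrows Us js ∈ Scheme.precoverage @IsOpenImmersion W.toScheme
      rw [Scheme.ofArrows_mem_precoverage_iff]
      refine ⟨?_, fun i => inferInstance⟩
      intro x
      have hx : x.1 ∈ W := x.2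
      obtain ⟨W₀, hxW₀⟩ := TopologicalSpace.Opens.mem_iSup.1 hx
      refine ⟨W₀, ⟨x.1, hxW₀⟩, ?_⟩
      apply W.ι.injective
      rw [← Scheme.Hom.comp_apply, Scheme.homOfLE_ι]
      rfl
    refine MorphismProperty.IsLocalAtSource.of_forall_comp (P := P) hR ?_
    rintro U g' ⟨W₀⟩
    show P (js W₀ ≫ W.ι ≫ f)
    rw [← Category.assoc, Scheme.homOfLE_ι]
    exact W₀.2
  refine ⟨W, ⟨hPW, hWle⟩, ?_⟩
  rintro X' g hg V ⟨hPV, hmax⟩
  apply le_antisymm
  · -- V ≤ g⁻¹ W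
    have hh : Q (V.ι ≫ g) := Q.comp_mem _ _ (hQo _ inferInstance) hg
    let W₀ : X.Opens := ⟨Set.range (V.ι ≫ g), (hQopen _ hh).isOpen_range⟩
    have hrange : Set.range (V.ι ≫ g) ⊆ Set.range W₀.ι := by
      rw [Scheme.Opens.range_ι]; exact subset_rfl
    let g' : V.toScheme ⟶ W₀.toScheme := IsOpenImmersion.lift W₀.ι (V.ι ≫ g) hrange
    have hg' : g' ≫ W₀.ι = V.ι ≫ g := IsOpenImmersion.lift_fac _ _ _
    have hg'1 : Q g' := by
      have : Q (g' ≫ W₀.ι) := by rw [hg']; exact hh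
      exact MorphismProperty.of_postcomp (W := Q) (W' := @IsOpenImmersion) g' W₀.ι
        inferInstance this
    have hg'3 : Function.Surjective g'.base := by
      intro z
      obtain ⟨y', hy'⟩ : z.1 ∈ Set.range (V.ι ≫ g) := z.2
      refine ⟨y', ?_⟩
      apply W₀.ι.injective
      rw [← Scheme.Hom.comp_apply, hg']
      exact hy'
    have hP0 : P (W₀.ι ≫ f) := by
      apply L2 Q P g' _ hg'1 hg'3
      rw [← Category.assoc, hg', Category.assoc]
      exact hPV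
    have hle := hWle W₀ hP0
    intro y hy
    show g y ∈ W
    apply hle
    exact ⟨⟨y, hy⟩, rfl⟩
  · -- g⁻¹ W ≤ V
    apply hmax
    have hgW : (g ∣_ W) ≫ W.ι = (g ⁻¹ᵁ W).ι ≫ g := (isPullback_morphismRestrict g W).w
    have hQr : Q (g ∣_ W) := Q.of_isPullback (isPullback_morphismRestrict g W).flip hg
    have := L1 Q P hid (g ∣_ W) (W.ι ≫ f) hQr hPW
    rw [← Category.assoc, hgW, Category.assoc] at this
    exact this

end Groth.Agent.Lib.helper4.LargestOpen
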