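import Mathlib

/-!
# helper2: Mittag-Leffler systems and surjectivity of limits
-/

open CategoryTheory CategoryTheory.Limits Opposite

universe u v

namespace H4ML

section Sections

variable {ι : Type v} [Preorder ι] [Nonempty ι] [IsDirected ι (· ≤ ·)]

lemma exists_chain (hcof : ∃ s : Set ι, s.Countable ∧ ∀ i, ∃ j ∈ s, i ≤ j) :
    ∃ t : ℕ → ι, Monotone t ∧ ∀ i, ∃ n, i ≤ t n := by
  obtain ⟨s, hs, hcof⟩ := hcof
  have hne : s.Nonempty := by
    obtain ⟨i⟩ := ‹Nonempty ι›
    obtain ⟨j, hj, -⟩ := hcof i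
    exact ⟨j, hj⟩
  obtain ⟨e, rfl⟩ := hs.exists_eq_range hne
  let t : ℕ → ι := fun n =>
    Nat.rec (e 0) (fun n tn => Classical.choose (exists_ge_ge tn (e (n+1)))) n
  have ht_succ : ∀ n, t n ≤ t (n+1) ∧ e (n+1) ≤ t (n+1) := fun n =>
    Classical.choose_spec (exists_ge_ge (t n) (e (n+1)))
  have hmono : Monotone t := monotone_nat_of_le_succ (fun n => (ht_succ n).1)
  have het : ∀ n, e n ≤ t n := by
    intro n
    cases n with
    | zero => exact le_rfl
    | succ n => exact (ht_succ n).2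
  refine ⟨t, hmono, fun i => ?_⟩
  obtain ⟨_, ⟨n, rfl⟩, hin⟩ := hcof i
  exact ⟨n, hin.trans (het n)⟩

lemma nonempty_sections_of_surjective (hcof : ∃ s : Set ι, s.Countable ∧ ∀ i, ∃ j ∈ s, i ≤ j)
    (G : ιᵒᵖ ⥤ Type u) (hne : ∀ j, Nonempty (G.obj j))
    (hsurj : ∀ ⦃i j : ιᵒᵖ⦄ (f : i ⟶ j), Function.Surjective (G.map f)) :
    Nonempty G.sections := by
  obtain ⟨t, hmono, hcof'⟩ := exists_chain hcof
  have step : ∀ n, t n ≤ t (n+1) := fun n => hmono (Nat.le_succ n)
  obtain ⟨x0⟩ := hne (op (t 0))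
  let x : ∀ n, G.obj (op (t n)) := fun n =>
    Nat.rec x0 (fun n xn => Classical.choose (hsurj (homOfLE (step n)).op xn)) n
  have hx_succ : ∀ n, G.map (homOfLE (step n)).op (x (n+1)) = x n := fun n =>
    Classical.choose_spec (hsurj (homOfLE (step n)).op (x n))
  have hx : ∀ n m (h : n ≤ m), G.map (homOfLE (hmono h)).op (x m) = x n := by
    intro n m h
    induction m, h using Nat.le_induction with
    | base =>
      have : (homOfLE (hmono (le_refl n))).op = 𝟙 (op (t n)) := Subsingleton.elim _ _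
      rw [this, FunctorToTypes.map_id_apply]
    | succ m h ih =>
      have : (homOfLE (hmono (h.trans (Nat.le_succ m)))).op =
          (homOfLE (step m)).op ≫ (homOfLE (hmono h)).op := Subsingleton.elim _ _
      rw [this, FunctorToTypes.map_comp_apply, hx_succ, ih]
  choose n hn using hcof'
  refine ⟨⟨fun j => G.map (homOfLE (hn j.unop)).op (x (n j.unop)), ?_⟩⟩
  intro j j' f
  have hN1 := hx (n j.unop) (max (n j.unop) (n j'.unop)) (le_max_left _ _)
  have hN2 := hx (n j'.unop) (max (n j.unop) (n j'.unop)) (le_max_right _ _)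
  change G.map f (G.map (homOfLE (hn j.unop)).op (x (n j.unop))) =
    G.map (homOfLE (hn j'.unop)).op (x (n j'.unop))
  rw [← hN1, ← hN2]
  simp only [← FunctorToTypes.map_comp_apply]
  exact congrArg (fun m => G.map m (x (max (n j.unop) (n j'.unop)))) (Subsingleton.elim _ _)

end Sections

section Fibre

variable {ι : Type v} [Preorder ι] [Nonempty ι] [IsDirected ι (· ≤ ·)]
variable {A B C : ιᵒᵖ ⥤ AddCommGrpCat.{u}} (u : A ⟶ B) (v : B ⟶ C)

/-- the system of fibres of `v` over a compatible family -/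
def fibreSys (c : ∀ j, C.obj j) (hc : ∀ ⦃i j⦄ (f : i ⟶ j), (C.map f).hom (c i) = c j) :
    ιᵒᵖ ⥤ Type u where
  obj j := {b : B.obj j // (v.app j).hom b = c j}
  map {i j} f := ↾ fun b => ⟨(B.map f).hom b.1, by
    have n1 : (v.app j).hom ((B.map f).hom b.1) = (C.map f).hom ((v.app i).hom b.1) :=
      congrArg (fun m => m.hom b.1) (v.naturality f)
    rw [n1, b.2, hc f]⟩
  map_id j := by
    ext b
    change (B.map (𝟙 j)).hom b.1 = b.1
    rw [B.map_id]
    rfl
  map_comp f g := by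
    ext b
    change (B.map (f ≫ g)).hom b.1 = (B.map g).hom ((B.map f).hom b.1)
    rw [B.map_comp]
    rfl

lemma fibreSys_ml (c : ∀ j, C.obj j) (hc : ∀ ⦃i j⦄ (f : i ⟶ j), (C.map f).hom (c i) = c j)
    (hv : ∀ i, ∃ b, (v.app i).hom b = c i)
    (hex : ∀ i, (v.app i).hom.ker = (u.app i).hom.range)
    (hA : (A ⋙ forget AddCommGrpCat).IsMittagLeffler) :
    (fibreSys v c hc).IsMittagLeffler := by
  intro j
  obtain ⟨i, f, hf⟩ := hA j
  refine ⟨i, f, fun k g => ?_⟩
  obtain ⟨l, hil, hkl⟩ := exists_ge_ge i.unop k.unop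
  let fi : op l ⟶ i := (homOfLE hil).op
  let fk : op l ⟶ k := (homOfLE hkl).op
  have e1 : fi ≫ f = fk ≫ g := Subsingleton.elim _ _
  rintro x ⟨b, rfl⟩
  obtain ⟨e0, he0⟩ := hv (op l)
  have hvd : (v.app i).hom (b.1 - (B.map fi).hom e0) = 0 := by
    rw [map_sub, b.2]
    have n1 : (v.app i).hom ((B.map fi).hom e0) = (C.map fi).hom ((v.app (op l)).hom e0) :=
      congrArg (fun m => m.hom e0) (v.naturality fi)
    rw [n1, he0, hc fi, sub_self]
  have hker : (b.1 - (B.map fi).hom e0) ∈ (v.app i).hom.ker := hvd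
  rw [hex i] at hker
  obtain ⟨a, ha⟩ := hker
  obtain ⟨a', ha'⟩ := hf (fi ≫ f) ⟨a, rfl⟩
  have he' : (v.app (op l)).hom (e0 + (u.app (op l)).hom a') = c (op l) := by
    rw [map_add, he0]
    have h0 : (u.app (op l)).hom a' ∈ (v.app (op l)).hom.ker := by
      rw [hex]
      exact ⟨a', rfl⟩
    have h0' : (v.app (op l)).hom ((u.app (op l)).hom a') = 0 := h0
    rw [h0', add_zero]
  refine ⟨(fibreSys v c hc).map fk ⟨e0 + (u.app (op l)).hom a', he'⟩, ?_⟩
  apply Subtype.ext
  change (B.map g).hom ((B.map fk).hom (e0 + (u.app (op l)).hom a')) = (B.map f).hom b.1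
  have e2 : (B.map g).hom ((B.map fk).hom (e0 + (u.app (op l)).hom a')) =
      (B.map (fi ≫ f)).hom (e0 + (u.app (op l)).hom a') := by
    rw [e1, B.map_comp]
    rfl
  rw [e2, map_add]
  have n3 : (B.map (fi ≫ f)).hom ((u.app (op l)).hom a') =
      (u.app j).hom ((A.map (fi ≫ f)).hom a') :=
    (congrArg (fun m => m.hom a') (u.naturality (fi ≫ f))).symm
  have ha'' : (A.map (fi ≫ f)).hom a' = (A.map f).hom a := ha'
  have n4 : (u.app j).hom ((A.map f).hom a) = (B.map f).hom ((u.app i).hom a) :=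
    congrArg (fun m => m.hom a) (u.naturality f)
  rw [n3, ha'', n4, ha, map_sub]
  have e4 : (B.map f).hom ((B.map fi).hom e0) = (B.map (fi ≫ f)).hom e0 := by
    rw [B.map_comp]
    rfl
  rw [e4]
  abel

end Fibre

section Nat

variable {A B C : ℕᵒᵖ ⥤ AddCommGrpCat.{u}} (u : A ⟶ B) (v : B ⟶ C)

theorem mem_range_limMap
    (hex : ∀ i, (v.app i).hom.ker = (u.app i).hom.range)
    (hA : (A ⋙ forget AddCommGrpCat).IsMittagLeffler) (c : ↑(limit C))
    (hc : ∀ j, ∃ b, (v.app j).hom b = (limit.π C j).hom c) :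
    ∃ b, (limMap v).hom b = c := by
  have hcof : ∃ s : Set ℕ, s.Countable ∧ ∀ i, ∃ j ∈ s, i ≤ j :=
    ⟨Set.univ, Set.countable_univ, fun i => ⟨i, trivial, le_rfl⟩⟩
  let cc : ∀ j, C.obj j := fun j => (limit.π C j).hom c
  have hcc : ∀ ⦃i j⦄ (f : i ⟶ j), (C.map f).hom (cc i) = cc j := fun i j f =>
    congrArg (fun m => m.hom c) (limit.w C f)
  have hE := fibreSys_ml u v cc hcc hc hex hA
  haveI : ∀ j, Nonempty ((fibreSys v cc hcc).obj j) := fun j => by
    obtain ⟨b, hb⟩ := hc j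
    exact ⟨⟨b, hb⟩⟩
  have hne' := (fibreSys v cc hcc).toEventualRanges_nonempty hE
  have hsurj := (fibreSys v cc hcc).surjective_toEventualRanges hE
  obtain ⟨σ'⟩ := nonempty_sections_of_surjective hcof (fibreSys v cc hcc).toEventualRanges
    hne' hsurj
  let σ := (fibreSys v cc hcc).toEventualRangesSectionsEquiv σ'
  let bsec : (B ⋙ forget AddCommGrpCat).sections :=
    ⟨fun j => (σ.1 j).1, fun {j j'} f => congrArg Subtype.val (σ.2 f)⟩
  let eqv := Types.isLimitEquivSections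
    (isLimitOfPreserves (forget AddCommGrpCat) (limit.isLimit B))
  refine ⟨eqv.symm bsec, ?_⟩
  apply Concrete.limit_ext
  intro j
  have h1 : (limit.π C j).hom ((limMap v).hom (eqv.symm bsec)) =
      (v.app j).hom ((limit.π B j).hom (eqv.symm bsec)) :=
    congrArg (fun m => m.hom (eqv.symm bsec)) (limMap_π v j)
  have h2 : (limit.π B j).hom (eqv.symm bsec) = (σ.1 j).1 :=
    Types.isLimitEquivSections_symm_apply
      (isLimitOfPreserves (forget AddCommGrpCat) (limit.isLimit B)) bsec j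
  refine h1.trans ?_
  rw [h2]
  exact (σ.1 j).2

end Nat

end H4ML
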