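import Groth.Agent.Lib.helper4.NumType3

/-!
# Numerical types: chains of `(-2)`-indices and the "no affine subdiagram" oracle (helper4)
-/

set_option autoImplicit false
set_option linter.unusedSimpArgs false

namespace Groth.Agent.Lib.helper4

open Finset

variable {n : ℕ} (T : Models.NumericalType n)

/-- Oracle for chains: there is no nonnegative vector `c`, supported on the interval `[lo, hi]`
of a chain of `(-2)`-indices inside a proper subset of the indices, which is "affine" with
respect to lower bounds `α j`, `β j` for the two Cartan integers of the edge `(j, j + 1)`. -/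
theorem nt_chain_oracle {t : ℕ} (v : Fin t ↪ Fin n) (ht : t < n)
    (hv : ∀ j, T.IsMinusTwo (v j)) (W E : ℕ → ℤ)
    (hW : ∀ j (hj : j < t), W j = T.w (v ⟨j, hj⟩))
    (hE : ∀ j (hj : j + 1 < t), E j = T.a (v ⟨j, by omega⟩) (v ⟨j + 1, hj⟩))
    (α β c : ℕ → ℤ) (lo hi : ℕ) (hlohi : lo < hi) (hhi : hi < t)
    (hα : ∀ j, lo ≤ j → j < hi → 1 ≤ α j ∧ α j * W j ≤ E j)
    (hβ : ∀ j, lo ≤ j → j < hi → 1 ≤ β j ∧ β j * W (j + 1) ≤ E j)
    (hc0 : ∀ j, lo ≤ j → j ≤ hi → 0 < c j)
    (hlo : 2 * c lo ≤ α lo * c (lo + 1))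
    (hmid : ∀ i, lo < i → i < hi → 2 * c i ≤ β (i - 1) * c (i - 1) + α i * c (i + 1))
    (hhi' : 2 * c hi ≤ β (hi - 1) * c (hi - 1)) : False := by
  classical
  let κ : Fin t → Fin t → ℤ := fun p q =>
    if q.val = p.val + 1 ∧ lo ≤ p.val ∧ p.val < hi then α p.val
    else if p.val = q.val + 1 ∧ lo ≤ q.val ∧ q.val < hi then β q.val else 0
  let c' : Fin t → ℤ := fun p => if lo ≤ p.val ∧ p.val ≤ hi then c p.val else 0
  have hc'0 : ∀ p, 0 ≤ c' p := by
    intro p
    simp only [c']
    split_ifs with h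
    · exact (hc0 _ h.1 h.2).le
    · exact le_refl _
  have hκ0 : ∀ p q, 0 ≤ κ p q := by
    intro p q
    simp only [κ]
    split_ifs with h1 h2
    · linarith [(hα _ h1.2.1 h1.2.2).1]
    · linarith [(hβ _ h2.2.1 h2.2.2).1]
    · exact le_refl _
  apply nt_no_affine T v ht hv κ ?_ c' hc'0 ?_ ?_
  · -- lower bounds
    intro p q hpq hne
    simp only [κ] at hne ⊢
    split_ifs at hne ⊢ with h1 h2
    · have hq : q = ⟨p.val + 1, by omega⟩ := Fin.ext h1.1
      have hp : p = ⟨p.val, by omega⟩ := rfl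
      have := (hα _ h1.2.1 h1.2.2).2
      rw [hW p.val p.isLt, hE p.val (by omega)] at this
      rw [hq]
      exact this
    · have hp : p = ⟨q.val + 1, by omega⟩ := Fin.ext h2.1
      have := (hβ _ h2.2.1 h2.2.2).2
      rw [hW (q.val + 1) (by omega), hE q.val (by omega)] at this
      rw [nt_symm T (v p) (v q), hp]
      exact this
    · exact absurd rfl hne
  · -- nonzero
    intro h
    have := congrFun h ⟨lo, by omega⟩
    simp only [c', Pi.zero_apply] at this
    rw [if_pos ⟨le_refl _, hlohi.le⟩] at this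
    have := hc0 lo (le_refl _) hlohi.le
    omega
  · -- the affine condition
    intro p hp
    have hpr : lo ≤ p.val ∧ p.val ≤ hi := by
      by_contra h
      simp only [c'] at hp
      rw [if_neg h] at hp
      exact lt_irrefl _ hp
    have hcp : c' p = c p.val := by simp only [c']; rw [if_pos hpr]
    have hterm : ∀ q ∈ Finset.univ.erase p, 0 ≤ κ p q * c' q :=
      fun q _ => mul_nonneg (hκ0 p q) (hc'0 q)
    rw [hcp]
    by_cases h1 : p.val = lo
    · -- left end: neighbour `lo + 1`
      have hq : (⟨lo + 1, by omega⟩ : Fin t) ∈ Finset.univ.erase p := by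
        rw [Finset.mem_erase]
        refine ⟨fun h => ?_, Finset.mem_univ _⟩
        have : lo + 1 = p.val := congrArg Fin.val h
        omega
      have hle := Finset.single_le_sum (f := fun q => κ p q * c' q) hterm hq
      have hκv : κ p ⟨lo + 1, by omega⟩ = α lo := by
        simp only [κ]
        rw [if_pos ⟨(by show lo + 1 = p.val + 1; omega), by omega, by omega⟩, h1]
      have hcv : c' ⟨lo + 1, by omega⟩ = c (lo + 1) := by
        simp only [c']
        rw [if_pos ⟨by omega, by omega⟩]
      simp only [hκv, hcv] at hle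
      rw [h1]
      linarith
    · by_cases h2 : p.val = hi
      · have hq : (⟨hi - 1, by omega⟩ : Fin t) ∈ Finset.univ.erase p := by
          rw [Finset.mem_erase]
          refine ⟨fun h => ?_, Finset.mem_univ _⟩
          have : hi - 1 = p.val := congrArg Fin.val h
          omega
        have hle := Finset.single_le_sum (f := fun q => κ p q * c' q) hterm hq
        have hκv : κ p ⟨hi - 1, by omega⟩ = β (hi - 1) := by
          simp only [κ]
          rw [if_neg (fun h => by have : hi - 1 = p.val + 1 := h.1; omega),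
            if_pos ⟨(by show p.val = hi - 1 + 1; omega), (by show lo ≤ hi - 1; omega),
              (by show hi - 1 < hi; omega)⟩]
        have hcv : c' ⟨hi - 1, by omega⟩ = c (hi - 1) := by
          simp only [c']
          rw [if_pos ⟨by omega, by omega⟩]
        simp only [hκv, hcv] at hle
        rw [h2]
        linarith
      · -- interior
        have hlt1 : lo < p.val := by omega
        have hlt2 : p.val < hi := by omega
        have hq1 : (⟨p.val - 1, by omega⟩ : Fin t) ∈ Finset.univ.erase p := by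
          rw [Finset.mem_erase]
          refine ⟨fun h => ?_, Finset.mem_univ _⟩
          have : p.val - 1 = p.val := congrArg Fin.val h
          omega
        have hq2 : (⟨p.val + 1, by omega⟩ : Fin t) ∈ Finset.univ.erase p := by
          rw [Finset.mem_erase]
          refine ⟨fun h => ?_, Finset.mem_univ _⟩
          have : p.val + 1 = p.val := congrArg Fin.val h
          omega
        have hne12 : (⟨p.val - 1, by omega⟩ : Fin t) ≠ ⟨p.val + 1, by omega⟩ := by
          intro h
          have : p.val - 1 = p.val + 1 := congrArg Fin.val h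
          omega
        have hle := h4_sum_ge_two (Finset.univ.erase p) (fun q => κ p q * c' q) hterm hq1 hq2 hne12
        have hκ1 : κ p ⟨p.val - 1, by omega⟩ = β (p.val - 1) := by
          simp only [κ]
          rw [if_neg (fun h => by have : p.val - 1 = p.val + 1 := h.1; omega),
            if_pos ⟨(by show p.val = p.val - 1 + 1; omega), (by show lo ≤ p.val - 1; omega),
              (by show p.val - 1 < hi; omega)⟩]
        have hκ2 : κ p ⟨p.val + 1, by omega⟩ = α p.val := by
          simp only [κ]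
          rw [if_pos ⟨trivial, by omega, by omega⟩]
        have hc1 : c' ⟨p.val - 1, by omega⟩ = c (p.val - 1) := by
          simp only [c']
          rw [if_pos ⟨by omega, by omega⟩]
        have hc2 : c' ⟨p.val + 1, by omega⟩ = c (p.val + 1) := by
          simp only [c']
          rw [if_pos ⟨by omega, by omega⟩]
        simp only [hκ1, hκ2, hc1, hc2] at hle
        have := hmid p.val hlt1 hlt2
        linarith

section helpers

variable {t : ℕ} (v : Fin t ↪ Fin n) (ht : t < n) (hv : ∀ j, T.IsMinusTwo (v j)) (W E : ℕ → ℤ)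
  (hW : ∀ j (hj : j < t), W j = T.w (v ⟨j, hj⟩))
  (hE : ∀ j (hj : j + 1 < t), E j = T.a (v ⟨j, by omega⟩) (v ⟨j + 1, hj⟩))

include ht hv hW hE

/-- Two adjacent vertices. -/
theorem nt_chain_two (j : ℕ) (hj : j + 1 < t) (a0 b0 c0 c1 : ℤ)
    (ha0 : 1 ≤ a0) (hb0 : 1 ≤ b0) (hc0 : 0 < c0) (hc1 : 0 < c1)
    (hA0 : a0 * W j ≤ E j) (hB0 : b0 * W (j + 1) ≤ E j)
    (h0 : 2 * c0 ≤ a0 * c1) (h1 : 2 * c1 ≤ b0 * c0) : False := by
  refine nt_chain_oracle T v ht hv W E hW hE (fun _ => a0) (fun _ => b0)
    (fun i => if i = j then c0 else c1) j (j + 1) (by omega) hj ?_ ?_ ?_ ?_ ?_ ?_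
  · intro i h1 h2
    obtain rfl : i = j := by omega
    exact ⟨ha0, hA0⟩
  · intro i h1 h2
    obtain rfl : i = j := by omega
    exact ⟨hb0, hB0⟩
  · intro i h1 h2
    split_ifs <;> assumption
  · simp (disch := omega) only [if_pos, if_neg]; exact h0
  · intro i h1 h2
    omega
  · simp (disch := omega) only [if_pos, if_neg]; exact h1

/-- Three consecutive vertices. -/
theorem nt_chain_three (j : ℕ) (hj : j + 2 < t) (a0 b0 a1 b1 c0 c1 c2 : ℤ)
    (ha0 : 1 ≤ a0) (hb0 : 1 ≤ b0) (ha1 : 1 ≤ a1) (hb1 : 1 ≤ b1)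
    (hc0 : 0 < c0) (hc1 : 0 < c1) (hc2 : 0 < c2)
    (hA0 : a0 * W j ≤ E j) (hB0 : b0 * W (j + 1) ≤ E j)
    (hA1 : a1 * W (j + 1) ≤ E (j + 1)) (hB1 : b1 * W (j + 2) ≤ E (j + 1))
    (h0 : 2 * c0 ≤ a0 * c1) (h1 : 2 * c1 ≤ b0 * c0 + a1 * c2) (h2 : 2 * c2 ≤ b1 * c1) : False := by
  refine nt_chain_oracle T v ht hv W E hW hE (fun i => if i = j then a0 else a1)
    (fun i => if i = j then b0 else b1)
    (fun i => if i = j then c0 else if i = j + 1 then c1 else c2) j (j + 2) (by omega) hj
    ?_ ?_ ?_ ?_ ?_ ?_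
  · intro i h1 h2
    have : i = j ∨ i = j + 1 := by omega
    rcases this with rfl | rfl
    · simp (disch := omega) only [if_pos, if_neg]; exact ⟨ha0, hA0⟩
    · simp (disch := omega) only [if_pos, if_neg]; exact ⟨ha1, hA1⟩
  · intro i h1 h2
    have : i = j ∨ i = j + 1 := by omega
    rcases this with rfl | rfl
    · simp (disch := omega) only [if_pos, if_neg]; exact ⟨hb0, hB0⟩
    · simp (disch := omega) only [if_pos, if_neg]; exact ⟨hb1, hB1⟩
  · intro i h1 h2
    split_ifs <;> assumption
  · simp (disch := omega) only [if_pos, if_neg]; exact h0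
  · intro i h1' h2'
    obtain rfl : i = j + 1 := by omega
    simp (disch := omega) only [if_pos, if_neg]; exact h1
  · simp (disch := omega) only [if_pos, if_neg]; exact h2

/-- Five consecutive vertices. -/
theorem nt_chain_five (j : ℕ) (hj : j + 4 < t) (a0 b0 a1 b1 a2 b2 a3 b3 c0 c1 c2 c3 c4 : ℤ)
    (ha0 : 1 ≤ a0) (hb0 : 1 ≤ b0) (ha1 : 1 ≤ a1) (hb1 : 1 ≤ b1)
    (ha2 : 1 ≤ a2) (hb2 : 1 ≤ b2) (ha3 : 1 ≤ a3) (hb3 : 1 ≤ b3)
    (hc0 : 0 < c0) (hc1 : 0 < c1) (hc2 : 0 < c2) (hc3 : 0 < c3) (hc4 : 0 < c4)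
    (hA0 : a0 * W j ≤ E j) (hB0 : b0 * W (j + 1) ≤ E j)
    (hA1 : a1 * W (j + 1) ≤ E (j + 1)) (hB1 : b1 * W (j + 2) ≤ E (j + 1))
    (hA2 : a2 * W (j + 2) ≤ E (j + 2)) (hB2 : b2 * W (j + 3) ≤ E (j + 2))
    (hA3 : a3 * W (j + 3) ≤ E (j + 3)) (hB3 : b3 * W (j + 4) ≤ E (j + 3))
    (h0 : 2 * c0 ≤ a0 * c1) (h1 : 2 * c1 ≤ b0 * c0 + a1 * c2) (h2 : 2 * c2 ≤ b1 * c1 + a2 * c3)
    (h3 : 2 * c3 ≤ b2 * c2 + a3 * c4) (h4 : 2 * c4 ≤ b3 * c3) : False := by
  refine nt_chain_oracle T v ht hv W E hW hE
    (fun i => if i = j then a0 else if i = j + 1 then a1 else if i = j + 2 then a2 else a3)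
    (fun i => if i = j then b0 else if i = j + 1 then b1 else if i = j + 2 then b2 else b3)
    (fun i => if i = j then c0 else if i = j + 1 then c1 else if i = j + 2 then c2
      else if i = j + 3 then c3 else c4) j (j + 4) (by omega) hj ?_ ?_ ?_ ?_ ?_ ?_
  · intro i h1 h2
    have : i = j ∨ i = j + 1 ∨ i = j + 2 ∨ i = j + 3 := by omega
    rcases this with rfl | rfl | rfl | rfl
    · simp (disch := omega) only [if_pos, if_neg]; exact ⟨ha0, hA0⟩
    · simp (disch := omega) only [if_pos, if_neg]; exact ⟨ha1, hA1⟩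
    · simp (disch := omega) only [if_pos, if_neg]; exact ⟨ha2, hA2⟩
    · simp (disch := omega) only [if_pos, if_neg]; exact ⟨ha3, hA3⟩
  · intro i h1 h2
    have : i = j ∨ i = j + 1 ∨ i = j + 2 ∨ i = j + 3 := by omega
    rcases this with rfl | rfl | rfl | rfl
    · simp (disch := omega) only [if_pos, if_neg]; exact ⟨hb0, hB0⟩
    · simp (disch := omega) only [if_pos, if_neg]; exact ⟨hb1, hB1⟩
    · simp (disch := omega) only [if_pos, if_neg]; exact ⟨hb2, hB2⟩
    · simp (disch := omega) only [if_pos, if_neg]; exact ⟨hb3, hB3⟩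
  · intro i h1 h2
    split_ifs <;> assumption
  · simp (disch := omega) only [if_pos, if_neg]; exact h0
  · intro i h1' h2'
    have : i = j + 1 ∨ i = j + 2 ∨ i = j + 3 := by omega
    rcases this with rfl | rfl | rfl
    · simp (disch := omega) only [if_pos, if_neg]; exact h1
    · simp (disch := omega) only [if_pos, if_neg]; exact h2
    · simp (disch := omega) only [if_pos, if_neg]; exact h3
  · simp (disch := omega) only [if_pos, if_neg]; exact h4

/-- An interval with at least four vertices, arbitrary bounds at the two end edges, the trivial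
bounds in between, and a vector constant in the interior. -/
theorem nt_chain_interval (hWE1 : ∀ j, j + 1 < t → W j ≤ E j)
    (hWE2 : ∀ j, j + 1 < t → W (j + 1) ≤ E j) (lo hi : ℕ) (h3 : lo + 3 ≤ hi) (hhi : hi < t)
    (aL bL aR bR cL cM cR : ℤ)
    (haL : 1 ≤ aL) (hbL : 1 ≤ bL) (haR : 1 ≤ aR) (hbR : 1 ≤ bR)
    (hcL : 0 < cL) (hcM : 0 < cM) (hcR : 0 < cR)
    (hAL : aL * W lo ≤ E lo) (hBL : bL * W (lo + 1) ≤ E lo)
    (hAR : aR * W (hi - 1) ≤ E (hi - 1)) (hBR : bR * W hi ≤ E (hi - 1))
    (h1 : 2 * cL ≤ aL * cM) (h2 : cM ≤ bL * cL) (h3' : cM ≤ aR * cR) (h4 : 2 * cR ≤ bR * cM) :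
    False := by
  refine nt_chain_oracle T v ht hv W E hW hE
    (fun i => if i = lo then aL else if i + 1 = hi then aR else 1)
    (fun i => if i = lo then bL else if i + 1 = hi then bR else 1)
    (fun i => if i = lo then cL else if i = hi then cR else cM) lo hi (by omega) hhi
    ?_ ?_ ?_ ?_ ?_ ?_
  · intro i h1 h2
    split_ifs with h5 h6
    · subst h5; exact ⟨haL, hAL⟩
    · have : i = hi - 1 := by omega
      subst this; exact ⟨haR, hAR⟩
    · exact ⟨le_refl _, by rw [one_mul]; exact hWE1 i (by omega)⟩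
  · intro i h1 h2
    split_ifs with h5 h6
    · subst h5; exact ⟨hbL, hBL⟩
    · have : i = hi - 1 := by omega
      subst this
      have : hi - 1 + 1 = hi := by omega
      rw [this]; exact ⟨hbR, hBR⟩
    · exact ⟨le_refl _, by rw [one_mul]; exact hWE2 i (by omega)⟩
  · intro i h1 h2
    split_ifs <;> assumption
  · simp (disch := omega) only [if_pos, if_neg]
    exact h1
  · intro i h5 h6
    by_cases h7 : i = lo + 1
    · subst h7
      simp (disch := omega) only [if_pos, if_neg]
      linarith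
    · by_cases h8 : i + 1 = hi
      · have h9 : i - 1 + 1 ≠ hi := by omega
        simp (disch := omega) only [if_pos, if_neg]
        linarith
      · simp (disch := omega) only [if_pos, if_neg]
        linarith
  · simp (disch := omega) only [if_pos, if_neg]
    exact h4

end helpers

end Groth.Agent.Lib.helper4
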