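import Groth.Agent.Lib.helper4.NTChain

/-!
# Numerical types: structure of a chain of `(-2)`-indices in a proper subset (helper4)
-/

set_option autoImplicit false

namespace Groth.Agent.Lib.helper4

open Finset

/-- In a chain of at least three `(-2)`-indices inside a proper subset of the indices there are no
edges between non-consecutive indices and every edge is simple, or double in one of the two
directions. -/
theorem nt_chain_struct {n : ℕ} (T : Models.NumericalType n) (t : ℕ) (ht : 2 < t) (hn : t < n)
    (v : Fin t ↪ Fin n) (hv : ∀ j, T.IsMinusTwo (v j))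
    (hchain : ∀ j j' : Fin t, j'.val = j.val + 1 → T.a (v j) (v j') ≠ 0) :
    (∀ j k : Fin t, j.val + 1 < k.val → T.a (v j) (v k) = 0) ∧
    (∀ j j' : Fin t, j'.val = j.val + 1 →
      (T.a (v j) (v j') = T.w (v j) ∧ T.a (v j) (v j') = T.w (v j')) ∨
      (T.a (v j) (v j') = 2 * T.w (v j) ∧ T.a (v j) (v j') = T.w (v j')) ∨
      (T.a (v j) (v j') = T.w (v j) ∧ T.a (v j) (v j') = 2 * T.w (v j'))) := by
  classical
  let W : ℕ → ℤ := fun j => if h : j < t then T.w (v ⟨j, h⟩) else 1
  let E : ℕ → ℤ := fun j => if h : j + 1 < t then T.a (v ⟨j, by omega⟩) (v ⟨j + 1, h⟩) else 1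
  have hW : ∀ j (hj : j < t), W j = T.w (v ⟨j, hj⟩) := fun j hj => by
    simp only [W]; rw [dif_pos hj]
  have hE : ∀ j (hj : j + 1 < t), E j = T.a (v ⟨j, by omega⟩) (v ⟨j + 1, hj⟩) := fun j hj => by
    simp only [E]; rw [dif_pos hj]
  have hWpos : ∀ j, j < t → 0 < W j := fun j hj => by rw [hW j hj]; exact T.w_pos _
  have hvne : ∀ j (hj : j + 1 < t), (v ⟨j, by omega⟩) ≠ (v ⟨j + 1, hj⟩) := fun j hj h => by
    have h1 := v.injective h
    have : j = j + 1 := congrArg Fin.val h1
    omega
  have hEpos : ∀ j, j + 1 < t → 0 < E j := by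
    intro j hj
    rw [hE j hj]
    exact lt_of_le_of_ne (T.offDiag_nonneg _ _ (hvne j hj)) (Ne.symm (hchain _ _ rfl))
  have hd1 : ∀ j, j + 1 < t → W j ∣ E j := by
    intro j hj; rw [hW j (by omega), hE j hj]; exact T.w_dvd _ _
  have hd2 : ∀ j, j + 1 < t → W (j + 1) ∣ E j := by
    intro j hj; rw [hW (j + 1) hj, hE j hj, nt_symm]; exact T.w_dvd _ _
  have hWE1 : ∀ j, j + 1 < t → W j ≤ E j := fun j hj => Int.le_of_dvd (hEpos j hj) (hd1 j hj)
  have hWE2 : ∀ j, j + 1 < t → W (j + 1) ≤ E j := fun j hj => Int.le_of_dvd (hEpos j hj) (hd2 j hj)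
  have two := nt_chain_two T v hn hv W E hW hE
  have three := nt_chain_three T v hn hv W E hW hE
  have five := nt_chain_five T v hn hv W E hW hE
  have interval := nt_chain_interval T v hn hv W E hW hE hWE1 hWE2
  -- Step 1: classification of the edges
  have hedge : ∀ j, j + 1 < t → (E j = W j ∧ E j = W (j + 1)) ∨
      (E j = 2 * W j ∧ E j = W (j + 1)) ∨ (E j = W j ∧ E j = 2 * W (j + 1)) := by
    intro j hj
    obtain ⟨p, hp⟩ := hd1 j hj
    obtain ⟨q, hq⟩ := hd2 j hj
    have hWj := hWpos j (by omega)
    have hWj1 := hWpos (j + 1) hj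
    have hEj := hEpos j hj
    have hp1 : 1 ≤ p := by
      by_contra h; push Not at h
      have : p ≤ 0 := by omega
      nlinarith
    have hq1 : 1 ≤ q := by
      by_contra h; push Not at h
      have : q ≤ 0 := by omega
      nlinarith
    have h22 : ¬ (2 ≤ p ∧ 2 ≤ q) := by
      rintro ⟨h1, h2⟩
      exact two j hj 2 2 1 1 (by norm_num) (by norm_num) (by norm_num) (by norm_num)
        (by nlinarith) (by nlinarith) (by norm_num) (by norm_num)
    have hp3 : p < 3 := by
      by_contra h; push Not at h
      have hA : 3 * W j ≤ E j := by nlinarith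
      by_cases hj2 : j + 2 < t
      · exact three j hj2 3 1 1 1 3 2 1 (by norm_num) (by norm_num) (by norm_num) (by norm_num)
          (by norm_num) (by norm_num) (by norm_num) hA (by linarith [hWE2 j hj])
          (by linarith [hWE1 (j + 1) hj2]) (by linarith [hWE2 (j + 1) hj2])
          (by norm_num) (by norm_num) (by norm_num)
      · obtain ⟨k, rfl⟩ : ∃ k, j = k + 1 := ⟨j - 1, by omega⟩
        exact three k hj 1 1 3 1 1 2 1 (by norm_num) (by norm_num) (by norm_num) (by norm_num)
          (by norm_num) (by norm_num) (by norm_num) (by linarith [hWE1 k (by omega)])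
          (by linarith [hWE2 k (by omega)]) hA (by linarith [hWE2 (k + 1) hj])
          (by norm_num) (by norm_num) (by norm_num)
    have hq3 : q < 3 := by
      by_contra h; push Not at h
      have hB : 3 * W (j + 1) ≤ E j := by nlinarith
      by_cases hj2 : j + 2 < t
      · exact three j hj2 1 3 1 1 1 2 1 (by norm_num) (by norm_num) (by norm_num) (by norm_num)
          (by norm_num) (by norm_num) (by norm_num) (by linarith [hWE1 j hj]) hB
          (by linarith [hWE1 (j + 1) hj2]) (by linarith [hWE2 (j + 1) hj2])
          (by norm_num) (by norm_num) (by norm_num)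
      · obtain ⟨k, rfl⟩ : ∃ k, j = k + 1 := ⟨j - 1, by omega⟩
        exact three k hj 1 1 1 3 1 2 3 (by norm_num) (by norm_num) (by norm_num) (by norm_num)
          (by norm_num) (by norm_num) (by norm_num) (by linarith [hWE1 k (by omega)])
          (by linarith [hWE2 k (by omega)]) (by linarith [hWE1 (k + 1) hj]) hB
          (by norm_num) (by norm_num) (by norm_num)
    have hp' : p = 1 ∨ p = 2 := by omega
    have hq' : q = 1 ∨ q = 2 := by omega
    rcases hp' with rfl | rfl <;> rcases hq' with rfl | rfl
    · left; exact ⟨by rw [hp]; ring, by rw [hq]; ring⟩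
    · right; right; exact ⟨by rw [hp]; ring, by rw [hq]; ring⟩
    · right; left; exact ⟨by rw [hp]; ring, by rw [hq]; ring⟩
    · exact absurd ⟨le_refl _, le_refl _⟩ h22
  -- Step 3: no further edges
  have hzero : ∀ j k : Fin t, j.val + 1 < k.val → T.a (v j) (v k) = 0 := by
    intro j k hjk
    by_contra hne
    let κ : Fin t → Fin t → ℤ := fun p q =>
      if j.val ≤ p.val ∧ p.val ≤ k.val ∧ j.val ≤ q.val ∧ q.val ≤ k.val ∧
        (q.val = p.val + 1 ∨ p.val = q.val + 1 ∨ (p = j ∧ q = k) ∨ (p = k ∧ q = j)) then 1 else 0
    let c : Fin t → ℤ := fun p => if j.val ≤ p.val ∧ p.val ≤ k.val then 1 else 0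
    have hκdef : ∀ p q, κ p q = if j.val ≤ p.val ∧ p.val ≤ k.val ∧ j.val ≤ q.val ∧ q.val ≤ k.val ∧
        (q.val = p.val + 1 ∨ p.val = q.val + 1 ∨ (p = j ∧ q = k) ∨ (p = k ∧ q = j)) then 1 else 0 :=
      fun p q => rfl
    have hcdef : ∀ p, c p = if j.val ≤ p.val ∧ p.val ≤ k.val then 1 else 0 := fun p => rfl
    apply nt_no_affine T v hn hv κ ?_ c ?_ ?_ ?_
    · intro p q hpq hκne
      rw [hκdef] at hκne ⊢
      split_ifs at hκne ⊢ with h
      · rw [one_mul]
        apply nt_edge_ge T (fun h' => hpq (v.injective h'))
        obtain ⟨_, _, _, _, h5⟩ := h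
        rcases h5 with h5 | h5 | ⟨rfl, rfl⟩ | ⟨rfl, rfl⟩
        · exact hchain p q h5
        · rw [nt_symm]; exact hchain q p h5
        · exact hne
        · rw [nt_symm]; exact hne
      · exact absurd rfl hκne
    · intro p
      rw [hcdef]
      split_ifs <;> norm_num
    · intro h
      have := congrFun h j
      rw [hcdef, if_pos ⟨le_refl _, by omega⟩] at this
      exact one_ne_zero this
    · intro p hp
      have hpr : j.val ≤ p.val ∧ p.val ≤ k.val := by
        by_contra h
        rw [hcdef, if_neg h] at hp
        exact lt_irrefl _ hp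
      have hcp : c p = 1 := by rw [hcdef, if_pos hpr]
      rw [hcp]
      have hterm : ∀ q ∈ Finset.univ.erase p, 0 ≤ κ p q * c q := by
        intro q _
        apply mul_nonneg
        · rw [hκdef]; split_ifs <;> norm_num
        · rw [hcdef]; split_ifs <;> norm_num
      obtain ⟨q1, q2, hq1, hq2, hq12, hk1, hk2⟩ : ∃ q1 q2 : Fin t, q1 ≠ p ∧ q2 ≠ p ∧ q1 ≠ q2 ∧
          κ p q1 * c q1 = 1 ∧ κ p q2 * c q2 = 1 := by
        by_cases h1 : p = j
        · subst h1
          refine ⟨⟨p.val + 1, by omega⟩, k, ?_, ?_, ?_, ?_, ?_⟩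
          · intro h
            have : p.val + 1 = p.val := congrArg Fin.val h
            omega
          · intro h
            have : k.val = p.val := congrArg Fin.val h
            omega
          · intro h
            have : p.val + 1 = k.val := congrArg Fin.val h
            omega
          · rw [hκdef, hcdef, if_pos ⟨le_refl _, by omega, by dsimp only; omega, by dsimp only; omega,
              Or.inl rfl⟩, if_pos ⟨by dsimp only; omega, by dsimp only; omega⟩]
            norm_num
          · rw [hκdef, hcdef, if_pos ⟨le_refl _, by omega, by omega, le_refl _,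
              Or.inr (Or.inr (Or.inl ⟨rfl, rfl⟩))⟩, if_pos ⟨by omega, le_refl _⟩]
            norm_num
        · by_cases h2 : p = k
          · subst h2
            refine ⟨⟨p.val - 1, by omega⟩, j, ?_, ?_, ?_, ?_, ?_⟩
            · intro h
              have : p.val - 1 = p.val := congrArg Fin.val h
              omega
            · intro h
              have : j.val = p.val := congrArg Fin.val h
              omega
            · intro h
              have : p.val - 1 = j.val := congrArg Fin.val h
              omega
            · rw [hκdef, hcdef, if_pos ⟨by omega, le_refl _, by dsimp only; omega,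
                by dsimp only; omega, Or.inr (Or.inl (by dsimp only; omega))⟩,
                if_pos ⟨by dsimp only; omega, by dsimp only; omega⟩]
              norm_num
            · rw [hκdef, hcdef, if_pos ⟨by omega, le_refl _, le_refl _, by omega,
                Or.inr (Or.inr (Or.inr ⟨rfl, rfl⟩))⟩, if_pos ⟨le_refl _, by omega⟩]
              norm_num
          · have hpj : p.val ≠ j.val := fun h => h1 (Fin.ext h)
            have hpk : p.val ≠ k.val := fun h => h2 (Fin.ext h)
            refine ⟨⟨p.val - 1, by omega⟩, ⟨p.val + 1, by omega⟩, ?_, ?_, ?_, ?_, ?_⟩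
            · intro h
              have : p.val - 1 = p.val := congrArg Fin.val h
              omega
            · intro h
              have : p.val + 1 = p.val := congrArg Fin.val h
              omega
            · intro h
              have : p.val - 1 = p.val + 1 := congrArg Fin.val h
              omega
            · rw [hκdef, hcdef, if_pos ⟨hpr.1, hpr.2, by dsimp only; omega, by dsimp only; omega,
                Or.inr (Or.inl (by dsimp only; omega))⟩,
                if_pos ⟨by dsimp only; omega, by dsimp only; omega⟩]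
              norm_num
            · rw [hκdef, hcdef, if_pos ⟨hpr.1, hpr.2, by dsimp only; omega, by dsimp only; omega,
                Or.inl rfl⟩, if_pos ⟨by dsimp only; omega, by dsimp only; omega⟩]
              norm_num
      have := h4_sum_ge_two (Finset.univ.erase p) (fun q => κ p q * c q) hterm
        (Finset.mem_erase.mpr ⟨hq1, Finset.mem_univ _⟩)
        (Finset.mem_erase.mpr ⟨hq2, Finset.mem_univ _⟩) hq12
      simp only [hk1, hk2] at this
      linarith
  have hwv : ∀ p : Fin t, T.w (v p) = W p.val := fun p => (hW p.val p.isLt).symm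
  have hav : ∀ p q : Fin t, q.val = p.val + 1 → T.a (v p) (v q) = E p.val := by
    intro p q h
    have hq : q = ⟨p.val + 1, by omega⟩ := Fin.ext h
    rw [hq]
    exact (hE p.val (by omega)).symm
  refine ⟨hzero, ?_⟩
  intro j j' hjj'
  have hj' : j'.val = j.val + 1 := hjj'
  have hwj' : T.w (v j') = W (j.val + 1) := by rw [hwv, hj']
  rw [hav j j' hjj', hwv, hwj']
  exact hedge j.val (by omega)

/-- In a chain of `(-2)`-indices inside a proper subset of the indices, an edge with at least one
vertex of the chain on each side and at least two on one of the sides is simple. -/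
theorem nt_chain_middle {n : ℕ} (T : Models.NumericalType n) (t : ℕ) (ht : 2 < t) (hn : t < n)
    (v : Fin t ↪ Fin n) (hv : ∀ j, T.IsMinusTwo (v j))
    (hchain : ∀ j j' : Fin t, j'.val = j.val + 1 → T.a (v j) (v j') ≠ 0) :
    ∀ j j' : Fin t, j'.val = j.val + 1 → 1 ≤ j.val → j'.val + 1 < t →
      (2 ≤ j.val ∨ j'.val + 2 < t) →
      T.a (v j) (v j') = T.w (v j) ∧ T.a (v j) (v j') = T.w (v j') := by
  classical
  let W : ℕ → ℤ := fun j => if h : j < t then T.w (v ⟨j, h⟩) else 1
  let E : ℕ → ℤ := fun j => if h : j + 1 < t then T.a (v ⟨j, by omega⟩) (v ⟨j + 1, h⟩) else 1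
  have hW : ∀ j (hj : j < t), W j = T.w (v ⟨j, hj⟩) := fun j hj => by
    simp only [W]; rw [dif_pos hj]
  have hE : ∀ j (hj : j + 1 < t), E j = T.a (v ⟨j, by omega⟩) (v ⟨j + 1, hj⟩) := fun j hj => by
    simp only [E]; rw [dif_pos hj]
  have hWpos : ∀ j, j < t → 0 < W j := fun j hj => by rw [hW j hj]; exact T.w_pos _
  have hvne : ∀ j (hj : j + 1 < t), (v ⟨j, by omega⟩) ≠ (v ⟨j + 1, hj⟩) := fun j hj h => by
    have h1 := v.injective h
    have : j = j + 1 := congrArg Fin.val h1
    omega
  have hEpos : ∀ j, j + 1 < t → 0 < E j := by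
    intro j hj
    rw [hE j hj]
    exact lt_of_le_of_ne (T.offDiag_nonneg _ _ (hvne j hj)) (Ne.symm (hchain _ _ rfl))
  have hd1 : ∀ j, j + 1 < t → W j ∣ E j := by
    intro j hj; rw [hW j (by omega), hE j hj]; exact T.w_dvd _ _
  have hd2 : ∀ j, j + 1 < t → W (j + 1) ∣ E j := by
    intro j hj; rw [hW (j + 1) hj, hE j hj, nt_symm]; exact T.w_dvd _ _
  have hWE1 : ∀ j, j + 1 < t → W j ≤ E j := fun j hj => Int.le_of_dvd (hEpos j hj) (hd1 j hj)
  have hWE2 : ∀ j, j + 1 < t → W (j + 1) ≤ E j := fun j hj => Int.le_of_dvd (hEpos j hj) (hd2 j hj)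
  have two := nt_chain_two T v hn hv W E hW hE
  have three := nt_chain_three T v hn hv W E hW hE
  have five := nt_chain_five T v hn hv W E hW hE
  have interval := nt_chain_interval T v hn hv W E hW hE hWE1 hWE2
  -- Step 1: classification of the edges
  have hedge : ∀ j, j + 1 < t → (E j = W j ∧ E j = W (j + 1)) ∨
      (E j = 2 * W j ∧ E j = W (j + 1)) ∨ (E j = W j ∧ E j = 2 * W (j + 1)) := by
    intro j hj
    obtain ⟨p, hp⟩ := hd1 j hj
    obtain ⟨q, hq⟩ := hd2 j hj
    have hWj := hWpos j (by omega)
    have hWj1 := hWpos (j + 1) hj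
    have hEj := hEpos j hj
    have hp1 : 1 ≤ p := by
      by_contra h; push Not at h
      have : p ≤ 0 := by omega
      nlinarith
    have hq1 : 1 ≤ q := by
      by_contra h; push Not at h
      have : q ≤ 0 := by omega
      nlinarith
    have h22 : ¬ (2 ≤ p ∧ 2 ≤ q) := by
      rintro ⟨h1, h2⟩
      exact two j hj 2 2 1 1 (by norm_num) (by norm_num) (by norm_num) (by norm_num)
        (by nlinarith) (by nlinarith) (by norm_num) (by norm_num)
    have hp3 : p < 3 := by
      by_contra h; push Not at h
      have hA : 3 * W j ≤ E j := by nlinarith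
      by_cases hj2 : j + 2 < t
      · exact three j hj2 3 1 1 1 3 2 1 (by norm_num) (by norm_num) (by norm_num) (by norm_num)
          (by norm_num) (by norm_num) (by norm_num) hA (by linarith [hWE2 j hj])
          (by linarith [hWE1 (j + 1) hj2]) (by linarith [hWE2 (j + 1) hj2])
          (by norm_num) (by norm_num) (by norm_num)
      · obtain ⟨k, rfl⟩ : ∃ k, j = k + 1 := ⟨j - 1, by omega⟩
        exact three k hj 1 1 3 1 1 2 1 (by norm_num) (by norm_num) (by norm_num) (by norm_num)
          (by norm_num) (by norm_num) (by norm_num) (by linarith [hWE1 k (by omega)])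
          (by linarith [hWE2 k (by omega)]) hA (by linarith [hWE2 (k + 1) hj])
          (by norm_num) (by norm_num) (by norm_num)
    have hq3 : q < 3 := by
      by_contra h; push Not at h
      have hB : 3 * W (j + 1) ≤ E j := by nlinarith
      by_cases hj2 : j + 2 < t
      · exact three j hj2 1 3 1 1 1 2 1 (by norm_num) (by norm_num) (by norm_num) (by norm_num)
          (by norm_num) (by norm_num) (by norm_num) (by linarith [hWE1 j hj]) hB
          (by linarith [hWE1 (j + 1) hj2]) (by linarith [hWE2 (j + 1) hj2])
          (by norm_num) (by norm_num) (by norm_num)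
      · obtain ⟨k, rfl⟩ : ∃ k, j = k + 1 := ⟨j - 1, by omega⟩
        exact three k hj 1 1 1 3 1 2 3 (by norm_num) (by norm_num) (by norm_num) (by norm_num)
          (by norm_num) (by norm_num) (by norm_num) (by linarith [hWE1 k (by omega)])
          (by linarith [hWE2 k (by omega)]) (by linarith [hWE1 (k + 1) hj]) hB
          (by norm_num) (by norm_num) (by norm_num)
    have hp' : p = 1 ∨ p = 2 := by omega
    have hq' : q = 1 ∨ q = 2 := by omega
    rcases hp' with rfl | rfl <;> rcases hq' with rfl | rfl
    · left; exact ⟨by rw [hp]; ring, by rw [hq]; ring⟩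
    · right; right; exact ⟨by rw [hp]; ring, by rw [hq]; ring⟩
    · right; left; exact ⟨by rw [hp]; ring, by rw [hq]; ring⟩
    · exact absurd ⟨le_refl _, le_refl _⟩ h22
  -- Step 2: at most one non-simple edge, and only at an end
  have hns : ∀ j, j + 1 < t → ¬ (E j = W j ∧ E j = W (j + 1)) →
      (E j = 2 * W j ∧ E j = W (j + 1)) ∨ (E j = W j ∧ E j = 2 * W (j + 1)) := by
    intro j hj h
    rcases hedge j hj with h1 | h1 | h1
    · exact absurd h1 h
    · exact Or.inl h1
    · exact Or.inr h1
  have hmiddle : ∀ j, 1 ≤ j → j + 2 < t → (2 ≤ j ∨ j + 3 < t) → ¬ (E j = W j ∧ E j = W (j + 1)) → False := by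
    intro j hj1 hj2 hj3 h
    by_cases hA : 2 ≤ j
    · obtain ⟨k, rfl⟩ : ∃ k, j = k + 2 := ⟨j - 2, by omega⟩
      have b0 := hWE1 k (by omega)
      have b0' := hWE2 k (by omega)
      have b1 := hWE1 (k + 1) (by omega)
      have b1' := hWE2 (k + 1) (by omega)
      have b3 := hWE1 (k + 3) (by omega)
      have b3' := hWE2 (k + 3) (by omega)
      rcases hns (k + 2) (by omega) h with ⟨e1, e2⟩ | ⟨e1, e2⟩
      · exact five k (by omega) 1 1 1 1 2 1 1 1 1 2 3 2 1 (by norm_num) (by norm_num) (by norm_num)
          (by norm_num) (by norm_num) (by norm_num) (by norm_num) (by norm_num) (by norm_num)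
          (by norm_num) (by norm_num) (by norm_num) (by norm_num) (by linarith) (by linarith)
          (by linarith) (by linarith) (by linarith) (by linarith) (by linarith) (by linarith)
          (by norm_num) (by norm_num) (by norm_num) (by norm_num) (by norm_num)
      · exact five k (by omega) 1 1 1 1 1 2 1 1 1 2 3 4 2 (by norm_num) (by norm_num) (by norm_num)
          (by norm_num) (by norm_num) (by norm_num) (by norm_num) (by norm_num) (by norm_num)
          (by norm_num) (by norm_num) (by norm_num) (by norm_num) (by linarith) (by linarith)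
          (by linarith) (by linarith) (by linarith) (by linarith) (by linarith) (by linarith)
          (by norm_num) (by norm_num) (by norm_num) (by norm_num) (by norm_num)
    · obtain ⟨k, rfl⟩ : ∃ k, j = k + 1 := ⟨j - 1, by omega⟩
      have b0 := hWE1 k (by omega)
      have b0' := hWE2 k (by omega)
      have b2 := hWE1 (k + 2) (by omega)
      have b2' := hWE2 (k + 2) (by omega)
      have b3 := hWE1 (k + 3) (by omega)
      have b3' := hWE2 (k + 3) (by omega)
      rcases hns (k + 1) (by omega) h with ⟨e1, e2⟩ | ⟨e1, e2⟩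
      · exact five k (by omega) 1 1 2 1 1 1 1 1 2 4 3 2 1 (by norm_num) (by norm_num) (by norm_num)
          (by norm_num) (by norm_num) (by norm_num) (by norm_num) (by norm_num) (by norm_num)
          (by norm_num) (by norm_num) (by norm_num) (by norm_num) (by linarith) (by linarith)
          (by linarith) (by linarith) (by linarith) (by linarith) (by linarith) (by linarith)
          (by norm_num) (by norm_num) (by norm_num) (by norm_num) (by norm_num)
      · exact five k (by omega) 1 1 1 2 1 1 1 1 1 2 3 2 1 (by norm_num) (by norm_num) (by norm_num)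
          (by norm_num) (by norm_num) (by norm_num) (by norm_num) (by norm_num) (by norm_num)
          (by norm_num) (by norm_num) (by norm_num) (by norm_num) (by linarith) (by linarith)
          (by linarith) (by linarith) (by linarith) (by linarith) (by linarith) (by linarith)
          (by norm_num) (by norm_num) (by norm_num) (by norm_num) (by norm_num)
  have hwv : ∀ p : Fin t, T.w (v p) = W p.val := fun p => (hW p.val p.isLt).symm
  have hav : ∀ p q : Fin t, q.val = p.val + 1 → T.a (v p) (v q) = E p.val := by
    intro p q h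
    have hq : q = ⟨p.val + 1, by omega⟩ := Fin.ext h
    rw [hq]
    exact (hE p.val (by omega)).symm
  intro j j' hjj' h1 h2 h3
  have hj' : j'.val = j.val + 1 := hjj'
  have hwj' : T.w (v j') = W (j.val + 1) := by rw [hwv, hj']
  rw [hav j j' hjj', hwv, hwj']
  by_contra hcon
  exact hmiddle j.val h1 (by omega) (by omega) hcon

end Groth.Agent.Lib.helper4
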