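import Groth.Agent.Lib.helper4.NTChain2

/-!
# Numerical types: forks of `(-2)`-indices (type `D`) in a proper subset (helper4)
-/

set_option autoImplicit false
set_option linter.unusedSimpArgs false

namespace Groth.Agent.Lib.helper4

open Finset

variable {n : ℕ} (T : Models.NumericalType n)

/-- Adjacency in the graph of type `D` on `t + 1` vertices: the chain `0, …, t - 1` and the extra
vertex `t` attached to `t - 2`. -/
def ntForkAdj (t : ℕ) (p q : Fin (t + 1)) : Prop :=
  (q.val = p.val + 1 ∧ q.val < t) ∨ (p.val + 2 = t ∧ q.val = t)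

instance (t : ℕ) (p q : Fin (t + 1)) : Decidable (ntForkAdj t p q) := by
  unfold ntForkAdj; infer_instance

/-- The first edge of the stem of a fork cannot be double. -/
theorem nt_fork_long (t : ℕ) (ht : 4 ≤ t) (hn : t + 1 < n) (v : Fin (t + 1) ↪ Fin n)
    (hv : ∀ j, T.IsMinusTwo (v j))
    (hadj : ∀ p q : Fin (t + 1), ntForkAdj t p q → T.a (v p) (v q) ≠ 0)
    (aS bS cL : ℤ) (haS : 1 ≤ aS) (hbS : 1 ≤ bS) (hcL : 0 < cL)
    (hA : ∀ p q : Fin (t + 1), p.val = 0 → q.val = 1 → aS * T.w (v p) ≤ T.a (v p) (v q))
    (hB : ∀ p q : Fin (t + 1), p.val = 0 → q.val = 1 → bS * T.w (v q) ≤ T.a (v p) (v q))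
    (h1 : cL ≤ aS) (h2 : 2 ≤ bS * cL) : False := by
  classical
  let κ : Fin (t + 1) → Fin (t + 1) → ℤ := fun p q =>
    if p.val = 0 ∧ q.val = 1 then aS else if p.val = 1 ∧ q.val = 0 then bS
    else if ntForkAdj t p q ∨ ntForkAdj t q p then 1 else 0
  let c : Fin (t + 1) → ℤ := fun p => if p.val = 0 then cL else if p.val + 2 ≤ t then 2 else 1
  have hκdef : ∀ p q, κ p q = if p.val = 0 ∧ q.val = 1 then aS else if p.val = 1 ∧ q.val = 0 then bS
    else if ntForkAdj t p q ∨ ntForkAdj t q p then 1 else 0 := fun p q => rfl
  have hcdef : ∀ p, c p = if p.val = 0 then cL else if p.val + 2 ≤ t then 2 else 1 := fun p => rfl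
  have hcpos : ∀ p, 0 < c p := by
    intro p; rw [hcdef]; split_ifs <;> first | assumption | norm_num
  have hκ0 : ∀ p q, 0 ≤ κ p q := by
    intro p q; rw [hκdef]; split_ifs <;> first | linarith | norm_num
  have adjS : ∀ p q : Fin (t + 1), q.val = p.val + 1 → q.val < t → ntForkAdj t p q :=
    fun p q h1 h2 => Or.inl ⟨h1, h2⟩
  have adjB : ∀ p q : Fin (t + 1), p.val + 2 = t → q.val = t → ntForkAdj t p q :=
    fun p q h1 h2 => Or.inr ⟨h1, h2⟩
  apply nt_no_affine T v hn hv κ ?_ c (fun p => (hcpos p).le) ?_ ?_
  · intro p q hpq hκne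
    rw [hκdef] at hκne ⊢
    split_ifs at hκne ⊢ with h3 h4 h5
    · exact hA p q h3.1 h3.2
    · rw [nt_symm]; exact hB q p h4.2 h4.1
    · rw [one_mul]
      apply nt_edge_ge T (fun h' => hpq (v.injective h'))
      rcases h5 with h5 | h5
      · exact hadj p q h5
      · rw [nt_symm]; exact hadj q p h5
    · exact absurd rfl hκne
  · intro h
    have := congrFun h 0
    have h0 := hcpos 0
    rw [this] at h0
    exact lt_irrefl _ h0
  · intro p _
    have hterm : ∀ q ∈ Finset.univ.erase p, 0 ≤ κ p q * c q :=
      fun q _ => mul_nonneg (hκ0 p q) (hcpos q).le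
    have mem : ∀ q : Fin (t + 1), q.val ≠ p.val → q ∈ Finset.univ.erase p := fun q h =>
      Finset.mem_erase.mpr ⟨fun h' => h (congrArg Fin.val h'), Finset.mem_univ _⟩
    by_cases hp0 : p.val = 0
    · -- neighbour 1
      have hle := Finset.single_le_sum (f := fun q => κ p q * c q) hterm
        (mem ⟨1, by omega⟩ (by dsimp only; omega))
      have e1 : κ p ⟨1, by omega⟩ = aS := by rw [hκdef, if_pos ⟨hp0, rfl⟩]
      have e2 : c ⟨1, by omega⟩ = 2 := by
        rw [hcdef, if_neg (by dsimp only; omega), if_pos (by dsimp only; omega)]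
      have e3 : c p = cL := by rw [hcdef, if_pos hp0]
      simp only [e1, e2] at hle
      rw [e3]; nlinarith
    · by_cases hp1 : p.val = 1
      · have hle := h4_sum_ge_two (Finset.univ.erase p) (fun q => κ p q * c q) hterm
          (mem ⟨0, by omega⟩ (by dsimp only; omega)) (mem ⟨2, by omega⟩ (by dsimp only; omega))
          (fun h => by have : (0 : ℕ) = 2 := congrArg Fin.val h; omega)
        have e1 : κ p ⟨0, by omega⟩ = bS := by
          rw [hκdef, if_neg (by dsimp only; omega), if_pos ⟨hp1, rfl⟩]
        have e2 : c ⟨0, by omega⟩ = cL := by rw [hcdef, if_pos rfl]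
        have e3 : κ p ⟨2, by omega⟩ = 1 := by
          rw [hκdef, if_neg (by dsimp only; omega), if_neg (by dsimp only; omega),
            if_pos (Or.inl (adjS _ _ (by dsimp only; omega) (by dsimp only; omega)))]
        have e4 : c ⟨2, by omega⟩ = 2 := by
          rw [hcdef, if_neg (by dsimp only; omega), if_pos (by dsimp only; omega)]
        have e5 : c p = 2 := by rw [hcdef, if_neg hp0, if_pos (by omega)]
        simp only [e1, e2, e3, e4] at hle
        rw [e5]; linarith
      · by_cases hp2 : p.val + 2 < t
        · -- interior of the stem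
          have hle := h4_sum_ge_two (Finset.univ.erase p) (fun q => κ p q * c q) hterm
            (mem ⟨p.val - 1, by omega⟩ (by dsimp only; omega))
            (mem ⟨p.val + 1, by omega⟩ (by dsimp only; omega))
            (fun h => by have : p.val - 1 = p.val + 1 := congrArg Fin.val h; omega)
          have e1 : κ p ⟨p.val - 1, by omega⟩ = 1 := by
            rw [hκdef, if_neg (by dsimp only; omega), if_neg (by dsimp only; omega),
              if_pos (Or.inr (adjS _ _ (by dsimp only; omega) (by omega)))]
          have e2 : c ⟨p.val - 1, by omega⟩ = 2 := by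
            rw [hcdef, if_neg (by dsimp only; omega), if_pos (by dsimp only; omega)]
          have e3 : κ p ⟨p.val + 1, by omega⟩ = 1 := by
            rw [hκdef, if_neg (by dsimp only; omega), if_neg (by dsimp only; omega),
              if_pos (Or.inl (adjS _ _ (by dsimp only) (by dsimp only; omega)))]
          have e4 : c ⟨p.val + 1, by omega⟩ = 2 := by
            rw [hcdef, if_neg (by dsimp only; omega), if_pos (by dsimp only; omega)]
          have e5 : c p = 2 := by rw [hcdef, if_neg hp0, if_pos (by omega)]
          simp only [e1, e2, e3, e4] at hle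
          rw [e5]; linarith
        · by_cases hp3 : p.val + 2 = t
          · -- the branch vertex
            have hle := h4_sum_ge_three (Finset.univ.erase p) (fun q => κ p q * c q) hterm
              (mem ⟨p.val - 1, by omega⟩ (by dsimp only; omega))
              (mem ⟨p.val + 1, by omega⟩ (by dsimp only; omega))
              (mem ⟨t, by omega⟩ (by dsimp only; omega))
              (fun h => by have : p.val - 1 = p.val + 1 := congrArg Fin.val h; omega)
              (fun h => by have : p.val - 1 = t := congrArg Fin.val h; omega)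
              (fun h => by have : p.val + 1 = t := congrArg Fin.val h; omega)
            have e1 : κ p ⟨p.val - 1, by omega⟩ = 1 := by
              rw [hκdef, if_neg (by dsimp only; omega), if_neg (by dsimp only; omega),
                if_pos (Or.inr (adjS _ _ (by dsimp only; omega) (by omega)))]
            have e2 : c ⟨p.val - 1, by omega⟩ = 2 := by
              rw [hcdef, if_neg (by dsimp only; omega), if_pos (by dsimp only; omega)]
            have e3 : κ p ⟨p.val + 1, by omega⟩ = 1 := by
              rw [hκdef, if_neg (by dsimp only; omega), if_neg (by dsimp only; omega),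
                if_pos (Or.inl (adjS _ _ (by dsimp only) (by dsimp only; omega)))]
            have e4 : c ⟨p.val + 1, by omega⟩ = 1 := by
              rw [hcdef, if_neg (by dsimp only; omega), if_neg (by dsimp only; omega)]
            have e5 : κ p ⟨t, by omega⟩ = 1 := by
              rw [hκdef, if_neg (by dsimp only; omega), if_neg (by dsimp only; omega),
                if_pos (Or.inl (adjB _ _ hp3 rfl))]
            have e6 : c ⟨t, by omega⟩ = 1 := by
              rw [hcdef, if_neg (by dsimp only; omega), if_neg (by dsimp only; omega)]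
            have e7 : c p = 2 := by rw [hcdef, if_neg hp0, if_pos (by omega)]
            simp only [e1, e2, e3, e4, e5, e6] at hle
            rw [e7]; linarith
          · -- the two leaves
            have hpt : p.val + 1 = t ∨ p.val = t := by omega
            have hle := Finset.single_le_sum (f := fun q => κ p q * c q) hterm
              (mem ⟨t - 2, by omega⟩ (by dsimp only; omega))
            have e1 : κ p ⟨t - 2, by omega⟩ = 1 := by
              rw [hκdef, if_neg (by dsimp only; omega), if_neg (by dsimp only; omega),
                if_pos (Or.inr ?_)]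
              rcases hpt with h | h
              · exact adjS _ _ (by dsimp only; omega) (by omega)
              · exact adjB _ _ (by dsimp only; omega) h
            have e2 : c ⟨t - 2, by omega⟩ = 2 := by
              rw [hcdef, if_neg (by dsimp only; omega), if_pos (by dsimp only; omega)]
            have e3 : c p = 1 := by rw [hcdef, if_neg hp0, if_neg (by omega)]
            simp only [e1, e2] at hle
            rw [e3]; linarith

/-- An edge from the branch vertex of a fork to one of the two leaves cannot be double. -/
theorem nt_fork_star (t : ℕ) (ht : 4 ≤ t) (hn : t + 1 < n) (v : Fin (t + 1) ↪ Fin n)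
    (hv : ∀ j, T.IsMinusTwo (v j))
    (hadj : ∀ p q : Fin (t + 1), ntForkAdj t p q → T.a (v p) (v q) ≠ 0)
    (y z : Fin (t + 1)) (hyz : (y.val + 1 = t ∧ z.val = t) ∨ (y.val = t ∧ z.val + 1 = t))
    (ay by' cy : ℤ) (hay : 1 ≤ ay) (hby : 1 ≤ by') (hcy : 0 < cy)
    (hA : ∀ p : Fin (t + 1), p.val + 2 = t → ay * T.w (v p) ≤ T.a (v p) (v y))
    (hB : ∀ p : Fin (t + 1), p.val + 2 = t → by' * T.w (v y) ≤ T.a (v p) (v y))
    (h1 : 2 ≤ ay * cy) (h2 : cy ≤ by') : False := by
  classical
  let κ : Fin (t + 1) → Fin (t + 1) → ℤ := fun p q =>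
    if p.val + 2 = t ∧ q = y then ay else if p = y ∧ q.val + 2 = t then by'
    else if (ntForkAdj t p q ∨ ntForkAdj t q p) ∧ t ≤ p.val + 3 ∧ t ≤ q.val + 3 then 1 else 0
  let c : Fin (t + 1) → ℤ := fun p =>
    if p.val + 3 = t then 1 else if p.val + 2 = t then 2 else if p = y then cy
    else if p = z then 1 else 0
  have hκdef : ∀ p q, κ p q = if p.val + 2 = t ∧ q = y then ay else if p = y ∧ q.val + 2 = t then by'
    else if (ntForkAdj t p q ∨ ntForkAdj t q p) ∧ t ≤ p.val + 3 ∧ t ≤ q.val + 3 then 1 else 0 :=
    fun p q => rfl
  have hcdef : ∀ p, c p = if p.val + 3 = t then 1 else if p.val + 2 = t then 2 else if p = y then cy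
    else if p = z then 1 else 0 := fun p => rfl
  have hc0 : ∀ p, 0 ≤ c p := by
    intro p; rw [hcdef]; split_ifs <;> first | linarith | norm_num
  have hκ0 : ∀ p q, 0 ≤ κ p q := by
    intro p q; rw [hκdef]; split_ifs <;> first | linarith | norm_num
  have adjS : ∀ p q : Fin (t + 1), q.val = p.val + 1 → q.val < t → ntForkAdj t p q :=
    fun p q h1 h2 => Or.inl ⟨h1, h2⟩
  have adjB : ∀ p q : Fin (t + 1), p.val + 2 = t → q.val = t → ntForkAdj t p q :=
    fun p q h1 h2 => Or.inr ⟨h1, h2⟩
  have hyv : y.val + 1 = t ∨ y.val = t := by rcases hyz with h | h <;> omega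
  have hzv : z.val + 1 = t ∨ z.val = t := by rcases hyz with h | h <;> omega
  have hyzne : y.val ≠ z.val := by rcases hyz with h | h <;> omega
  have hbadj : ∀ p q : Fin (t + 1), p.val + 2 = t → (q.val + 1 = t ∨ q.val = t) →
      ntForkAdj t p q := by
    intro p q hp hq
    rcases hq with hq | hq
    · exact adjS p q (by omega) (by omega)
    · exact adjB p q hp hq
  apply nt_no_affine T v hn hv κ ?_ c hc0 ?_ ?_
  · intro p q hpq hκne
    rw [hκdef] at hκne ⊢
    split_ifs at hκne ⊢ with h3 h4 h5
    · rw [h3.2]; exact hA p h3.1
    · rw [h4.1, nt_symm]; exact hB q h4.2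
    · rw [one_mul]
      apply nt_edge_ge T (fun h' => hpq (v.injective h'))
      rcases h5.1 with h5 | h5
      · exact hadj p q h5
      · rw [nt_symm]; exact hadj q p h5
    · exact absurd rfl hκne
  · intro h
    have := congrFun h ⟨t - 2, by omega⟩
    rw [hcdef, if_neg (by dsimp only; omega), if_pos (by dsimp only; omega)] at this
    simp at this
  · intro p hp
    have hterm : ∀ q ∈ Finset.univ.erase p, 0 ≤ κ p q * c q :=
      fun q _ => mul_nonneg (hκ0 p q) (hc0 q)
    have mem : ∀ q : Fin (t + 1), q.val ≠ p.val → q ∈ Finset.univ.erase p := fun q h =>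
      Finset.mem_erase.mpr ⟨fun h' => h (congrArg Fin.val h'), Finset.mem_univ _⟩
    have hcb : c ⟨t - 2, by omega⟩ = 2 := by
      rw [hcdef, if_neg (by dsimp only; omega), if_pos (by dsimp only; omega)]
    by_cases hp3 : p.val + 3 = t
    · have hle := Finset.single_le_sum (f := fun q => κ p q * c q) hterm
        (mem ⟨t - 2, by omega⟩ (by dsimp only; omega))
      have hpy : p ≠ y := fun h => by rw [h] at hp3; omega
      have e1 : κ p ⟨t - 2, by omega⟩ = 1 := by
        rw [hκdef, if_neg (by omega), if_neg (fun h => hpy h.1),
          if_pos ⟨Or.inl (adjS _ _ (by dsimp only; omega) (by dsimp only; omega)), by omega,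
            by dsimp only; omega⟩]
      have e3 : c p = 1 := by rw [hcdef, if_pos hp3]
      simp only [e1, hcb] at hle
      rw [e3]; linarith
    · by_cases hp2 : p.val + 2 = t
      · have hpy : p ≠ y := fun h => by rw [h] at hp2; omega
        have hle := h4_sum_ge_three (Finset.univ.erase p) (fun q => κ p q * c q) hterm
          (mem ⟨t - 3, by omega⟩ (by dsimp only; omega)) (mem y (by omega)) (mem z (by omega))
          (fun h => by have : t - 3 = y.val := congrArg Fin.val h; omega)
          (fun h => by have : t - 3 = z.val := congrArg Fin.val h; omega)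
          (fun h => hyzne (congrArg Fin.val h))
        have e1 : κ p ⟨t - 3, by omega⟩ = 1 := by
          rw [hκdef, if_neg (fun h => by have : t - 3 = y.val := congrArg Fin.val h.2; omega),
            if_neg (fun h => hpy h.1),
            if_pos ⟨Or.inr (adjS _ _ (by dsimp only; omega) (by omega)), by omega,
              by dsimp only; omega⟩]
        have e2 : c ⟨t - 3, by omega⟩ = 1 := by rw [hcdef, if_pos (by dsimp only; omega)]
        have e3 : κ p y = ay := by rw [hκdef, if_pos ⟨hp2, rfl⟩]
        have e4 : c y = cy := by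
          rw [hcdef, if_neg (by omega), if_neg (by omega), if_pos rfl]
        have hzy : z ≠ y := fun h => hyzne (congrArg Fin.val h).symm
        have e5 : κ p z = 1 := by
          rw [hκdef, if_neg (fun h => hzy h.2), if_neg (fun h => hpy h.1),
            if_pos ⟨Or.inl (hbadj p z hp2 hzv), by omega, by omega⟩]
        have e6 : c z = 1 := by
          rw [hcdef, if_neg (by omega), if_neg (by omega), if_neg hzy, if_pos rfl]
        have e7 : c p = 2 := by rw [hcdef, if_neg hp3, if_pos hp2]
        simp only [e1, e2, e3, e4, e5, e6] at hle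
        rw [e7]; linarith
      · by_cases hpy : p = y
        · subst hpy
          have hle := Finset.single_le_sum (f := fun q => κ p q * c q) hterm
            (mem ⟨t - 2, by omega⟩ (by dsimp only; omega))
          have e1 : κ p ⟨t - 2, by omega⟩ = by' := by
            rw [hκdef, if_neg (by omega), if_pos ⟨rfl, by dsimp only; omega⟩]
          have e3 : c p = cy := by rw [hcdef, if_neg hp3, if_neg hp2, if_pos rfl]
          simp only [e1, hcb] at hle
          rw [e3]; linarith
        · by_cases hpz : p = z
          · subst hpz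
            have hle := Finset.single_le_sum (f := fun q => κ p q * c q) hterm
              (mem ⟨t - 2, by omega⟩ (by dsimp only; omega))
            have e1 : κ p ⟨t - 2, by omega⟩ = 1 := by
              rw [hκdef, if_neg (by omega), if_neg (fun h => hpy h.1),
                if_pos ⟨Or.inr (hbadj _ p (by dsimp only; omega) hzv), by omega,
                  by dsimp only; omega⟩]
            have e3 : c p = 1 := by rw [hcdef, if_neg hp3, if_neg hp2, if_neg hpy, if_pos rfl]
            simp only [e1, hcb] at hle
            rw [e3]; linarith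
          · rw [hcdef, if_neg hp3, if_neg hp2, if_neg hpy, if_neg hpz] at hp
            exact absurd hp (lt_irrefl _)

end Groth.Agent.Lib.helper4
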