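import Groth.Agent.Lib.helper4.NumType4

/-!
# Numerical types: relabeling of the indices and the Cartan integers (helper4)
-/

set_option autoImplicit false

namespace Groth.Agent.Lib.helper4

open Finset

variable {n : ℕ}

/-- The numerical type with indices relabeled through a permutation. -/
def ntRelabel (T : Models.NumericalType n) (τ : Equiv.Perm (Fin n)) : Models.NumericalType n where
  m := fun i => T.m (τ i)
  a := fun i j => T.a (τ i) (τ j)
  w := fun i => T.w (τ i)
  g := fun i => T.g (τ i)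
  pos := T.pos
  m_pos := fun i => T.m_pos _
  w_pos := fun i => T.w_pos _
  g_nonneg := fun i => T.g_nonneg _
  symm := by
    ext i j
    exact nt_symm T (τ j) (τ i)
  offDiag_nonneg := fun i j h => T.offDiag_nonneg _ _ (fun h' => h (τ.injective h'))
  connected := by
    classical
    intro I hI hI'
    have h1 : (I.map τ.toEmbedding).Nonempty := by simpa using hI
    have h2 : I.map τ.toEmbedding ≠ Finset.univ := by
      intro h
      apply hI'
      rw [Finset.eq_univ_iff_forall]
      intro x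
      have : τ x ∈ I.map τ.toEmbedding := by rw [h]; exact Finset.mem_univ _
      rw [Finset.mem_map] at this
      obtain ⟨y, hy, hxy⟩ := this
      have : y = x := τ.injective hxy
      rwa [← this]
    obtain ⟨i, hi, j, hj, hij⟩ := T.connected _ h1 h2
    rw [Finset.mem_map] at hi
    obtain ⟨i0, hi0, rfl⟩ := hi
    refine ⟨i0, hi0, τ.symm j, ?_, ?_⟩
    · intro hmem
      apply hj
      rw [Finset.mem_map]
      exact ⟨τ.symm j, hmem, by simp⟩
    · show T.a (τ i0) (τ (τ.symm j)) ≠ 0
      rw [Equiv.apply_symm_apply]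
      exact hij
  mulVec_m := by
    ext i
    have := nt_row T (τ i)
    rw [← Equiv.sum_comp τ] at this
    exact this
  w_dvd := fun i j => T.w_dvd _ _

/-- Minimal of genus one. -/
def NTGood (T : Models.NumericalType n) : Prop := T.IsMinimal ∧ T.genus = 1

theorem NTGood.relabel {T : Models.NumericalType n} (h : NTGood T) (τ : Equiv.Perm (Fin n)) :
    NTGood (ntRelabel T τ) := by
  refine ⟨fun i hi => h.1 (τ i) hi, ?_⟩
  rw [← h.2]
  unfold Models.NumericalType.genus
  have e1 : ∑ i, (ntRelabel T τ).m i * (ntRelabel T τ).w i * ((ntRelabel T τ).g i - 1) =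
      ∑ i, T.m i * T.w i * (T.g i - 1) :=
    Equiv.sum_comp τ (fun i => T.m i * T.w i * (T.g i - 1))
  have e2 : ∑ i, (ntRelabel T τ).m i * (ntRelabel T τ).a i i = ∑ i, T.m i * T.a i i :=
    Equiv.sum_comp τ (fun i => T.m i * T.a i i)
  rw [e1, e2]

theorem nt_a_eq (T : Models.NumericalType n) (i j : Fin n) :
    T.a i j = T.w i * T.picMatrix i j :=
  (Int.mul_ediv_cancel' (T.w_dvd i j)).symm

theorem ntRelabel_pic (T : Models.NumericalType n) (τ : Equiv.Perm (Fin n)) (i j : Fin n) :
    (ntRelabel T τ).picMatrix i j = T.picMatrix (τ i) (τ j) := rfl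

/-- All the data about the Cartan integers of a minimal numerical type of genus one. -/
theorem ntgood_data (T : Models.NumericalType n) (hn : 1 < n) (h : NTGood T) :
    (∀ i, T.g i = 0) ∧ (∀ i, T.a i i = -2 * T.w i) ∧ (∀ i, T.picMatrix i i = -2) ∧
    (∀ i j, i ≠ j → 0 ≤ T.picMatrix i j) ∧
    (∀ i, ∑ j, T.picMatrix i j * T.m j = 0) ∧
    (∀ i j, T.w i * T.picMatrix i j = T.w j * T.picMatrix j i) ∧
    (∀ i j, i ≠ j →
      (T.picMatrix i j = 0 ∧ T.picMatrix j i = 0) ∨ (T.picMatrix i j = 1 ∧ T.picMatrix j i = 1) ∨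
      (T.picMatrix i j = 1 ∧ T.picMatrix j i = 2) ∨ (T.picMatrix i j = 2 ∧ T.picMatrix j i = 1) ∨
      (T.picMatrix i j = 1 ∧ T.picMatrix j i = 3) ∨ (T.picMatrix i j = 3 ∧ T.picMatrix j i = 1) ∨
      (T.picMatrix i j = 1 ∧ T.picMatrix j i = 4) ∨ (T.picMatrix i j = 4 ∧ T.picMatrix j i = 1) ∨
      (T.picMatrix i j = 2 ∧ T.picMatrix j i = 2)) := by
  have hall := nt_all_minusTwo T hn h.1 h.2
  have hP : ∀ i j, T.a i j = T.w i * T.picMatrix i j := nt_a_eq T
  have hdiag : ∀ i, T.picMatrix i i = -2 := by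
    intro i
    have h1 := (hall i).2
    rw [hP i i] at h1
    have : T.w i * (T.picMatrix i i + 2) = 0 := by linarith
    rcases mul_eq_zero.mp this with h | h
    · exact absurd h (T.w_pos i).ne'
    · linarith
  have hrow : ∀ i, ∑ j, T.picMatrix i j * T.m j = 0 := by
    intro i
    have h1 := nt_row T i
    have h2 : T.w i * ∑ j, T.picMatrix i j * T.m j = 0 := by
      rw [Finset.mul_sum, ← h1]
      apply Finset.sum_congr rfl
      intro j _
      rw [hP i j]; ring
    rcases mul_eq_zero.mp h2 with h | h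
    · exact absurd h (T.w_pos i).ne'
    · exact h
  have hsym : ∀ i j, T.w i * T.picMatrix i j = T.w j * T.picMatrix j i := by
    intro i j
    rw [← hP i j, ← hP j i]; exact nt_symm T i j
  have hnonneg : ∀ i j, i ≠ j → 0 ≤ T.picMatrix i j := by
    intro i j hij
    have h1 := T.offDiag_nonneg i j hij
    rw [hP i j] at h1
    exact nonneg_of_mul_nonneg_right h1 (T.w_pos i)
  have hle : ∀ i j, i ≠ j → T.picMatrix i j * T.m j ≤ 2 * T.m i := by
    intro i j hij
    have h1 := hrow i
    rw [← Finset.add_sum_erase Finset.univ _ (Finset.mem_univ i), hdiag i] at h1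
    have h2 : T.picMatrix i j * T.m j ≤ ∑ x ∈ Finset.univ.erase i, T.picMatrix i x * T.m x := by
      apply Finset.single_le_sum (f := fun x => T.picMatrix i x * T.m x)
      · intro x hx
        exact mul_nonneg (hnonneg i x (Finset.ne_of_mem_erase hx).symm) (T.m_pos x).le
      · exact Finset.mem_erase.mpr ⟨hij.symm, Finset.mem_univ j⟩
    linarith
  refine ⟨fun i => (hall i).1, fun i => (hall i).2, hdiag, hnonneg, hrow, hsym, ?_⟩
  intro i j hij
  obtain ⟨p, hp⟩ : ∃ p, p = T.picMatrix i j := ⟨_, rfl⟩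
  obtain ⟨q, hq⟩ : ∃ q, q = T.picMatrix j i := ⟨_, rfl⟩
  have hp0 : 0 ≤ p := hp ▸ hnonneg i j hij
  have hq0 : 0 ≤ q := hq ▸ hnonneg j i hij.symm
  have h1 : p * T.m j ≤ 2 * T.m i := hp ▸ hle i j hij
  have h2 : q * T.m i ≤ 2 * T.m j := hq ▸ hle j i hij.symm
  have hs : T.w i * p = T.w j * q := by rw [hp, hq]; exact hsym i j
  have hmi := T.m_pos i
  have hmj := T.m_pos j
  have hwi := T.w_pos i
  have hwj := T.w_pos j
  rw [← hp, ← hq]
  have hpq0 : p = 0 ↔ q = 0 := by
    constructor
    · intro h0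
      rw [h0, mul_zero] at hs
      rcases mul_eq_zero.mp hs.symm with h | h
      · exact absurd h hwj.ne'
      · exact h
    · intro h0
      rw [h0, mul_zero] at hs
      rcases mul_eq_zero.mp hs with h | h
      · exact absurd h hwi.ne'
      · exact h
  have hpq : p * q ≤ 4 := by
    have h3 : (p * T.m j) * (q * T.m i) ≤ (2 * T.m i) * (2 * T.m j) :=
      mul_le_mul h1 h2 (mul_nonneg hq0 hmi.le) (by linarith)
    have h4 : (p * q) * (T.m i * T.m j) ≤ 4 * (T.m i * T.m j) := by linarith
    exact le_of_mul_le_mul_right h4 (mul_pos hmi hmj)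
  have hp4 : p ≤ 4 := by
    by_contra hcon
    push Not at hcon
    have hq1 : 1 ≤ q := by
      rcases hq0.lt_or_eq with h | h
      · linarith
      · exact absurd (hpq0.mpr h.symm) (by linarith)
    nlinarith
  have hq4 : q ≤ 4 := by
    by_contra hcon
    push Not at hcon
    have hp1 : 1 ≤ p := by
      rcases hp0.lt_or_eq with h | h
      · linarith
      · exact absurd (hpq0.mp h.symm) (by linarith)
    nlinarith
  clear hs h1 h2 hp hq
  interval_cases p <;> interval_cases q <;> simp_all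

/-- The explored part cannot be closed off unless everything is explored. -/
theorem nt_closed_false (T : Models.NumericalType n) (k : ℕ) (hk0 : 0 < k) (hkn : k < n)
    (h : ∀ a b : Fin n, a.val < k → k ≤ b.val → T.picMatrix a b = 0) : False := by
  classical
  have hne : (Finset.univ.filter fun i : Fin n => i.val < k).Nonempty :=
    ⟨⟨0, by omega⟩, Finset.mem_filter.mpr ⟨Finset.mem_univ _, hk0⟩⟩
  have hne' : (Finset.univ.filter fun i : Fin n => i.val < k) ≠ Finset.univ := by
    intro h'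
    have : (⟨k, hkn⟩ : Fin n) ∈ Finset.univ.filter fun i : Fin n => i.val < k := by
      rw [h']; exact Finset.mem_univ _
    rw [Finset.mem_filter] at this
    exact absurd this.2 (lt_irrefl _)
  obtain ⟨i, hi, j, hj, hij⟩ := T.connected _ hne hne'
  apply hij
  rw [nt_a_eq, h i j (Finset.mem_filter.mp hi).2, mul_zero]
  by_contra hcon
  push Not at hcon
  exact hj (Finset.mem_filter.mpr ⟨Finset.mem_univ _, hcon⟩)

/-- Closing one more vertex. -/
theorem nt_cl_succ (T : Models.NumericalType n) (k c : ℕ) (v : Fin n) (hv : v.val = c)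
    (cl : ∀ a b : Fin n, a.val < c → k ≤ b.val → T.picMatrix a b = 0)
    (hc : ∀ b : Fin n, k ≤ b.val → T.picMatrix v b = 0) :
    ∀ a b : Fin n, a.val < c + 1 → k ≤ b.val → T.picMatrix a b = 0 := by
  intro a b ha hb
  by_cases h : a.val < c
  · exact cl a b h hb
  · have : a = v := Fin.ext (by omega)
    rw [this]
    exact hc b hb

/-- The step "without loss of generality the next neighbour of `v` is the index `k`". -/
theorem nt_wlog_step (T : Models.NumericalType n) (k : ℕ) (hk : k < n) (c : ℕ) (hck : c ≤ k)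
    (v : Fin n) (hv : v.val < k)
    (cl : ∀ a b : Fin n, a.val < c → k ≤ b.val → T.picMatrix a b = 0)
    (hc : ¬ ∀ b : Fin n, k ≤ b.val → T.picMatrix v b = 0) :
    ∃ τ : Equiv.Perm (Fin n), (∀ a : Fin n, a.val < k → τ a = a) ∧
      (∀ a b : Fin n, a.val < c → k + 1 ≤ b.val → (ntRelabel T τ).picMatrix a b = 0) ∧
      (∀ a : Fin n, a.val < c → (ntRelabel T τ).picMatrix a ⟨k, hk⟩ = 0) ∧
      (ntRelabel T τ).picMatrix v ⟨k, hk⟩ ≠ 0 := by
  classical
  push Not at hc
  obtain ⟨j, hjk, hjne⟩ := hc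
  have hfix : ∀ a : Fin n, a.val < k → Equiv.swap j ⟨k, hk⟩ a = a := by
    intro a ha
    apply Equiv.swap_apply_of_ne_of_ne
    · intro h; rw [h] at ha; omega
    · intro h; rw [h] at ha; simp at ha
  have hge : ∀ b : Fin n, k + 1 ≤ b.val → k ≤ (Equiv.swap j ⟨k, hk⟩ b).val := by
    intro b hb
    by_cases h1 : b = j
    · rw [h1, Equiv.swap_apply_left]
    · have h2 : b ≠ ⟨k, hk⟩ := by
        intro h; rw [h] at hb; simp at hb
      rw [Equiv.swap_apply_of_ne_of_ne h1 h2]
      omega
  refine ⟨Equiv.swap j ⟨k, hk⟩, hfix, ?_, ?_, ?_⟩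
  · intro a b ha hb
    rw [ntRelabel_pic, hfix a (by omega)]
    exact cl a _ ha (hge b hb)
  · intro a ha
    rw [ntRelabel_pic, hfix a (by omega), Equiv.swap_apply_right]
    exact cl a j ha hjk
  · rw [ntRelabel_pic, hfix v hv, Equiv.swap_apply_right]
    exact hjne

/-- If `P i j = 0` then `P j i = 0`. -/
theorem nt_pic_zero_symm (T : Models.NumericalType n) (i j : Fin n)
    (h : T.picMatrix i j = 0) : T.picMatrix j i = 0 := by
  have h1 : T.a j i = 0 := by rw [nt_symm T j i, nt_a_eq, h, mul_zero]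
  rw [nt_a_eq] at h1
  rcases mul_eq_zero.mp h1 with h | h
  · exact absurd h (T.w_pos j).ne'
  · exact h

/-- Without loss of generality the index `0` has the largest multiplicity. -/
theorem nt_wlog_max (T : Models.NumericalType n) (h0 : 0 < n) :
    ∃ τ : Equiv.Perm (Fin n), ∀ j, (ntRelabel T τ).m j ≤ (ntRelabel T τ).m ⟨0, h0⟩ := by
  classical
  haveI : Nonempty (Fin n) := ⟨⟨0, h0⟩⟩
  obtain ⟨i0, hi0⟩ := Finite.exists_max T.m
  refine ⟨Equiv.swap ⟨0, h0⟩ i0, fun j => ?_⟩
  show T.m (Equiv.swap ⟨0, h0⟩ i0 j) ≤ T.m (Equiv.swap ⟨0, h0⟩ i0 ⟨0, h0⟩)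
  rw [Equiv.swap_apply_left]
  exact hi0 _

end Groth.Agent.Lib.helper4
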