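import Groth.Prelude.Def_Models
import Mathlib

/-!
# Numerical types: negative definiteness on proper subsets (helper4)
-/

set_option autoImplicit false

namespace Groth.Agent.Lib.helper4

open Finset

theorem nt_laplacian {n : ℕ} (B : Fin n → Fin n → ℚ) (hsym : ∀ i j, B i j = B j i)
    (hrow : ∀ i, ∑ j, B i j = 0) (z : Fin n → ℚ) :
    2 * ∑ i, ∑ j, B i j * z i * z j = - ∑ i, ∑ j, B i j * (z i - z j) ^ 2 := by
  have h1 : ∑ i, ∑ j, B i j * (z i) ^ 2 = 0 := by
    apply Finset.sum_eq_zero; intro i _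
    rw [← Finset.sum_mul, hrow, zero_mul]
  have h2 : ∑ i, ∑ j, B i j * (z j) ^ 2 = 0 := by
    rw [Finset.sum_comm]
    apply Finset.sum_eq_zero; intro j _
    have : ∑ i, B i j * z j ^ 2 = (∑ i, B j i) * z j ^ 2 := by
      rw [Finset.sum_mul]
      exact Finset.sum_congr rfl (fun i _ => by rw [hsym i j])
    rw [this, hrow, zero_mul]
  have h3 : ∑ i, ∑ j, B i j * (z i - z j) ^ 2 =
      ∑ i, ∑ j, B i j * z i ^ 2 + ∑ i, ∑ j, B i j * z j ^ 2 -
        2 * ∑ i, ∑ j, B i j * z i * z j := by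
    simp only [Finset.mul_sum, ← Finset.sum_add_distrib, ← Finset.sum_sub_distrib]
    exact Finset.sum_congr rfl (fun i _ => Finset.sum_congr rfl (fun j _ => by ring))
  rw [h3, h1, h2]; ring

variable {n : ℕ} (T : Models.NumericalType n)

theorem nt_row (i : Fin n) : ∑ j, T.a i j * T.m j = 0 := by
  have := congrFun T.mulVec_m i
  simpa [Matrix.mulVec, dotProduct] using this

theorem nt_symm (i j : Fin n) : T.a i j = T.a j i := T.symm.apply j i

/-- `w i ≤ a i j` for an edge. -/
theorem nt_edge_ge {i j : Fin n} (hij : i ≠ j) (h : T.a i j ≠ 0) : T.w i ≤ T.a i j :=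
  Int.le_of_dvd (lt_of_le_of_ne (T.offDiag_nonneg i j hij) (Ne.symm h)) (T.w_dvd i j)

theorem nt_edge_ge' {i j : Fin n} (hij : i ≠ j) (h : T.a i j ≠ 0) : T.w j ≤ T.a i j := by
  rw [nt_symm T i j]
  exact nt_edge_ge T (Ne.symm hij) (by rwa [← nt_symm T i j])

theorem nt_exists_neg (y : Fin n → ℤ) (hy0 : ∀ i, 0 ≤ y i) (hne : y ≠ 0) (k : Fin n)
    (hk : y k = 0) : ∃ i, 0 < y i ∧ ∑ j, T.a i j * y j < 0 := by
  by_contra hcon
  push Not at hcon
  let z : Fin n → ℚ := fun i => (y i : ℚ) / (T.m i : ℚ)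
  let B : Fin n → Fin n → ℚ := fun i j => (T.a i j : ℚ) * T.m i * T.m j
  have hm : ∀ i, (0:ℚ) < T.m i := fun i => by exact_mod_cast T.m_pos i
  have hBsym : ∀ i j, B i j = B j i := by
    intro i j; simp only [B]; rw [nt_symm T i j]; ring
  have hBrow : ∀ i, ∑ j, B i j = 0 := by
    intro i
    have h := nt_row T i
    have h' : ∑ j, (T.a i j : ℚ) * (T.m j : ℚ) = 0 := by exact_mod_cast h
    calc ∑ j, B i j = (T.m i : ℚ) * ∑ j, (T.a i j : ℚ) * (T.m j : ℚ) := by
          rw [Finset.mul_sum]; exact Finset.sum_congr rfl (fun j _ => by simp only [B]; ring)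
      _ = 0 := by rw [h', mul_zero]
  have hzm : ∀ i, (T.m i : ℚ) * z i = y i := by
    intro i
    have := (hm i).ne'
    simp only [z]
    field_simp
  have hQ : ∑ i, ∑ j, B i j * z i * z j =
      ∑ i, (y i : ℚ) * ∑ j, (T.a i j : ℚ) * (y j : ℚ) := by
    refine Finset.sum_congr rfl (fun i _ => ?_)
    rw [Finset.mul_sum]
    refine Finset.sum_congr rfl (fun j _ => ?_)
    calc B i j * z i * z j = (T.a i j : ℚ) * ((T.m i : ℚ) * z i) * ((T.m j : ℚ) * z j) := by
          simp only [B]; ring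
      _ = (y i : ℚ) * ((T.a i j : ℚ) * (y j : ℚ)) := by rw [hzm, hzm]; ring
  have hQnonneg : 0 ≤ ∑ i, ∑ j, B i j * z i * z j := by
    rw [hQ]
    apply Finset.sum_nonneg; intro i _
    rcases (hy0 i).eq_or_lt with h | h
    · rw [← h]; simp
    · have h1 := hcon i h
      have h2 : (0:ℚ) ≤ ∑ j, (T.a i j : ℚ) * (y j : ℚ) := by exact_mod_cast h1
      have h3 : (0:ℚ) < y i := by exact_mod_cast h
      exact mul_nonneg h3.le h2
  have hlap := nt_laplacian B hBsym hBrow z
  have hterm : ∀ i j, 0 ≤ B i j * (z i - z j) ^ 2 := by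
    intro i j
    by_cases hij : i = j
    · subst hij; simp
    · have h0 : 0 ≤ T.a i j := T.offDiag_nonneg i j hij
      have h1 : (0:ℚ) ≤ T.a i j := by exact_mod_cast h0
      have h2 : 0 ≤ B i j := by
        simp only [B]
        exact mul_nonneg (mul_nonneg h1 (hm i).le) (hm j).le
      exact mul_nonneg h2 (sq_nonneg _)
  have hsum0 : ∑ i, ∑ j, B i j * (z i - z j) ^ 2 = 0 := by
    have h1 : 0 ≤ ∑ i, ∑ j, B i j * (z i - z j) ^ 2 :=
      Finset.sum_nonneg (fun i _ => Finset.sum_nonneg (fun j _ => hterm i j))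
    linarith
  have hzero : ∀ i j, B i j * (z i - z j) ^ 2 = 0 := by
    intro i j
    have h1 := (Finset.sum_eq_zero_iff_of_nonneg
      (fun i _ => Finset.sum_nonneg (fun j _ => hterm i j))).mp hsum0 i (Finset.mem_univ i)
    exact (Finset.sum_eq_zero_iff_of_nonneg (fun j _ => hterm i j)).mp h1 j (Finset.mem_univ j)
  have hzk : z k = 0 := by simp only [z]; rw [hk]; simp
  have hz : ∀ i, z i = 0 := by
    by_contra hnot
    push Not at hnot
    obtain ⟨i0, hi0⟩ := hnot
    let I : Finset (Fin n) := Finset.univ.filter (fun i => z i = 0)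
    have hkI : k ∈ I := by simp only [I, Finset.mem_filter, Finset.mem_univ, true_and]; exact hzk
    have hIne : I ≠ Finset.univ := by
      intro h
      have : i0 ∈ I := h ▸ Finset.mem_univ i0
      simp only [I, Finset.mem_filter, Finset.mem_univ, true_and] at this
      exact hi0 this
    obtain ⟨i, hiI, j, hjI, hij⟩ := T.connected I ⟨k, hkI⟩ hIne
    have hzi : z i = 0 := by
      simpa only [I, Finset.mem_filter, Finset.mem_univ, true_and] using hiI
    have hzj : z j ≠ 0 := by
      simpa only [I, Finset.mem_filter, Finset.mem_univ, true_and] using hjI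
    have hB : B i j ≠ 0 := by
      simp only [B]
      have h1 : (T.a i j : ℚ) ≠ 0 := by exact_mod_cast hij
      exact mul_ne_zero (mul_ne_zero h1 (hm i).ne') (hm j).ne'
    rcases mul_eq_zero.mp (hzero i j) with h | h
    · exact hB h
    · have h5 : z i - z j = 0 := pow_eq_zero_iff (two_ne_zero) |>.mp h
      rw [hzi] at h5
      exact hzj (by linarith)
  apply hne
  funext i
  have h1 := hzm i
  rw [hz i, mul_zero] at h1
  have : (y i : ℚ) = 0 := h1.symm
  exact_mod_cast this

/-- restricted version along an embedding of a proper subset -/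
theorem nt_exists_neg_sub {t : ℕ} (v : Fin t ↪ Fin n) (ht : t < n) (c : Fin t → ℤ)
    (hc0 : ∀ p, 0 ≤ c p) (hne : c ≠ 0) :
    ∃ p, 0 < c p ∧ ∑ q, T.a (v p) (v q) * c q < 0 := by
  classical
  let y : Fin n → ℤ := Function.extend v c 0
  have hyv : ∀ p, y (v p) = c p := fun p => v.injective.extend_apply c 0 p
  have hyoff : ∀ j, (¬ ∃ q, v q = j) → y j = 0 := fun j hj => by
    simp only [y]; rw [Function.extend_apply' _ _ _ hj]; rfl
  have hy0 : ∀ i, 0 ≤ y i := by
    intro i
    by_cases h : ∃ q, v q = i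
    · obtain ⟨q, rfl⟩ := h; rw [hyv]; exact hc0 q
    · rw [hyoff i h]
  have hyne : y ≠ 0 := by
    intro h
    apply hne
    funext p
    have := congrFun h (v p)
    rw [hyv] at this
    exact this
  obtain ⟨k, hk⟩ : ∃ k, ¬ ∃ q, v q = k := by
    by_contra hall
    push Not at hall
    have hsurj : Function.Surjective v := hall
    have := Fintype.card_le_of_surjective v hsurj
    simp at this
    omega
  obtain ⟨i, hi, hlt⟩ := nt_exists_neg T y hy0 hyne k (hyoff k hk)
  have hex : ∃ p, v p = i := by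
    by_contra h
    rw [hyoff i h] at hi
    exact lt_irrefl _ hi
  obtain ⟨p, rfl⟩ := hex
  refine ⟨p, by rwa [hyv] at hi, ?_⟩
  have hsum : ∑ j, T.a (v p) j * y j = ∑ q, T.a (v p) (v q) * c q := by
    rw [← Finset.sum_subset (Finset.subset_univ (Finset.univ.map v))]
    · rw [Finset.sum_map]
      exact Finset.sum_congr rfl (fun q _ => by rw [hyv])
    · intro j _ hj
      have : ¬ ∃ q, v q = j := by simpa using hj
      rw [hyoff j this, mul_zero]
  rwa [hsum] at hlt

/-- No "affine" configuration on a proper subset of `(-2)`-indices: `κ` are lower bounds for the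
Cartan integers `a (v p) (v q) / w (v p)`. -/
theorem nt_no_affine {t : ℕ} (v : Fin t ↪ Fin n) (ht : t < n)
    (hv : ∀ p, T.IsMinusTwo (v p)) (κ : Fin t → Fin t → ℤ)
    (hκ : ∀ p q, p ≠ q → κ p q ≠ 0 → κ p q * T.w (v p) ≤ T.a (v p) (v q))
    (c : Fin t → ℤ) (hc0 : ∀ p, 0 ≤ c p) (hne : c ≠ 0)
    (hcond : ∀ p, 0 < c p → 2 * c p ≤ ∑ q ∈ Finset.univ.erase p, κ p q * c q) : False := by
  obtain ⟨p, hp, hlt⟩ := nt_exists_neg_sub T v ht c hc0 hne
  rw [← Finset.add_sum_erase Finset.univ _ (Finset.mem_univ p), (hv p).2] at hlt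
  have h1 : ∑ q ∈ Finset.univ.erase p, (κ p q * T.w (v p)) * c q ≤
      ∑ q ∈ Finset.univ.erase p, T.a (v p) (v q) * c q := by
    apply Finset.sum_le_sum
    intro q hq
    have hqp : p ≠ q := (Finset.ne_of_mem_erase hq).symm
    apply mul_le_mul_of_nonneg_right _ (hc0 q)
    by_cases hk : κ p q = 0
    · rw [hk, zero_mul]
      exact T.offDiag_nonneg _ _ (fun h => hqp (v.injective h))
    · exact hκ p q hqp hk
  have h2 : ∑ q ∈ Finset.univ.erase p, (κ p q * T.w (v p)) * c q =
      T.w (v p) * ∑ q ∈ Finset.univ.erase p, κ p q * c q := by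
    rw [Finset.mul_sum]
    exact Finset.sum_congr rfl (fun q _ => by ring)
  have h3 := hcond p hp
  have hw := T.w_pos (v p)
  nlinarith

/-- Row inequality on a subset. -/
theorem nt_row_le {t : ℕ} (v : Fin t ↪ Fin n) (p : Fin t) :
    ∑ q, T.a (v p) (v q) * T.m (v q) ≤ 0 := by
  classical
  have h := nt_row T (v p)
  have hsub : ∑ j ∈ Finset.univ.map v, T.a (v p) j * T.m j ≤ ∑ j, T.a (v p) j * T.m j := by
    apply Finset.sum_le_sum_of_subset_of_nonneg (Finset.subset_univ _)
    intro j _ hj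
    have hne : v p ≠ j := by
      intro h
      apply hj
      rw [← h]
      exact Finset.mem_map_of_mem v (Finset.mem_univ p)
    exact mul_nonneg (T.offDiag_nonneg _ _ hne) (T.m_pos j).le
  rw [Finset.sum_map] at hsub
  linarith

end Groth.Agent.Lib.helper4

namespace Groth.Agent.Lib.helper4

theorem nt_eq_of_dvd_lt {w a : ℤ} (hw : 0 < w) (hd : w ∣ a) (h1 : w ≤ a) (h2 : a < 2 * w) :
    a = w := by
  obtain ⟨k, rfl⟩ := hd
  have hk1 : 1 ≤ k := by
    by_contra h
    push Not at h
    have : k ≤ 0 := by omega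
    nlinarith
  have hk2 : k < 2 := by
    by_contra h
    push Not at h
    nlinarith
  have : k = 1 := by omega
  subst this
  ring

end Groth.Agent.Lib.helper4
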