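import Groth.Agent.Lib.helper4.NumType

/-!
# Numerical types: more arithmetic helpers (helper4)
-/

set_option autoImplicit false

namespace Groth.Agent.Lib.helper4

theorem nt_eq_two_of_dvd {w a : ℤ} (hw : 0 < w) (hd : w ∣ a) (h1 : 2 * w ≤ a) (h2 : a < 3 * w) :
    a = 2 * w := by
  obtain ⟨k, rfl⟩ := hd
  have hk1 : 2 ≤ k := by
    by_contra h
    push Not at h
    have : k ≤ 1 := by omega
    nlinarith
  have hk2 : k < 3 := by
    by_contra h
    push Not at h
    nlinarith
  have : k = 2 := by omega
  subst this
  ring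

end Groth.Agent.Lib.helper4
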