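import Groth.Agent.Lib.helper4.NumType2

/-!
# Numerical types: the diagonal is negative (helper4)
-/

set_option autoImplicit false

namespace Groth.Agent.Lib.helper4

open Finset

variable {n : ℕ} (T : Models.NumericalType n)

theorem nt_diag_neg (hn : 1 < n) (i : Fin n) : T.a i i < 0 := by
  classical
  have hne : ({i} : Finset (Fin n)) ≠ Finset.univ := by
    intro h
    have h1 : ({i} : Finset (Fin n)).card = (Finset.univ : Finset (Fin n)).card := by rw [h]
    simp at h1
    omega
  obtain ⟨i', hi', j, hj, hij⟩ := T.connected {i} ⟨i, Finset.mem_singleton_self i⟩ hne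
  have hi'eq : i' = i := Finset.mem_singleton.mp hi'
  subst hi'eq
  have hji : i' ≠ j := by
    intro h
    apply hj
    rw [← h]
    exact Finset.mem_singleton_self _
  have hpos : 0 < T.a i' j := lt_of_le_of_ne (T.offDiag_nonneg i' j hji) (Ne.symm hij)
  have hrow := nt_row T i'
  rw [← Finset.add_sum_erase Finset.univ _ (Finset.mem_univ i')] at hrow
  have hsum : T.a i' j * T.m j ≤ ∑ x ∈ Finset.univ.erase i', T.a i' x * T.m x := by
    apply Finset.single_le_sum (f := fun x => T.a i' x * T.m x)
    · intro x hx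
      exact mul_nonneg (T.offDiag_nonneg i' x (Finset.ne_of_mem_erase hx).symm) (T.m_pos x).le
    · exact Finset.mem_erase.mpr ⟨hji.symm, Finset.mem_univ j⟩
  have h1 : 0 < T.a i' j * T.m j := mul_pos hpos (T.m_pos j)
  have h2 : T.a i' i' * T.m i' < 0 := by linarith
  by_contra hcon
  push Not at hcon
  have := mul_nonneg hcon (T.m_pos i').le
  linarith

end Groth.Agent.Lib.helper4

namespace Groth.Agent.Lib.helper4

theorem h4_sum_ge_two {ι : Type*} [DecidableEq ι] (s : Finset ι) (f : ι → ℤ)
    (hf : ∀ i ∈ s, 0 ≤ f i) {a b : ι} (ha : a ∈ s) (hb : b ∈ s) (hab : a ≠ b) :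
    f a + f b ≤ ∑ i ∈ s, f i := by
  have hsub : ({a, b} : Finset ι) ⊆ s := by
    intro x hx
    simp only [Finset.mem_insert, Finset.mem_singleton] at hx
    rcases hx with rfl | rfl <;> assumption
  have h1 := Finset.sum_le_sum_of_subset_of_nonneg hsub (f := f) (fun i hi _ => hf i hi)
  rw [Finset.sum_insert (by simp [hab]), Finset.sum_singleton] at h1
  linarith

theorem h4_sum_ge_three {ι : Type*} [DecidableEq ι] (s : Finset ι) (f : ι → ℤ)
    (hf : ∀ i ∈ s, 0 ≤ f i) {a b c : ι} (ha : a ∈ s) (hb : b ∈ s) (hc : c ∈ s)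
    (hab : a ≠ b) (hac : a ≠ c) (hbc : b ≠ c) :
    f a + f b + f c ≤ ∑ i ∈ s, f i := by
  have hsub : ({a, b, c} : Finset ι) ⊆ s := by
    intro x hx
    simp only [Finset.mem_insert, Finset.mem_singleton] at hx
    rcases hx with rfl | rfl | rfl <;> assumption
  have h1 := Finset.sum_le_sum_of_subset_of_nonneg hsub (f := f) (fun i hi _ => hf i hi)
  rw [Finset.sum_insert (by simp [hab, hac]), Finset.sum_insert (by simp [hbc]),
    Finset.sum_singleton] at h1
  linarith

end Groth.Agent.Lib.helper4
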