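import Groth.Agent.Lib.helper4.NumType3
import Groth.Agent.S7316
import Groth.Agent.S7317

/-!
# Numerical types of genus one: Cartan data (helper4)
-/

set_option autoImplicit false

namespace Groth.Agent.Lib.helper4

open Finset

variable {n : ℕ} (T : Models.NumericalType n)

/-- In a minimal numerical type of genus one on more than one index, every index is a
`(-2)`-index. -/
theorem nt_all_minusTwo (hn : 1 < n) (hmin : T.IsMinimal) (hg : T.genus = 1) (i : Fin n) :
    T.IsMinusTwo i := by
  have hnn : ∀ i, 0 ≤ T.m i * (2 * T.w i * (T.g i - 1) - T.a i i) := by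
    intro i
    by_contra h
    push Not at h
    exact hmin i (Groth.Agent.S7316.result T hn i h)
  have hg' := hg
  unfold Models.NumericalType.genus at hg'
  have hdiv := Int.ediv_mul_le (∑ i, T.m i * T.a i i) (by norm_num : (2:ℤ) ≠ 0)
  have hsum : ∑ i, T.m i * (2 * T.w i * (T.g i - 1) - T.a i i) =
      2 * (∑ i, T.m i * T.w i * (T.g i - 1)) - ∑ i, T.m i * T.a i i := by
    rw [Finset.mul_sum, ← Finset.sum_sub_distrib]
    apply Finset.sum_congr rfl
    intro i _
    ring
  have hle : ∑ i, T.m i * (2 * T.w i * (T.g i - 1) - T.a i i) ≤ 0 := by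
    rw [hsum]; linarith
  have hzero : ∑ i, T.m i * (2 * T.w i * (T.g i - 1) - T.a i i) = 0 :=
    le_antisymm hle (Finset.sum_nonneg fun i _ => hnn i)
  have := (Finset.sum_eq_zero_iff_of_nonneg (fun i _ => hnn i)).mp hzero i (Finset.mem_univ i)
  exact Groth.Agent.S7317.result T hn i this

/-- Cartan data of a numerical type all of whose indices are `(-2)`-indices, with the
connectedness of the dual graph written as a linear inequality. -/
theorem nt_cartan2 (hall : ∀ i, T.IsMinusTwo i) :
    ∃ P : Fin n → Fin n → ℤ, (∀ i j, T.a i j = T.w i * P i j) ∧ (∀ i, P i i = -2) ∧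
      (∀ i j, i ≠ j → 0 ≤ P i j ∧ P i j ≤ 4) ∧ (∀ i, ∑ j, P i j * T.m j = 0) ∧
      (∀ i j, T.w i * P i j = T.w j * P j i) ∧
      (∀ f : Fin n → Bool, (∃ i, f i = true) → (∃ j, f j = false) →
        1 ≤ ∑ i, ∑ j, (if f i = true ∧ f j = false then P i j else 0)) := by
  choose P hP using T.w_dvd
  have hdiag : ∀ i, P i i = -2 := by
    intro i
    have h1 := (hall i).2
    rw [hP i i] at h1
    have : T.w i * (P i i + 2) = 0 := by linarith
    rcases mul_eq_zero.mp this with h | h
    · exact absurd h (T.w_pos i).ne'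
    · linarith
  have hrow : ∀ i, ∑ j, P i j * T.m j = 0 := by
    intro i
    have h1 := nt_row T i
    have h2 : T.w i * ∑ j, P i j * T.m j = 0 := by
      rw [Finset.mul_sum, ← h1]
      apply Finset.sum_congr rfl
      intro j _
      rw [hP i j]; ring
    rcases mul_eq_zero.mp h2 with h | h
    · exact absurd h (T.w_pos i).ne'
    · exact h
  have hsym : ∀ i j, T.w i * P i j = T.w j * P j i := by
    intro i j
    rw [← hP i j, ← hP j i]; exact nt_symm T i j
  have hnonneg : ∀ i j, i ≠ j → 0 ≤ P i j := by
    intro i j hij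
    have h1 := T.offDiag_nonneg i j hij
    rw [hP i j] at h1
    exact nonneg_of_mul_nonneg_right h1 (T.w_pos i)
  -- from the row: `P i j * m j ≤ 2 * m i`
  have hle : ∀ i j, i ≠ j → P i j * T.m j ≤ 2 * T.m i := by
    intro i j hij
    have h1 := hrow i
    rw [← Finset.add_sum_erase Finset.univ _ (Finset.mem_univ i), hdiag i] at h1
    have h2 : P i j * T.m j ≤ ∑ x ∈ Finset.univ.erase i, P i x * T.m x := by
      apply Finset.single_le_sum (f := fun x => P i x * T.m x)
      · intro x hx
        exact mul_nonneg (hnonneg i x (Finset.ne_of_mem_erase hx).symm) (T.m_pos x).le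
      · exact Finset.mem_erase.mpr ⟨hij.symm, Finset.mem_univ j⟩
    linarith
  refine ⟨P, hP, hdiag, fun i j hij => ⟨hnonneg i j hij, ?_⟩, hrow, hsym, ?_⟩
  swap
  · intro f ⟨i₀, hi₀⟩ ⟨j₀, hj₀⟩
    classical
    have hne : (Finset.univ.filter fun i => f i = true).Nonempty :=
      ⟨i₀, Finset.mem_filter.mpr ⟨Finset.mem_univ _, hi₀⟩⟩
    have hne' : (Finset.univ.filter fun i => f i = true) ≠ Finset.univ := by
      intro h
      have : j₀ ∈ Finset.univ.filter fun i => f i = true := by rw [h]; exact Finset.mem_univ _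
      rw [Finset.mem_filter] at this
      rw [hj₀] at this
      exact absurd this.2 (by decide)
    obtain ⟨i, hi, j, hj, hij⟩ := T.connected _ hne hne'
    have hfi : f i = true := (Finset.mem_filter.mp hi).2
    have hfj : f j = false := by
      by_contra h
      apply hj
      rw [Finset.mem_filter]
      exact ⟨Finset.mem_univ _, by simpa using h⟩
    have hij' : i ≠ j := by
      rintro rfl
      rw [hfi] at hfj
      exact absurd hfj (by decide)
    have hPij : 1 ≤ P i j := by
      have h0 := hnonneg i j hij'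
      have : P i j ≠ 0 := by
        intro h
        apply hij
        rw [hP i j, h, mul_zero]
      omega
    have hterm : ∀ a b, 0 ≤ (if f a = true ∧ f b = false then P a b else 0) := by
      intro a b
      split_ifs with h
      · apply hnonneg
        rintro rfl
        rw [h.1] at h
        exact absurd h.2 (by decide)
      · exact le_refl _
    calc (1 : ℤ) ≤ P i j := hPij
      _ = (if f i = true ∧ f j = false then P i j else 0) := by rw [if_pos ⟨hfi, hfj⟩]
      _ ≤ ∑ b, (if f i = true ∧ f b = false then P i b else 0) :=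
          Finset.single_le_sum (f := fun b => if f i = true ∧ f b = false then P i b else 0)
            (fun b _ => hterm i b) (Finset.mem_univ j)
      _ ≤ ∑ a, ∑ b, (if f a = true ∧ f b = false then P a b else 0) :=
          Finset.single_le_sum
            (f := fun a => ∑ b, if f a = true ∧ f b = false then P a b else 0)
            (fun a _ => Finset.sum_nonneg fun b _ => hterm a b) (Finset.mem_univ i)
  by_contra hcon
  push Not at hcon
  have hji : 0 < P j i := by
    have h1 := hsym i j
    have h2 : 0 < T.w i * P i j := mul_pos (T.w_pos i) (by linarith)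
    rw [h1] at h2
    exact pos_of_mul_pos_right h2 (T.w_pos j).le |> fun h => by
      rcases lt_or_ge 0 (P j i) with h' | h'
      · exact h'
      · exact absurd h2 (not_lt.mpr (mul_nonpos_of_nonneg_of_nonpos (T.w_pos j).le h'))
  have h1 := hle i j hij
  have h2 := hle j i hij.symm
  have hmi := T.m_pos i
  have hmj := T.m_pos j
  -- m i ≤ P j i * m i ≤ 2 m j ; 5 m j ≤ P i j * m j ≤ 2 m i ≤ 4 m j
  have h3 : T.m i ≤ P j i * T.m i := by nlinarith
  have h4 : 5 * T.m j ≤ P i j * T.m j := by nlinarith
  linarith

/-- Cartan data of a numerical type all of whose indices are `(-2)`-indices. -/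
theorem nt_cartan (hall : ∀ i, T.IsMinusTwo i) :
    ∃ P : Fin n → Fin n → ℤ, (∀ i j, T.a i j = T.w i * P i j) ∧ (∀ i, P i i = -2) ∧
      (∀ i j, i ≠ j → 0 ≤ P i j ∧ P i j ≤ 4) ∧ (∀ i, ∑ j, P i j * T.m j = 0) ∧
      (∀ i j, T.w i * P i j = T.w j * P j i) := by
  obtain ⟨P, h1, h2, h3, h4, h5, _⟩ := nt_cartan2 T hall
  exact ⟨P, h1, h2, h3, h4, h5⟩

end Groth.Agent.Lib.helper4
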