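import Mathlib

/-!
# p-linear endomorphisms over an algebraically closed field, part 1 (helper4)

Basics on iterates, the nilpotent subspace, independence of fixed vectors, disjointness.
-/

set_option autoImplicit false

namespace Groth.Agent.Lib.helper4.PLin

universe u

variable {k : Type u} [Field k] {p : ℕ} [Fact p.Prime] [CharP k p]
variable {V : Type u} [AddCommGroup V] [Module k V]

theorem Fs_smul (Fs : V →ₛₗ[frobenius k p] V) (a : k) (v : V) : Fs (a • v) = a ^ p • Fs v := by
  rw [map_smulₛₗ, frobenius_def]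

theorem iter_smul (Fs : V →ₛₗ[frobenius k p] V) (m : ℕ) (a : k) (v : V) :
    Fs^[m] (a • v) = a ^ (p ^ m) • Fs^[m] v := by
  induction m with
  | zero => simp
  | succ m ih =>
    rw [Function.iterate_succ_apply', Function.iterate_succ_apply', ih, Fs_smul, ← pow_mul,
      pow_succ]

theorem iter_add (Fs : V →ₛₗ[frobenius k p] V) (m : ℕ) (v w : V) :
    Fs^[m] (v + w) = Fs^[m] v + Fs^[m] w := by
  induction m with
  | zero => simp
  | succ m ih =>
    rw [Function.iterate_succ_apply', Function.iterate_succ_apply', Function.iterate_succ_apply',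
      ih, map_add]

theorem iter_zero (Fs : V →ₛₗ[frobenius k p] V) (m : ℕ) : Fs^[m] (0 : V) = 0 := by
  induction m with
  | zero => simp
  | succ m ih => rw [Function.iterate_succ_apply', ih, map_zero]

theorem iter_neg (Fs : V →ₛₗ[frobenius k p] V) (m : ℕ) (v : V) : Fs^[m] (-v) = -Fs^[m] v := by
  induction m with
  | zero => simp
  | succ m ih =>
    rw [Function.iterate_succ_apply', Function.iterate_succ_apply', ih, map_neg]

theorem iter_sub (Fs : V →ₛₗ[frobenius k p] V) (m : ℕ) (v w : V) :
    Fs^[m] (v - w) = Fs^[m] v - Fs^[m] w := by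
  rw [sub_eq_add_neg, iter_add, iter_neg, ← sub_eq_add_neg]

theorem iter_sum (Fs : V →ₛₗ[frobenius k p] V) (m : ℕ) {ι : Type*} (s : Finset ι) (g : ι → V) :
    Fs^[m] (∑ i ∈ s, g i) = ∑ i ∈ s, Fs^[m] (g i) := by
  induction m with
  | zero => simp
  | succ m ih =>
    rw [Function.iterate_succ_apply', ih, map_sum]
    exact Finset.sum_congr rfl (fun i _ => (Function.iterate_succ_apply' _ _ _).symm)

/-- the vectors killed by some iterate form a subspace -/
def NilSub (Fs : V →ₛₗ[frobenius k p] V) : Submodule k V where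
  carrier := {v | ∃ m : ℕ, Fs^[m] v = 0}
  zero_mem' := ⟨0, rfl⟩
  add_mem' := by
    rintro v w ⟨m, hm⟩ ⟨m', hm'⟩
    refine ⟨m + m', ?_⟩
    have h1 : Fs^[m + m'] v = 0 := by
      rw [add_comm, Function.iterate_add_apply, hm, iter_zero]
    have h2 : Fs^[m + m'] w = 0 := by
      rw [Function.iterate_add_apply, hm', iter_zero]
    rw [iter_add, h1, h2, add_zero]
  smul_mem' := by
    rintro a v ⟨m, hm⟩
    exact ⟨m, by rw [iter_smul, hm, smul_zero]⟩

theorem mem_NilSub (Fs : V →ₛₗ[frobenius k p] V) (v : V) :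
    v ∈ NilSub Fs ↔ ∃ m : ℕ, Fs^[m] v = 0 := Iff.rfl

theorem exists_int_of_pow_eq (a : k) (h : a ^ p = a) : ∃ n : ℤ, (n : k) = a :=
  (mem_bot_iff_intCast p k).mp ((Subfield.mem_bot_iff_pow_eq_self k p).mpr h)

theorem fixed_li' (Fs : V →ₛₗ[frobenius k p] V) (s : Finset V) :
    (∀ v ∈ s, Fs v = v) →
    (∀ c : V → ℤ, ∑ v ∈ s, c v • v = 0 → ∀ v ∈ s, (p : ℤ) ∣ c v) →
    LinearIndepOn k id (s : Set V) := by
  classical
  induction s using Finset.induction_on with
  | empty =>
    intro _ _
    rw [Finset.coe_empty]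
    exact linearIndepOn_empty k id
  | insert a s ha ih =>
    intro hfix hind
    have hs_fix : ∀ v ∈ s, Fs v = v := fun v hv => hfix v (Finset.mem_insert_of_mem hv)
    have hs_ind : ∀ c : V → ℤ, ∑ v ∈ s, c v • v = 0 → ∀ v ∈ s, (p : ℤ) ∣ c v := by
      intro c hc v hv
      have hva : v ≠ a := fun h => ha (h ▸ hv)
      have := hind (fun w => if w = a then 0 else c w) (by
        rw [Finset.sum_insert ha, if_pos rfl, zero_smul, zero_add, ← hc]
        refine Finset.sum_congr rfl (fun w hw => ?_)
        rw [if_neg (fun h : w = a => ha (h ▸ hw))]) v (Finset.mem_insert_of_mem hv)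
      simpa [hva] using this
    have hli := ih hs_fix hs_ind
    rw [Finset.coe_insert, linearIndepOn_id_insert (by simpa using ha)]
    refine ⟨hli, fun hmem => ?_⟩
    obtain ⟨b, -, hb⟩ := Submodule.mem_span_finset.mp hmem
    have hFa : Fs a = a := hfix a (Finset.mem_insert_self a s)
    have h1 : ∑ v ∈ s, (b v) ^ p • v = a := by
      rw [← hFa, ← hb, map_sum]
      refine (Finset.sum_congr rfl (fun v hv => ?_)).symm
      rw [Fs_smul, hs_fix v hv]
    have h2 : ∑ v ∈ s, ((b v) ^ p - b v) • id v = 0 := by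
      simp only [sub_smul, Finset.sum_sub_distrib, id]
      rw [h1, hb, sub_self]
    have h3 := linearIndepOn_finset_iff.mp hli _ h2
    have h4 : ∀ v ∈ s, ∃ n : ℤ, (n : k) = b v := fun v hv =>
      exists_int_of_pow_eq (p := p) (b v) (sub_eq_zero.mp (h3 v hv))
    choose! c hc using h4
    have := hind (fun w => if w = a then 1 else -c w) (by
      rw [Finset.sum_insert ha, if_pos rfl, one_smul]
      have : ∑ w ∈ s, (if w = a then (1 : ℤ) else -c w) • w = -a := by
        have hb' : -a = -(∑ w ∈ s, b w • w) := by rw [hb]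
        rw [hb', ← Finset.sum_neg_distrib]
        refine Finset.sum_congr rfl (fun w hw => ?_)
        rw [if_neg (fun h : w = a => ha (h ▸ hw)), neg_smul, ← Int.cast_smul_eq_zsmul k, hc w hw]
      rw [this, add_neg_cancel]) a (Finset.mem_insert_self a s)
    simp only [if_pos] at this
    have hp1 : 1 < p := (Fact.out : p.Prime).one_lt
    have := Int.le_of_dvd one_pos this
    omega

theorem disjoint_fix_nil (Fs : V →ₛₗ[frobenius k p] V) :
    Disjoint (Submodule.span k {v : V | Fs v = v}) (NilSub Fs) := by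
  classical
  rw [Submodule.disjoint_def]
  rintro v hv0 ⟨m, hm⟩
  obtain ⟨b, hbsub, hbspan, hbli⟩ := exists_linearIndependent k {v : V | Fs v = v}
  rw [← hbspan] at hv0
  obtain ⟨c, hcsub, hcsum⟩ := Submodule.mem_span_set.mp hv0
  have h1 : ∑ x ∈ c.support, (c x) ^ (p ^ m) • id x = 0 := by
    rw [← hm, ← hcsum, Finsupp.sum, iter_sum]
    refine Finset.sum_congr rfl (fun x hx => ?_)
    rw [iter_smul, Function.iterate_fixed (hbsub (hcsub hx)), id]
  have hli : LinearIndepOn k id (c.support : Set V) := LinearIndepOn.mono hbli hcsub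
  have h2 := linearIndepOn_finset_iff.mp hli _ h1
  have h3 : c.support = ∅ := by
    refine Finset.eq_empty_of_forall_notMem (fun x hx => ?_)
    have := h2 x hx
    exact (Finsupp.mem_support_iff.mp hx) (pow_eq_zero_iff (pow_pos (Fact.out : p.Prime).pos m).ne' |>.mp this)
  rw [← hcsum, Finsupp.sum, h3, Finset.sum_empty]

end Groth.Agent.Lib.helper4.PLin
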