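import Groth.Agent.Lib.helper4.PLin1

/-!
# p-linear endomorphisms, part 2: existence of a nonzero fixed vector (helper4)
-/

set_option autoImplicit false

namespace Groth.Agent.Lib.helper4.PLin

universe u

open Polynomial

variable {k : Type u} [Field k] {p : ℕ} [Fact p.Prime] [CharP k p]
variable {V : Type u} [AddCommGroup V] [Module k V]

/-- the recursively defined polynomials -/
noncomputable def Qpoly (p : ℕ) (a : ℕ → k) : ℕ → k[X]
  | 0 => C (a 0) * X ^ p
  | (i + 1) => (Qpoly p a i) ^ p + C (a (i + 1)) * X ^ p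

theorem Qpoly_zero (a : ℕ → k) : Qpoly p a 0 = C (a 0) * X ^ p := rfl

theorem Qpoly_succ (a : ℕ → k) (i : ℕ) :
    Qpoly p a (i + 1) = (Qpoly p a i) ^ p + C (a (i + 1)) * X ^ p := rfl

theorem X_pow_dvd_Qpoly (a : ℕ → k) (i : ℕ) : (X : k[X]) ^ p ∣ Qpoly p a i := by
  induction i with
  | zero => exact Dvd.intro_left _ rfl
  | succ i ih =>
    rw [Qpoly_succ]
    refine dvd_add ?_ (Dvd.intro_left _ rfl)
    exact dvd_trans ih (dvd_pow_self _ (Fact.out : p.Prime).ne_zero)

theorem Qpoly_ne_zero (a : ℕ → k) (i : ℕ) (h : ∃ j ≤ i, a j ≠ 0) : Qpoly p a i ≠ 0 := by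
  induction i with
  | zero =>
    obtain ⟨j, hj, hne⟩ := h
    have : j = 0 := by omega
    subst this
    rw [Qpoly_zero]
    exact mul_ne_zero (C_ne_zero.mpr hne) (pow_ne_zero _ X_ne_zero)
  | succ i ih =>
    rw [Qpoly_succ]
    by_cases hQ : Qpoly p a i = 0
    · have hall : ¬ ∃ j ≤ i, a j ≠ 0 := fun h' => ih h' hQ
      obtain ⟨j, hj, hne⟩ := h
      have : j = i + 1 := by
        by_contra hji
        exact hall ⟨j, by omega, hne⟩
      subst this
      rw [hQ, zero_pow (Fact.out : p.Prime).ne_zero, zero_add]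
      exact mul_ne_zero (C_ne_zero.mpr hne) (pow_ne_zero _ X_ne_zero)
    · intro h0
      obtain ⟨G, hG⟩ := X_pow_dvd_Qpoly (p := p) a i
      have hG0 : G ≠ 0 := by rintro rfl; exact hQ (by rw [hG, mul_zero])
      have hp2 : 2 ≤ p := (Fact.out : p.Prime).two_le
      have hd1 : (Qpoly p a i).natDegree = p + G.natDegree := by
        rw [hG, natDegree_mul (pow_ne_zero _ X_ne_zero) hG0, natDegree_X_pow]
      have hd2 : ((Qpoly p a i) ^ p).natDegree = p * (p + G.natDegree) := by
        rw [natDegree_pow, hd1]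
      have hd3 : (C (a (i + 1)) * (X : k[X]) ^ p).natDegree ≤ p := natDegree_C_mul_X_pow_le _ _
      have hd4 : ((Qpoly p a i) ^ p).natDegree = (C (a (i + 1)) * (X : k[X]) ^ p).natDegree := by
        have := eq_neg_of_add_eq_zero_left h0
        rw [this, natDegree_neg]
      nlinarith

theorem exists_root_Qpoly [IsAlgClosed k] (a : ℕ → k) (i : ℕ) (h : ∃ j ≤ i, a j ≠ 0) :
    ∃ t : k, t ≠ 0 ∧ (Qpoly p a i).eval t = t := by
  obtain ⟨G, hG⟩ := X_pow_dvd_Qpoly (p := p) a i
  have hG0 : G ≠ 0 := by rintro rfl; exact Qpoly_ne_zero a i h (by rw [hG, mul_zero])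
  have hp2 : 2 ≤ p := (Fact.out : p.Prime).two_le
  have hnd : ((X : k[X]) ^ (p - 1) * G).natDegree = p - 1 + G.natDegree := by
    rw [natDegree_mul (pow_ne_zero _ X_ne_zero) hG0, natDegree_X_pow]
  have hnd2 : ((X : k[X]) ^ (p - 1) * G - 1).natDegree = p - 1 + G.natDegree := by
    rw [natDegree_sub_eq_left_of_natDegree_lt, hnd]
    rw [natDegree_one, hnd]; omega
  have hdeg : ((X : k[X]) ^ (p - 1) * G - 1).degree ≠ 0 := by
    have : 0 < ((X : k[X]) ^ (p - 1) * G - 1).natDegree := by rw [hnd2]; omega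
    exact (natDegree_pos_iff_degree_pos.mp this).ne'
  obtain ⟨t, ht⟩ := IsAlgClosed.exists_root _ hdeg
  rw [IsRoot.def, eval_sub, eval_mul, eval_pow, eval_X, eval_one, sub_eq_zero] at ht
  have ht0 : t ≠ 0 := by
    rintro rfl
    rw [zero_pow (by omega), zero_mul] at ht
    exact zero_ne_one ht
  refine ⟨t, ht0, ?_⟩
  rw [hG, eval_mul, eval_pow, eval_X]
  have : t ^ p = t * t ^ (p - 1) := by rw [← pow_succ', Nat.sub_add_cancel (by omega)]
  rw [this, mul_assoc, ht, mul_one]

/-- span of the first `r` vectors of a sequence -/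
def Sspan (k : Type u) [Field k] {V : Type u} [AddCommGroup V] [Module k V] (u : ℕ → V) (r : ℕ) :
    Submodule k V :=
  Submodule.span k (Set.range (fun i : Fin r => u i))

theorem exists_first_dependent [FiniteDimensional k V] (u : ℕ → V) :
    ∃ r, u r ∈ Sspan k u r ∧ ∀ j < r, u j ∉ Sspan k u j := by
  classical
  have hS_mono : ∀ r, Sspan k u r ≤ Sspan k u (r + 1) := fun r =>
    Submodule.span_mono (by rintro _ ⟨i, rfl⟩; exact ⟨⟨i, by omega⟩, rfl⟩)
  have hS_mem : ∀ r, u r ∈ Sspan k u (r + 1) := fun r =>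
    Submodule.subset_span ⟨⟨r, Nat.lt_succ_self r⟩, rfl⟩
  have hex : ∃ r, u r ∈ Sspan k u r := by
    by_contra hno
    push_neg at hno
    have hlt : ∀ r, Sspan k u r < Sspan k u (r + 1) := fun r =>
      lt_of_le_of_ne (hS_mono r) (fun h => hno r (h ▸ hS_mem r))
    have hrank : ∀ r, r ≤ Module.finrank k (Sspan k u r) := by
      intro r
      induction r with
      | zero => exact Nat.zero_le _
      | succ r ih =>
        have := Submodule.finrank_lt_finrank_of_lt (hlt r)
        omega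
    have h1 := hrank (Module.finrank k V + 1)
    have h2 := Submodule.finrank_le (Sspan k u (Module.finrank k V + 1))
    omega
  exact ⟨Nat.find hex, Nat.find_spec hex, fun j hj => Nat.find_min hex hj⟩

theorem exists_fixed [IsAlgClosed k] [FiniteDimensional k V] (Fs : V →ₛₗ[frobenius k p] V)
    (w : V) (hw : ∀ m : ℕ, Fs^[m] w ≠ 0) : ∃ x : V, x ≠ 0 ∧ Fs x = x := by
  classical
  obtain ⟨u, hu⟩ : ∃ u : ℕ → V, u = fun i => Fs^[i] w := ⟨_, rfl⟩
  have hu_succ : ∀ i, Fs (u i) = u (i + 1) := fun i => by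
    rw [hu]; exact (Function.iterate_succ_apply' _ _ _).symm
  have hun0 : ∀ m, u m ≠ 0 := fun m => by rw [hu]; exact hw m
  obtain ⟨r, hr, hrmin⟩ := exists_first_dependent (k := k) u
  have hr0 : r ≠ 0 := by
    rintro rfl
    have hS0 : Sspan k u 0 = ⊥ := by
      unfold Sspan
      rw [Set.range_eq_empty, Submodule.span_empty]
    rw [hS0, Submodule.mem_bot] at hr
    exact hun0 0 hr
  obtain ⟨r', rfl⟩ := Nat.exists_eq_succ_of_ne_zero hr0
  obtain ⟨c, hc⟩ := (Submodule.mem_span_range_iff_exists_fun k).mp hr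
  obtain ⟨a, ha⟩ : ∃ a : ℕ → k, ∑ i ∈ Finset.range (r' + 1), a i • u i = u (r' + 1) := by
    refine ⟨fun i => if h : i < r' + 1 then c ⟨i, h⟩ else 0, ?_⟩
    rw [← hc, Finset.sum_fin_eq_sum_range]
    refine Finset.sum_congr rfl (fun i hi => ?_)
    have hi' := Finset.mem_range.mp hi
    simp only [dif_pos hi']
  have hane : ∃ j ≤ r', a j ≠ 0 := by
    by_contra hall
    push_neg at hall
    apply hun0 (r' + 1)
    rw [← ha]
    exact Finset.sum_eq_zero (fun i hi => by
      rw [hall i (by have := Finset.mem_range.mp hi; omega), zero_smul])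
  obtain ⟨t, ht0, ht⟩ := exists_root_Qpoly (p := p) a r' hane
  obtain ⟨q, hq⟩ : ∃ q : ℕ → k, q = fun i => (Qpoly p a i).eval t := ⟨_, rfl⟩
  have hq0 : q 0 = a 0 * t ^ p := by
    rw [hq]; simp [Qpoly_zero]
  have hqs : ∀ i, q (i + 1) = (q i) ^ p + a (i + 1) * t ^ p := fun i => by
    rw [hq]; simp [Qpoly_succ]
  have hqr : q r' = t := by rw [hq]; exact ht
  refine ⟨∑ i ∈ Finset.range (r' + 1), q i • u i, ?_, ?_⟩
  · intro hx0
    rw [Finset.sum_range_succ, hqr] at hx0
    have hsum_mem : ∑ i ∈ Finset.range r', q i • u i ∈ Sspan k u r' :=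
      Submodule.sum_mem _ (fun i hi => Submodule.smul_mem _ _
        (Submodule.subset_span ⟨⟨i, Finset.mem_range.mp hi⟩, rfl⟩))
    have h2 : t • u r' = -∑ i ∈ Finset.range r', q i • u i := eq_neg_of_add_eq_zero_right hx0
    have h3 : u r' = t⁻¹ • (t • u r') := by rw [smul_smul, inv_mul_cancel₀ ht0, one_smul]
    apply hrmin r' (Nat.lt_succ_self r')
    rw [h3, h2]
    exact Submodule.smul_mem _ _ (Submodule.neg_mem _ hsum_mem)
  · have hFx : Fs (∑ i ∈ Finset.range (r' + 1), q i • u i) =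
        ∑ i ∈ Finset.range (r' + 1), (q i) ^ p • u (i + 1) := by
      rw [map_sum]
      exact Finset.sum_congr rfl (fun i _ => by rw [Fs_smul, hu_succ])
    have hur : u (r' + 1) = ∑ i ∈ Finset.range r', a (i + 1) • u (i + 1) + a 0 • u 0 := by
      rw [← ha, Finset.sum_range_succ']
    rw [hFx, Finset.sum_range_succ, hqr, hur, Finset.sum_range_succ', hq0]
    simp only [hqs, add_smul, Finset.sum_add_distrib, smul_add, Finset.smul_sum, smul_smul]
    have e1 : ∀ i, t ^ p * a (i + 1) = a (i + 1) * t ^ p := fun i => mul_comm _ _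
    simp only [e1, mul_comm (t ^ p) (a 0)]
    abel

end Groth.Agent.Lib.helper4.PLin
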