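import Groth.Agent.Lib.helper4.PLin2

/-!
# p-linear endomorphisms, part 3: the fixed span and the nilpotent part are complementary (helper4)
-/

set_option autoImplicit false

namespace Groth.Agent.Lib.helper4.PLin

universe u

open Polynomial

variable {k : Type u} [Field k] [IsAlgClosed k] {p : ℕ} [Fact p.Prime] [CharP k p]

omit [CharP k p] in
theorem exists_root_AS (a : k) : ∃ t : k, t ^ p - (t - a) = 0 := by
  have hp2 : 2 ≤ p := (Fact.out : p.Prime).two_le
  have hnd : ((X : k[X]) ^ p - (X - C a)).natDegree = p := by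
    rw [natDegree_sub_eq_left_of_natDegree_lt, natDegree_X_pow]
    rw [natDegree_X_sub_C, natDegree_X_pow]; omega
  have hdeg : ((X : k[X]) ^ p - (X - C a)).degree ≠ 0 := by
    have : 0 < ((X : k[X]) ^ p - (X - C a)).natDegree := by rw [hnd]; omega
    exact (natDegree_pos_iff_degree_pos.mp this).ne'
  obtain ⟨t, ht⟩ := IsAlgClosed.exists_root _ hdeg
  refine ⟨t, ?_⟩
  simpa [IsRoot.def] using ht

theorem iter_mapQ {V : Type u} [AddCommGroup V] [Module k V] (Fs : V →ₛₗ[frobenius k p] V)
    (L : Submodule k V) (hL : L ≤ L.comap Fs) (m : ℕ) (y : V) :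
    (Submodule.mapQ L L Fs hL)^[m] (Submodule.Quotient.mk y) =
      Submodule.Quotient.mk (Fs^[m] y) := by
  induction m with
  | zero => rfl
  | succ m ih =>
    rw [Function.iterate_succ_apply', ih, Submodule.mapQ_apply, Function.iterate_succ_apply']

theorem codisjoint_aux : ∀ (n : ℕ) (V : Type u) [AddCommGroup V] [Module k V]
    [FiniteDimensional k V] (Fs : V →ₛₗ[frobenius k p] V), Module.finrank k V = n →
    Submodule.span k {v : V | Fs v = v} ⊔ NilSub Fs = ⊤ := by
  intro n
  induction n using Nat.strong_induction_on with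
  | _ n ih =>
    intro V _ _ _ Fs hn
    by_cases hnil : ∀ w : V, ∃ m : ℕ, Fs^[m] w = 0
    · have : NilSub Fs = ⊤ := eq_top_iff.mpr (fun w _ => hnil w)
      rw [this, sup_top_eq]
    · push Not at hnil
      obtain ⟨w, hw⟩ := hnil
      obtain ⟨x, hx0, hx⟩ := exists_fixed Fs w hw
      obtain ⟨L, hLdef⟩ : ∃ L : Submodule k V, L = Submodule.span k {x} := ⟨_, rfl⟩
      have hxL : x ∈ L := by rw [hLdef]; exact Submodule.mem_span_singleton_self x
      have hL : L ≤ L.comap Fs := by
        intro y hy
        rw [hLdef] at hy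
        obtain ⟨a, rfl⟩ := Submodule.mem_span_singleton.mp hy
        rw [Submodule.mem_comap, Fs_smul, hx]
        exact Submodule.smul_mem _ _ hxL
      have hLfix : L ≤ Submodule.span k {v : V | Fs v = v} := by
        rw [hLdef]
        exact Submodule.span_mono (by rintro _ rfl; exact hx)
      have hLmem : ∀ y ∈ L, ∃ a : k, a • x = y := fun y hy => by
        rw [hLdef] at hy; exact Submodule.mem_span_singleton.mp hy
      have hrank : Module.finrank k (V ⧸ L) < n := by
        have h1 := Submodule.finrank_quotient_add_finrank L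
        have h2 : Module.finrank k L = 1 := by rw [hLdef]; exact finrank_span_singleton hx0
        omega
      have IH := ih _ hrank (V ⧸ L) (Submodule.mapQ L L Fs hL) rfl
      have lift1 : ∀ y' ∈ Submodule.span k {v : V ⧸ L | Submodule.mapQ L L Fs hL v = v},
          ∃ y ∈ Submodule.span k {v : V | Fs v = v}, L.mkQ y = y' := by
        intro y' hy'
        induction hy' using Submodule.span_induction with
        | mem y' hy' =>
          obtain ⟨y, rfl⟩ := Submodule.Quotient.mk_surjective L y'
          have h1 : (Submodule.Quotient.mk (Fs y) : V ⧸ L) = Submodule.Quotient.mk y := by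
            rw [← Submodule.mapQ_apply L L Fs (h := hL)]; exact hy'
          rw [Submodule.Quotient.eq] at h1
          obtain ⟨a, ha⟩ := hLmem _ h1
          obtain ⟨t, ht⟩ := exists_root_AS (p := p) a
          refine ⟨y + t • x, Submodule.subset_span ?_, ?_⟩
          · show Fs (y + t • x) = y + t • x
            rw [map_add, Fs_smul, hx]
            have hFy : Fs y = y + a • x := by rw [ha]; abel
            rw [hFy]
            have hta : a + t ^ p = t := by linear_combination ht
            rw [add_assoc, ← add_smul, hta]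
          · rw [map_add, map_smul, Submodule.mkQ_apply, Submodule.mkQ_apply,
              (Submodule.Quotient.mk_eq_zero L).mpr hxL, smul_zero, add_zero]
        | zero => exact ⟨0, zero_mem _, map_zero _⟩
        | add y1 y2 _ _ h1 h2 =>
          obtain ⟨z1, hz1, rfl⟩ := h1
          obtain ⟨z2, hz2, rfl⟩ := h2
          exact ⟨z1 + z2, add_mem hz1 hz2, map_add _ _ _⟩
        | smul a y1 _ h1 =>
          obtain ⟨z1, hz1, rfl⟩ := h1
          exact ⟨a • z1, Submodule.smul_mem _ _ hz1, map_smul _ _ _⟩
      have lift2 : ∀ y' ∈ NilSub (Submodule.mapQ L L Fs hL),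
          ∃ y ∈ Submodule.span k {v : V | Fs v = v} ⊔ NilSub Fs, L.mkQ y = y' := by
        rintro y' ⟨m, hm⟩
        obtain ⟨y, rfl⟩ := Submodule.Quotient.mk_surjective L y'
        rw [iter_mapQ, Submodule.Quotient.mk_eq_zero] at hm
        obtain ⟨a, ha⟩ := hLmem _ hm
        obtain ⟨b, hb⟩ := IsAlgClosed.exists_pow_nat_eq a (pow_pos (Fact.out : p.Prime).pos m)
        refine ⟨y, ?_, rfl⟩
        have h1 : y = b • x + (y - b • x) := by abel
        rw [h1]
        refine Submodule.add_mem_sup (Submodule.smul_mem _ _ (Submodule.subset_span hx)) ⟨m, ?_⟩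
        rw [iter_sub, iter_smul, Function.iterate_fixed hx, hb, ha, sub_self]
      rw [eq_top_iff]
      intro v _
      have hv : L.mkQ v ∈ Submodule.span k {v : V ⧸ L | Submodule.mapQ L L Fs hL v = v} ⊔
          NilSub (Submodule.mapQ L L Fs hL) := by rw [IH]; trivial
      obtain ⟨y1', hy1', y2', hy2', hsum⟩ := Submodule.mem_sup.mp hv
      obtain ⟨y1, hy1, rfl⟩ := lift1 y1' hy1'
      obtain ⟨y2, hy2, rfl⟩ := lift2 y2' hy2'
      have hdiff : v - (y1 + y2) ∈ L := by
        have : L.mkQ (v - (y1 + y2)) = 0 := by rw [map_sub, map_add, hsum, sub_self]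
        rwa [Submodule.mkQ_apply, Submodule.Quotient.mk_eq_zero] at this
      have hv2 : v = (y1 + (v - (y1 + y2))) + y2 := by abel
      rw [hv2]
      exact add_mem (Submodule.mem_sup_left (add_mem hy1 (hLfix hdiff))) hy2

end Groth.Agent.Lib.helper4.PLin
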