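import Mathlib

/-!
# A finite module over a domain contains a free submodule of full rank with bounded torsion quotient
(helper4)
-/

set_option autoImplicit false

namespace Groth.Agent.Lib.helper4

theorem h4_exists_linearIndependent_smul_mem_span (R : Type*) (M : Type*) [CommRing R] [IsDomain R]
    [AddCommGroup M] [Module R M] [Module.Finite R M] :
    ∃ v : Fin (Module.finrank R M) → M, LinearIndependent R v ∧
      ∃ c : R, c ≠ 0 ∧ ∀ x : M, c • x ∈ Submodule.span R (Set.range v) := by
  classical
  obtain ⟨v, hv⟩ := exists_linearIndependent_of_le_finrank (R := R) (M := M) le_rfl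
  refine ⟨v, hv, ?_⟩
  set F := Submodule.span R (Set.range v) with hF
  have h1 : Module.finrank R F = Module.finrank R M := by
    rw [hF, finrank_span_eq_card hv, Fintype.card_fin]
  have h2 : Module.finrank R (M ⧸ F) = 0 := by
    rw [Submodule.finrank_quotient, h1, Nat.sub_self]
  have h3 := (Module.finrank_eq_zero_iff (R := R) (M := M ⧸ F)).mp h2
  have h4 : ∀ x : M, ∃ a : R, a ≠ 0 ∧ a • x ∈ F := by
    intro x
    obtain ⟨a, ha, hax⟩ := h3 (Submodule.Quotient.mk x)
    refine ⟨a, ha, ?_⟩
    rwa [← Submodule.Quotient.mk_smul, Submodule.Quotient.mk_eq_zero] at hax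
  choose a ha hax using h4
  obtain ⟨S0, hS0⟩ := (Module.Finite.fg_top : (⊤ : Submodule R M).FG)
  refine ⟨∏ g ∈ S0, a g, Finset.prod_ne_zero_iff.mpr (fun g _ => ha g), ?_⟩
  intro x
  have hx : x ∈ Submodule.span R (S0 : Set M) := by rw [hS0]; trivial
  have hsub : Submodule.span R (S0 : Set M) ≤
      F.comap ((∏ g ∈ S0, a g) • (LinearMap.id : M →ₗ[R] M)) := by
    rw [Submodule.span_le]
    intro g hg
    obtain ⟨b, hb⟩ := Finset.dvd_prod_of_mem a hg
    change (∏ g ∈ S0, a g) • g ∈ F
    rw [hb, mul_comm, mul_smul]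
    exact F.smul_mem b (hax g)
  exact hsub hx

end Groth.Agent.Lib.helper4
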