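import Mathlib

set_option autoImplicit false
universe u

namespace Groth.Agent.Lib.helper4.ReflLib

theorem clear_denoms (R : Type u) [CommRing R] [IsDomain R] (N : Type u) [AddCommGroup N]
    [Module R N] [Module.Finite R N] (lam : N →ₗ[R] FractionRing R) :
    ∃ (r : R) (χ : N →ₗ[R] R), r ≠ 0 ∧
      ∀ n, algebraMap R (FractionRing R) (χ n) = r • lam n := by
  classical
  obtain ⟨s, hs⟩ := (Module.Finite.fg_top : (⊤ : Submodule R N).FG)
  obtain ⟨b, hb⟩ := IsLocalization.exist_integer_multiples_of_finset (nonZeroDivisors R)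
    (s.image lam)
  have hb0 : (b : R) ≠ 0 := nonZeroDivisors.ne_zero b.2
  have hr : ∀ n, ((b : R) • lam) n ∈
      LinearMap.range (Algebra.linearMap R (FractionRing R)) := by
    intro n
    have hn : n ∈ Submodule.span R (s : Set N) := by rw [hs]; trivial
    induction hn using Submodule.span_induction with
    | mem x hx =>
      obtain ⟨y, hy⟩ := hb (lam x) (Finset.mem_image_of_mem _ hx)
      exact ⟨y, hy⟩
    | zero => rw [map_zero]; exact Submodule.zero_mem _
    | add x y _ _ hx hy => rw [map_add]; exact Submodule.add_mem _ hx hy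
    | smul c x _ hx => rw [map_smul]; exact Submodule.smul_mem _ c hx
  let e := LinearEquiv.ofInjective (Algebra.linearMap R (FractionRing R))
    (IsFractionRing.injective R (FractionRing R))
  let χ : N →ₗ[R] R := e.symm.toLinearMap ∘ₗ (LinearMap.codRestrict _ ((b:R) • lam) hr)
  refine ⟨b, χ, hb0, fun n => ?_⟩
  have h1 : (e (χ n) : FractionRing R) = (b : R) • lam n := by
    show (e (e.symm _) : FractionRing R) = _
    rw [LinearEquiv.apply_symm_apply]; rfl
  exact h1

theorem exists_dual_ne_zero (R : Type u) [CommRing R] [IsDomain R] (N : Type u) [AddCommGroup N]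
    [Module R N] [Module.Finite R N] [Module.IsTorsionFree R N] (n : N) (hn : n ≠ 0) :
    ∃ χ : N →ₗ[R] R, χ n ≠ 0 := by
  have h1 : LocalizedModule.mkLinearMap (nonZeroDivisors R) N n ≠ 0 := by
    intro h0
    obtain ⟨c, hc⟩ := (IsLocalizedModule.eq_zero_iff (nonZeroDivisors R)
      (LocalizedModule.mkLinearMap (nonZeroDivisors R) N)).mp h0
    have h2 : (c : R) • n = 0 := hc
    rcases smul_eq_zero.mp h2 with h | h
    · exact nonZeroDivisors.ne_zero c.2 h
    · exact hn h
  obtain ⟨θ, hθ⟩ : ∃ θ : Module.Dual (FractionRing R) (LocalizedModule (nonZeroDivisors R) N),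
      θ (LocalizedModule.mkLinearMap (nonZeroDivisors R) N n) ≠ 0 := by
    by_contra hcon
    push Not at hcon
    exact h1 ((Module.forall_dual_apply_eq_zero_iff (FractionRing R) _).mp hcon)
  obtain ⟨r, χ, hr, hχ⟩ := clear_denoms R N
    ((θ.restrictScalars R) ∘ₗ (LocalizedModule.mkLinearMap (nonZeroDivisors R) N))
  refine ⟨χ, fun h0 => ?_⟩
  have h3 := hχ n
  rw [h0, map_zero] at h3
  have h4 : r • θ (LocalizedModule.mkLinearMap (nonZeroDivisors R) N n) ≠ 0 := by
    rw [Algebra.smul_def]
    exact mul_ne_zero (fun h => hr ((IsFractionRing.injective R (FractionRing R))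
      (h.trans (map_zero _).symm))) hθ
  exact h4 h3.symm

theorem exists_extend (R : Type u) [CommRing R] [IsDomain R] {M M' : Type u} [AddCommGroup M]
    [Module R M] [AddCommGroup M'] [Module R M'] [Module.Finite R M'] (f : M →ₗ[R] M')
    (hf : Function.Injective f) (φ : M →ₗ[R] R) :
    ∃ (r : R) (ψ : M' →ₗ[R] R), r ≠ 0 ∧ ∀ m, ψ (f m) = r * φ m := by
  have hfK : Function.Injective (LocalizedModule.map (nonZeroDivisors R) f) :=
    LocalizedModule.map_injective (nonZeroDivisors R) f hf
  obtain ⟨ρ, hρ⟩ := (LocalizedModule.map (nonZeroDivisors R) f).exists_leftInverse_of_injective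
    (LinearMap.ker_eq_bot.mpr hfK)
  have hunits : ∀ x : nonZeroDivisors R,
      IsUnit (algebraMap R (Module.End R (FractionRing R)) x) :=
    IsLocalizedModule.map_units (S := nonZeroDivisors R) (Algebra.linearMap R (FractionRing R))
  obtain ⟨φK, hφK⟩ : ∃ φK : LocalizedModule (nonZeroDivisors R) M →ₗ[R] FractionRing R,
      ∀ m, φK (LocalizedModule.mkLinearMap (nonZeroDivisors R) M m) =
        algebraMap R (FractionRing R) (φ m) :=
    ⟨LocalizedModule.lift (nonZeroDivisors R) ((Algebra.linearMap R (FractionRing R)) ∘ₗ φ) hunits,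
      fun m => LinearMap.congr_fun (LocalizedModule.lift_comp (nonZeroDivisors R)
        ((Algebra.linearMap R (FractionRing R)) ∘ₗ φ) hunits) m⟩
  obtain ⟨r, ψ, hr, hψ⟩ := clear_denoms R M'
    (φK ∘ₗ (ρ.restrictScalars R) ∘ₗ (LocalizedModule.mkLinearMap (nonZeroDivisors R) M'))
  refine ⟨r, ψ, hr, fun m => ?_⟩
  apply IsFractionRing.injective R (FractionRing R)
  rw [hψ (f m), map_mul, ← hφK m, Algebra.smul_def]
  congr 1
  show φK (ρ (LocalizedModule.mkLinearMap (nonZeroDivisors R) M' (f m))) = _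
  have h1 : LocalizedModule.mkLinearMap (nonZeroDivisors R) M' (f m) =
      LocalizedModule.map (nonZeroDivisors R) f
        (LocalizedModule.mkLinearMap (nonZeroDivisors R) M m) := by
    rw [LocalizedModule.mkLinearMap_apply, LocalizedModule.mkLinearMap_apply,
      LocalizedModule.map_mk]
  rw [h1]
  have h2 := LinearMap.congr_fun hρ (LocalizedModule.mkLinearMap (nonZeroDivisors R) M m)
  rw [LinearMap.comp_apply, LinearMap.id_apply] at h2
  rw [h2]

theorem reflexive_of_exact (R : Type u) [CommRing R] [IsDomain R]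
    {M M' M'' : Type u} [AddCommGroup M] [Module R M]
    [AddCommGroup M'] [Module R M'] [Module.Finite R M'] [AddCommGroup M''] [Module R M'']
    [Module.Finite R M'']
    (f : M →ₗ[R] M') (g : M' →ₗ[R] M'') (hf : Function.Injective f) (hfg : Function.Exact f g)
    [Module.IsReflexive R M'] [Module.IsTorsionFree R M''] : Module.IsReflexive R M := by
  refine ⟨⟨?_, ?_⟩⟩
  · rw [injective_iff_map_eq_zero]
    intro m hm
    by_contra hm0
    have hfm : f m ≠ 0 := fun h => hm0 (hf (h.trans (map_zero f).symm))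
    have hev : Module.Dual.eval R M' (f m) ≠ 0 := fun h =>
      hfm ((Module.bijective_dual_eval R M').1 (h.trans (map_zero _).symm))
    obtain ⟨ψ, hψ⟩ : ∃ ψ : Module.Dual R M', ψ (f m) ≠ 0 := by
      by_contra hcon
      push Not at hcon
      exact hev (LinearMap.ext fun ψ => hcon ψ)
    apply hψ
    exact LinearMap.congr_fun hm (ψ ∘ₗ f)
  · intro ξ
    obtain ⟨m', hm'⟩ := (Module.bijective_dual_eval R M').2 (ξ ∘ₗ f.dualMap)
    have hm'' : ∀ ψ : Module.Dual R M', ψ m' = ξ (ψ ∘ₗ f) := fun ψ => LinearMap.congr_fun hm' ψ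
    have hg : g m' = 0 := by
      by_contra hne
      obtain ⟨χ, hχ⟩ := exists_dual_ne_zero R M'' (g m') hne
      apply hχ
      have h1 := hm'' (χ ∘ₗ g)
      have h2 : (χ ∘ₗ g) ∘ₗ f = 0 := by
        ext x
        show χ (g (f x)) = 0
        rw [hfg.apply_apply_eq_zero, map_zero]
      rw [h2, map_zero] at h1
      exact h1
    obtain ⟨m, rfl⟩ := (hfg m').mp hg
    refine ⟨m, ?_⟩
    ext φ
    show φ m = ξ φ
    obtain ⟨r, ψ, hr, hψ⟩ := exists_extend R f hf φ
    have h1 := hm'' ψ
    have h2 : ψ ∘ₗ f = r • φ := by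
      ext x
      exact hψ x
    rw [h2, map_smul, hψ m, smul_eq_mul] at h1
    exact mul_left_cancel₀ hr h1

end Groth.Agent.Lib.helper4.ReflLib
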