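import Mathlib

set_option autoImplicit false
universe u

namespace Groth.Agent.Lib.helper4.ReflLoc

open Module

variable (R : Type u) [CommRing R] [IsNoetherianRing R] (S : Submonoid R)
  (M : Type u) [AddCommGroup M] [Module R M] [Module.Finite R M]

/-- localisation map on duals -/
noncomputable def d : Dual R M →ₗ[R] Dual (Localization S) (LocalizedModule S M) :=
  IsLocalizedModule.mapExtendScalars S (LocalizedModule.mkLinearMap S M)
    (Algebra.linearMap R (Localization S)) (Localization S)

instance d_loc : IsLocalizedModule S (d R S M) := by
  haveI : Module.FinitePresentation R M := Module.finitePresentation_of_finite R M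
  unfold d
  infer_instance

/-- localisation map on double duals -/
noncomputable def dd : Dual R (Dual R M) →ₗ[R]
    Dual (Localization S) (Dual (Localization S) (LocalizedModule S M)) :=
  IsLocalizedModule.mapExtendScalars S (d R S M) (Algebra.linearMap R (Localization S))
    (Localization S)

instance dd_loc : IsLocalizedModule S (dd R S M) := by
  haveI : Module.FinitePresentation R (Dual R M) := Module.finitePresentation_of_finite R _
  unfold dd
  infer_instance

theorem dd_eval (m : M) :
    dd R S M (Dual.eval R M m) = Dual.eval (Localization S) (LocalizedModule S M)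
      (LocalizedModule.mkLinearMap S M m) := by
  apply LinearMap.restrictScalars_injective R
  apply IsLocalizedModule.linearMap_ext S (d R S M) (Algebra.linearMap R (Localization S))
  refine LinearMap.ext fun φ => ?_
  show dd R S M (Dual.eval R M m) (d R S M φ) = (d R S M φ) (LocalizedModule.mkLinearMap S M m)
  unfold dd
  rw [IsLocalizedModule.mapExtendScalars_apply_apply, IsLocalizedModule.map_apply]
  unfold d
  rw [IsLocalizedModule.mapExtendScalars_apply_apply, IsLocalizedModule.map_apply]
  rfl

theorem map_eval :
    IsLocalizedModule.map S (LocalizedModule.mkLinearMap S M) (dd R S M) (Dual.eval R M) =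
      (Dual.eval (Localization S) (LocalizedModule S M)).restrictScalars R := by
  apply IsLocalizedModule.linearMap_ext S (LocalizedModule.mkLinearMap S M) (dd R S M)
  refine LinearMap.ext fun m => ?_
  show IsLocalizedModule.map S (LocalizedModule.mkLinearMap S M) (dd R S M) (Dual.eval R M)
    (LocalizedModule.mkLinearMap S M m) = Dual.eval (Localization S) (LocalizedModule S M)
      (LocalizedModule.mkLinearMap S M m)
  rw [IsLocalizedModule.map_apply, dd_eval]

theorem loc_reflexive [Module.IsReflexive R M] :
    Module.IsReflexive (Localization S) (LocalizedModule S M) := by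
  refine ⟨?_⟩
  have h := Module.bijective_dual_eval R M
  have h1 : Function.Bijective (IsLocalizedModule.map S (LocalizedModule.mkLinearMap S M)
      (dd R S M) (Dual.eval R M)) :=
    ⟨IsLocalizedModule.map_injective S _ _ _ h.1, IsLocalizedModule.map_surjective S _ _ _ h.2⟩
  rw [map_eval] at h1
  exact h1

theorem reflexive_of_loc_maximal
    (H : ∀ (P : Ideal R) [P.IsMaximal], Module.IsReflexive (Localization P.primeCompl)
      (LocalizedModule P.primeCompl M)) :
    Module.IsReflexive R M := by
  refine ⟨?_⟩
  refine bijective_of_isLocalized_maximal
    (fun P _ => LocalizedModule P.primeCompl M)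
    (fun P _ => LocalizedModule.mkLinearMap P.primeCompl M)
    (fun P _ => Dual (Localization P.primeCompl) (Dual (Localization P.primeCompl)
      (LocalizedModule P.primeCompl M)))
    (fun P _ => dd R P.primeCompl M) (Dual.eval R M) ?_
  intro P _
  show Function.Bijective (IsLocalizedModule.map P.primeCompl
    (LocalizedModule.mkLinearMap P.primeCompl M) (dd R P.primeCompl M) (Dual.eval R M))
  rw [map_eval]
  exact Module.bijective_dual_eval _ _

end Groth.Agent.Lib.helper4.ReflLoc
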