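import Mathlib
import Groth.Prelude.Def_HTop

set_option autoImplicit false
universe w w' u

namespace Groth.Agent.Lib.helper4

open CategoryTheory CategoryTheory.Limits AlgebraicGeometry HTop

/-- A Zariski sheaf: the Zariski topology is coarser than the finest topology making it a sheaf. -/
theorem h4_zariski_le_finest (F : Scheme.{u}ᵒᵖ ⥤ Type w)
    (hF : Presieve.IsSheaf Scheme.zariskiTopology F) :
    Scheme.zariskiTopology ≤ Sheaf.finestTopologySingle F := by
  intro X S hS Y f
  exact hF _ (Scheme.zariskiTopology.pullback_stable f hS)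

/-- The open cover of a scheme by all its affine opens. -/
noncomputable def h4_affineOpensCover (T : Scheme.{u}) : T.OpenCover :=
  T.openCoverOfIsOpenCover (fun U : T.affineOpens => (U : T.Opens))
    (TopologicalSpace.IsOpenCover.mk (iSup_affineOpens_eq_top T))

/-- Membership in a topology finer than the Zariski topology can be checked on affine opens. -/
theorem h4_mem_of_affine_local (J' : GrothendieckTopology Scheme.{u})
    (hJ' : Scheme.zariskiTopology ≤ J') {T : Scheme.{u}} (S : Sieve T)
    (h : ∀ U : T.affineOpens, S.pullback (U : T.Opens).ι ∈ J' ((U : T.Opens) : Scheme.{u})) :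
    S ∈ J' T := by
  have hR : Sieve.ofArrows (h4_affineOpensCover T).X (h4_affineOpensCover T).f ∈ J' T :=
    hJ' _ (h4_affineOpensCover T).mem_grothendieckTopology
  refine J'.transitive hR S ?_
  rintro Y g ⟨Z, k, _, ⟨U⟩, rfl⟩
  rw [Sieve.pullback_comp]
  exact J'.pullback_stable k (h U)

/-- A refinement over an open gives an inclusion of generated sieves. -/
theorem h4_generate_le_pullback_of_refinesOver {U T : Scheme.{u}} (g : U ⟶ T)
    (G : PreZeroHypercover.{w'} U) (E : PreZeroHypercover.{w} T) (h : RefinesOver g G E) :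
    Sieve.generate G.presieve₀ ≤ (Sieve.generate E.presieve₀).pullback g := by
  rintro Y _ ⟨Z, k, _, ⟨j⟩, rfl⟩
  obtain ⟨i, l, hl⟩ := h j
  change Sieve.generate E.presieve₀ ((k ≫ G.f j) ≫ g)
  rw [Category.assoc, ← hl, ← Category.assoc]
  exact ⟨_, k ≫ l, E.f i, ⟨i⟩, rfl⟩

end Groth.Agent.Lib.helper4
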