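import Mathlib

/-!
# Extending an element outside all minimal primes to a system of parameters (helper4)
-/

set_option autoImplicit false

namespace Groth.Agent.Lib.helper4

universe u

open IsLocalRing

set_option backward.isDefEq.respectTransparency false in
theorem dim_quot_succ_le {R : Type u} [CommRing R] (f : R)
    (hmin : ∀ p ∈ minimalPrimes R, f ∉ p) :
    ringKrullDim (R ⧸ Ideal.span {f}) + 1 ≤ ringKrullDim R := by
  by_cases hr' : Ideal.span {f} = ⊤
  · rw [hr', ringKrullDim_eq_bot_of_subsingleton]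
    simp
  have : Nonempty (PrimeSpectrum.zeroLocus (R := R) (Ideal.span {f})) := by
    rwa [Set.nonempty_coe_sort, Set.nonempty_iff_ne_empty, ne_eq,
      PrimeSpectrum.zeroLocus_empty_iff_eq_top]
  have := Ideal.Quotient.nontrivial_iff.mpr hr'
  have := (Ideal.Quotient.mk (Ideal.span {f})).domain_nontrivial
  rw [ringKrullDim_quotient, Order.krullDim_eq_iSup_length, ringKrullDim,
    Order.krullDim_eq_iSup_length, ← WithBot.coe_one, ← WithBot.coe_add,
    ENat.iSup_add, WithBot.coe_le_coe, iSup_le_iff]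
  intro l
  obtain ⟨p, hp, hp'⟩ := Ideal.exists_minimalPrimes_le (J := l.head.1.asIdeal) bot_le
  let p' : PrimeSpectrum R := ⟨p, hp.1.1⟩
  have hp' : p' < l.head := lt_of_le_of_ne hp' fun h ↦ hmin p hp
    (show f ∈ p by simpa [← h] using l.head.2)
  refine le_trans ?_ (le_iSup _ ((l.map Subtype.val (fun _ _ ↦ id)).cons p' hp'))
  simp

theorem exists_sop {R : Type u} [CommRing R] [IsNoetherianRing R] [IsLocalRing R]
    (d : ℕ) (hd : ringKrullDim R = d) (f : R) (hf : f ∈ maximalIdeal R)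
    (hmin : ∀ p ∈ minimalPrimes R, f ∉ p) (k : ℕ) :
    ∃ g : Fin (d - 1) → R, (∀ i, g i ∈ maximalIdeal R ^ k) ∧ (∀ i, g i ∈ maximalIdeal R) ∧
      maximalIdeal R ≤ (Ideal.span (insert f (Set.range g))).radical := by
  classical
  obtain ⟨I, hIdef⟩ : ∃ I : Ideal R, I = Ideal.span {f} := ⟨_, rfl⟩
  have hI : I ≤ maximalIdeal R := by
    rw [hIdef]; exact (Ideal.span_singleton_le_iff_mem _).mpr hf
  have hne : I ≠ ⊤ := fun h => (Ideal.IsPrime.ne_top (inferInstance : (maximalIdeal R).IsPrime))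
    (top_le_iff.mp (h ▸ hI))
  haveI : Nontrivial (R ⧸ I) := Ideal.Quotient.nontrivial_iff.mpr hne
  haveI : IsLocalRing (R ⧸ I) :=
    IsLocalRing.of_surjective' (Ideal.Quotient.mk I) Ideal.Quotient.mk_surjective
  obtain ⟨s, hs, hcard⟩ :=
    Ideal.exists_finset_card_eq_height_of_isNoetherianRing (maximalIdeal (R ⧸ I))
  have hdim := dim_quot_succ_le f hmin
  rw [← hIdef, hd, ← IsLocalRing.maximalIdeal_height_eq_ringKrullDim, ← hcard] at hdim
  have hle : s.card + 1 ≤ d := by exact_mod_cast hdim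
  choose y hy using fun x : R ⧸ I => Ideal.Quotient.mk_surjective x
  -- comap of the maximal ideal
  have hcomap : (maximalIdeal (R ⧸ I)).comap (Ideal.Quotient.mk I) = maximalIdeal R := by
    haveI := Ideal.comap_isMaximal_of_surjective (Ideal.Quotient.mk I)
      Ideal.Quotient.mk_surjective (K := maximalIdeal (R ⧸ I))
    exact IsLocalRing.eq_maximalIdeal this
  have hsm : ∀ x ∈ s, y x ∈ maximalIdeal R := by
    intro x hx
    rw [← hcomap, Ideal.mem_comap, hy]
    exact hs.1.2 (Ideal.subset_span hx)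
  let g : Fin (d - 1) → R := fun i =>
    if h : i.1 < s.card then (y ((s.equivFin.symm ⟨i.1, h⟩ : s) : R ⧸ I)) ^ (k + 1) else 0
  refine ⟨g, ?_, ?_, ?_⟩
  · intro i
    by_cases h : i.1 < s.card
    · simp only [g, dif_pos h]
      exact Ideal.pow_le_pow_right (Nat.le_succ k)
        (Ideal.pow_mem_pow (hsm _ (s.equivFin.symm ⟨i.1, h⟩).2) (k + 1))
    · simp only [g, dif_neg h]; exact zero_mem _
  · intro i
    by_cases h : i.1 < s.card
    · simp only [g, dif_pos h]
      exact Ideal.pow_mem_of_mem _ (hsm _ (s.equivFin.symm ⟨i.1, h⟩).2) (k + 1) (Nat.succ_pos k)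
    · simp only [g, dif_neg h]; exact zero_mem _
  · rw [Ideal.radical_eq_sInf]
    refine le_sInf ?_
    rintro P ⟨hP, hPprime⟩
    have hfP : f ∈ P := hP (Ideal.subset_span (Set.mem_insert _ _))
    have hIP : I ≤ P := by
      rw [hIdef]; exact (Ideal.span_singleton_le_iff_mem _).mpr hfP
    have hP' : (P.map (Ideal.Quotient.mk I)).IsPrime :=
      Ideal.map_isPrime_of_surjective Ideal.Quotient.mk_surjective (by rwa [Ideal.mk_ker])
    have hsP : Ideal.span (s : Set (R ⧸ I)) ≤ P.map (Ideal.Quotient.mk I) := by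
      rw [Ideal.span_le]
      intro x hx
      have hx' : x ∈ s := hx
      obtain ⟨i, hi⟩ : ∃ i : Fin s.card, s.equivFin.symm i = ⟨x, hx'⟩ :=
        ⟨s.equivFin ⟨x, hx'⟩, by simp⟩
      have hlt : i.1 < d - 1 := by have := i.2; omega
      have hg : g ⟨i.1, hlt⟩ = (y x) ^ (k + 1) := by
        simp only [g, dif_pos i.2]
        rw [show (⟨i.1, i.2⟩ : Fin s.card) = i from rfl, hi]
      have hgP : g ⟨i.1, hlt⟩ ∈ P :=
        hP (Ideal.subset_span (Set.mem_insert_of_mem _ (Set.mem_range_self _)))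
      rw [hg] at hgP
      have hyP : y x ∈ P := hPprime.mem_of_pow_mem _ hgP
      have := Ideal.mem_map_of_mem (Ideal.Quotient.mk I) hyP
      rwa [hy] at this
    have hmP : maximalIdeal (R ⧸ I) ≤ P.map (Ideal.Quotient.mk I) :=
      hs.2 ⟨hP', hsP⟩ (IsLocalRing.le_maximalIdeal hP'.ne_top)
    intro x hx
    have hx1 : Ideal.Quotient.mk I x ∈ maximalIdeal (R ⧸ I) := by
      rw [← Ideal.mem_comap, hcomap]; exact hx
    obtain ⟨z, hz, hzx⟩ :=
      (Ideal.mem_map_iff_of_surjective _ Ideal.Quotient.mk_surjective).mp (hmP hx1)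
    have hxz : x - z ∈ I := by
      rw [← Ideal.Quotient.eq_zero_iff_mem, map_sub, hzx, sub_self]
    have : x = (x - z) + z := by ring
    rw [this]
    exact add_mem (hIP hxz) hz

end Groth.Agent.Lib.helper4
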