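import Groth.Prelude.Def_SpSeq
import Mathlib

/-!
# Basic lemmas on abstract spectral sequences (helper4)
-/

set_option autoImplicit false

universe v u

open CategoryTheory CategoryTheory.Limits

namespace Groth.Agent.Lib.helper4

variable {C : Type u} [Category.{v} C] [Abelian C] {r₀ : ℤ}

/-- homology at a position whose object is zero is zero -/
theorem h4_isZero_homology_of_isZero_X {ι : Type*} {c : ComplexShape ι}
    (K : HomologicalComplex C c) (i : ι) (h : IsZero (K.X i)) : IsZero (K.homology i) := by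
  have h1 : IsZero (K.sc i).X₂ := h
  have hex : (K.sc i).Exact := ShortComplex.exact_of_isZero_X₂ _ h1
  exact (ShortComplex.exact_iff_isZero_homology _).mp hex

/-- homology at a position where both differentials vanish is the object -/
noncomputable def h4_homologyIsoOfZeros {ι : Type*} {c : ComplexShape ι}
    (K : HomologicalComplex C c) (i : ι) (h1 : K.d (c.prev i) i = 0) (h2 : K.d i (c.next i) = 0) :
    K.homology i ≅ K.X i :=
  (ShortComplex.HomologyData.ofZeros (K.sc i) h1 h2).left.homologyIso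

theorem h4_up'_prev (a pq : ℤ × ℤ) : (ComplexShape.up' a).prev pq = pq - a :=
  (ComplexShape.up' a).prev_eq' (by simp [ComplexShape.up'])

theorem h4_up'_next (a pq : ℤ × ℤ) : (ComplexShape.up' a).next pq = pq + a :=
  (ComplexShape.up' a).next_eq' (by simp [ComplexShape.up'])

/-- a zero term stays zero on all later pages -/
theorem h4_isZero_page_of_le (E : CohomologicalSpectralSequence C r₀) (r : ℤ) (hr : r₀ ≤ r)
    (pq : ℤ × ℤ) (h : IsZero ((E.page r hr).X pq)) (k : ℤ) (hk : r ≤ k) :
    IsZero ((E.page k (hr.trans hk)).X pq) := by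
  obtain ⟨n, rfl⟩ : ∃ n : ℕ, k = r + n := ⟨(k - r).toNat, by omega⟩
  induction n with
  | zero =>
    have : r + ((0 : ℕ) : ℤ) = r := by simp
    exact h.of_iso (E.pageXIsoOfEq pq _ _ this (by omega))
  | succ n ih =>
    have h1 := ih (by omega)
    have h2 := h4_isZero_homology_of_isZero_X (E.page (r + n) (by omega)) pq h1
    exact h2.of_iso (E.iso (r + n) (r + (n + 1 : ℕ)) pq (by push_cast; ring) (by omega)).symm

/-- a stationary position has the same term on all later pages -/
theorem h4_nonempty_iso_of_stationary (E : CohomologicalSpectralSequence C r₀) (pq : ℤ × ℤ)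
    (r : ℤ) (hst : SpSeq.StationaryAt E pq r) (k : ℤ) (hk : r ≤ k) :
    Nonempty ((E.page k (hst.1.trans hk)).X pq ≅ (E.page r hst.1).X pq) := by
  obtain ⟨n, rfl⟩ : ∃ n : ℕ, k = r + n := ⟨(k - r).toNat, by omega⟩
  induction n with
  | zero =>
    have : r + ((0 : ℕ) : ℤ) = r := by simp
    exact ⟨E.pageXIsoOfEq pq _ _ this (by have := hst.1; omega)⟩
  | succ n ih =>
    obtain ⟨e⟩ := ih (by omega)
    have hr0 : r₀ ≤ r + n := by have := hst.1; omega
    obtain ⟨hd1, hd2⟩ := hst.2 (r + n) hr0 (by omega)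
    have e1 : (E.page (r + n) hr0).homology pq ≅ (E.page (r + n) hr0).X pq :=
      h4_homologyIsoOfZeros _ pq (by rw [h4_up'_prev]; exact hd1) (by rw [h4_up'_next]; exact hd2)
    exact ⟨(E.iso (r + n) (r + (n + 1 : ℕ)) pq (by push_cast; ring) hr0).symm ≪≫ e1 ≪≫ e⟩

/-- if a stationary position has a zero term on some page, the stationary term is zero -/
theorem h4_isZero_stationary_of_isZero (E : CohomologicalSpectralSequence C r₀) (pq : ℤ × ℤ)
    (r : ℤ) (hr : r₀ ≤ r) (h : IsZero ((E.page r hr).X pq)) (r1 : ℤ)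
    (hst : SpSeq.StationaryAt E pq r1) : IsZero ((E.page r1 hst.1).X pq) := by
  rcases le_total r r1 with h1 | h1
  · exact h4_isZero_page_of_le E r hr pq h r1 h1
  · obtain ⟨e⟩ := h4_nonempty_iso_of_stationary E pq r1 hst r h1
    exact h.of_iso e.symm

/-! ### filtrations with a single nonzero graded piece -/

theorem h4_isZero_of_eq_bot {X : C} (Y : Subobject X) (h : Y = ⊥) : IsZero (Y : C) := by
  subst h
  exact (isZero_zero C).of_iso Subobject.botCoeIsoZero

theorem h4_isIso_arrow_of_eq_top {X : C} (Y : Subobject X) (h : Y = ⊤) : IsIso Y.arrow := by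
  subst h
  infer_instance

/-- a zero graded piece means the two steps agree -/
theorem h4_eq_of_isZero_grPiece {X : C} (F : ℤ → Subobject X) (hF : Antitone F) (p : ℤ)
    (h : IsZero (SpSeq.grPiece F hF p)) : F (p + 1) = F p := by
  have hle : F (p + 1) ≤ F p := hF (Int.le_add_one le_rfl)
  have hepi : Epi ((F (p + 1)).ofLE (F p) hle) := Preadditive.epi_of_isZero_cokernel _ h
  have hiso : IsIso ((F (p + 1)).ofLE (F p) hle) := isIso_of_mono_of_epi _
  refine le_antisymm hle ?_
  refine Subobject.le_of_comm (inv ((F (p + 1)).ofLE (F p) hle)) ?_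
  rw [IsIso.inv_comp_eq, Subobject.ofLE_arrow]

/-- a discrete exhaustive filtration with a single nonzero graded piece: the object is that
graded piece -/
theorem h4_nonempty_iso_grPiece {X : C} (F : ℤ → Subobject X) (hF : Antitone F)
    (hdisc : ∃ b : ℤ, F b = ⊥) (hexh : IsLUB (Set.range F) ⊤) (p0 : ℤ)
    (hz : ∀ p : ℤ, p ≠ p0 → IsZero (SpSeq.grPiece F hF p)) :
    Nonempty (X ≅ SpSeq.grPiece F hF p0) := by
  have hstep : ∀ p : ℤ, p ≠ p0 → F (p + 1) = F p :=
    fun p hp => h4_eq_of_isZero_grPiece F hF p (hz p hp)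
  -- above p0 everything equals F (p0 + 1)
  have habove : ∀ k : ℕ, F (p0 + 1 + k) = F (p0 + 1) := by
    intro k
    induction k with
    | zero => simp
    | succ k ih =>
      have := hstep (p0 + 1 + k) (by omega)
      rw [← ih, ← this]
      congr 1
      push_cast; ring
  have hbot : F (p0 + 1) = ⊥ := by
    obtain ⟨b, hb⟩ := hdisc
    rcases le_total (p0 + 1) b with h | h
    · obtain ⟨k, rfl⟩ : ∃ k : ℕ, b = p0 + 1 + k := ⟨(b - (p0 + 1)).toNat, by omega⟩
      rw [← habove k, hb]
    · exact le_bot_iff.mp (hb ▸ hF h)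
  have hbelow : ∀ k : ℕ, F (p0 - k) = F p0 := by
    intro k
    induction k with
    | zero => simp
    | succ k ih =>
      have := hstep (p0 - (k + 1 : ℕ)) (by omega)
      rw [← ih, ← this]
      congr 1
      push_cast; ring
  have htop : F p0 = ⊤ := by
    refine top_le_iff.mp (hexh.2 ?_)
    rintro _ ⟨p, rfl⟩
    rcases le_total p p0 with h | h
    · obtain ⟨k, rfl⟩ : ∃ k : ℕ, p = p0 - k := ⟨(p0 - p).toNat, by omega⟩
      rw [hbelow k]
    · exact hF h
  have hle : F (p0 + 1) ≤ F p0 := hF (Int.le_add_one le_rfl)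
  have hzero : (F (p0 + 1)).ofLE (F p0) hle = 0 := (h4_isZero_of_eq_bot _ hbot).eq_of_src _ _
  have hiso := h4_isIso_arrow_of_eq_top _ htop
  have e1 : SpSeq.grPiece F hF p0 ≅ (F p0 : C) :=
    cokernelIsoOfEq hzero ≪≫ cokernelZeroIsoTarget
  exact ⟨(asIso (F p0).arrow).symm ≪≫ e1.symm⟩

end Groth.Agent.Lib.helper4
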