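import Mathlib
import Groth.Agent.Lib.helper4.ConstrTop

/-!
# Recognition of spectral spaces (helper4)
-/

set_option autoImplicit false

open Topology TopologicalSpace

namespace Groth.Agent.Lib.helper4

/-- Recognition criterion: a T0 space with a basis `B` stable under finite intersections, all of
whose members are clopen for some compact topology `τ'`, is spectral; moreover every `τ'`-closed
set is quasi-compact. -/
theorem h4_spectralSpace_of_basis {X : Type*} (τ' : TopologicalSpace X) [τ : TopologicalSpace X]
    [T0Space X] (B : Set (Set X))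
    (hbasis : IsTopologicalBasis B)
    (hinter : ∀ s ∈ B, ∀ t ∈ B, s ∩ t ∈ B) (huniv : Set.univ ∈ B)
    (hτ'c : @CompactSpace X τ')
    (hclopen : ∀ s ∈ B, @IsClopen X τ' s) :
    SpectralSpace X ∧ (τ' ≤ τ) ∧ (∀ s, @IsClosed X τ' s → IsCompact s) ∧
      constructibleTopology X = τ' := by
  have hle : τ' ≤ τ := by
    intro U hU
    rw [hbasis.open_eq_sUnion' hU]
    exact @isOpen_sUnion _ τ' _ (fun V hV => (hclopen V hV.1).2)
  have hcont : @Continuous X X τ' τ id := continuous_id_iff_le.mpr hle
  have hcomp : ∀ s, @IsClosed X τ' s → IsCompact s := by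
    intro s hs
    have h1 : @IsCompact X τ' s := @IsClosed.isCompact X τ' s hτ'c hs
    have := @IsCompact.image X X τ' τ s id h1 hcont
    simpa using this
  have hBc : ∀ s ∈ B, IsCompact s := fun s hs => hcomp s (hclopen s hs).1
  have hclosed : ∀ s, IsClosed s → @IsClosed X τ' s := fun s hs => hs.mono hle
  suffices hsp : SpectralSpace X by
    refine ⟨hsp, hle, hcomp, ?_⟩
    have hle' : τ' ≤ constructibleTopology X := by
      refine le_generateFrom ?_
      rintro s (⟨hso, -⟩ | ⟨hscl, hsc⟩)
      · exact hle s hso
      · have hb' : IsTopologicalBasis (Set.range (Subtype.val : B → Set X)) := by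
          rwa [Subtype.range_val]
        obtain ⟨t, ht, hst⟩ := (isCompact_open_iff_eq_finite_iUnion_of_isTopologicalBasis
          (Subtype.val : B → Set X) hb' (fun i => hBc i.1 i.2) sᶜ).1 ⟨hsc, hscl.isOpen_compl⟩
        rw [← @isClosed_compl_iff X τ', hst]
        exact @Set.Finite.isClosed_biUnion X B τ' t _ ht (fun i _ => (hclopen i.1 i.2).1)
    refine le_antisymm ?_ hle'
    intro U hU
    have hcl : @IsClosed X τ' Uᶜ := by rwa [@isClosed_compl_iff X τ']
    have hcm := @Continuous.isClosedMap X X τ' (constructibleTopology X) hτ'c h4_t2Space_constr id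
      (continuous_id_iff_le.mpr hle')
    have := hcm Uᶜ hcl
    rw [Set.image_id] at this
    rwa [@isClosed_compl_iff X (constructibleTopology X)] at this
  have h1 : CompactSpace X := ⟨hBc _ huniv⟩
  have h2 : PrespectralSpace X := .of_isTopologicalBasis hbasis hBc
  have h3 : QuasiSeparatedSpace X := by
    have : IsTopologicalBasis (Set.range (Subtype.val : B → Set X)) := by
      rwa [Subtype.range_val]
    exact QuasiSeparatedSpace.of_isTopologicalBasis this
      (fun i j => hBc _ (hinter _ i.2 _ j.2))
  have h4 : QuasiSober X := by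
    refine ⟨fun {S} hS hScl => ?_⟩
    have hScomp' : @IsCompact X τ' S := @IsClosed.isCompact X τ' S hτ'c (hclosed S hScl)
    let ι := {b : Set X // b ∈ B ∧ (S ∩ b).Nonempty}
    have hfip : (S ∩ ⋂ i : ι, i.1).Nonempty := by
      refine @IsCompact.inter_iInter_nonempty X τ' S ι hScomp' (fun i => i.1)
        (fun i => (hclopen i.1 i.2.1).1) ?_
      intro u
      classical
      have := (isIrreducible_iff_sInter.1 hS) (u.image (fun i : ι => i.1))
        (by
          intro v hv
          obtain ⟨i, -, rfl⟩ := Finset.mem_image.1 hv
          exact hbasis.isOpen i.2.1)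
        (by
          intro v hv
          obtain ⟨i, -, rfl⟩ := Finset.mem_image.1 hv
          exact i.2.2)
      obtain ⟨x, hxS, hx⟩ := this
      refine ⟨x, hxS, ?_⟩
      simp only [Set.mem_iInter]
      intro i hi
      exact hx i.1 (Finset.mem_coe.2 (Finset.mem_image.2 ⟨i, hi, rfl⟩))
    obtain ⟨η, hηS, hη⟩ := hfip
    refine ⟨η, ?_⟩
    show closure {η} = S
    apply Set.Subset.antisymm
    · exact closure_minimal (Set.singleton_subset_iff.2 hηS) hScl
    · intro z hz
      rw [hbasis.mem_closure_iff]
      intro o ho hzo
      have : η ∈ o := Set.mem_iInter.1 hη ⟨o, ho, ⟨z, hz, hzo⟩⟩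
      exact ⟨η, this, rfl⟩
  exact { }

theorem h4_spectralSpace_of_isEmbedding_aux {X Y : Type*} (τ' : TopologicalSpace X)
    [TopologicalSpace X] [TopologicalSpace Y]
    [SpectralSpace Y] {f : X → Y} (hf : IsEmbedding f)
    (hτ' : τ' = TopologicalSpace.induced f (constructibleTopology Y))
    (hr : IsClosed[constructibleTopology Y] (Set.range f)) :
    SpectralSpace X ∧ IsSpectralMap f ∧ constructibleTopology X = τ' := by
  have : T0Space X := hf.t0Space
  have hind : @IsInducing X Y τ' (constructibleTopology Y) f :=
    @Topology.IsInducing.mk X Y τ' (constructibleTopology Y) f hτ'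
  have hcomp : @CompactSpace X τ' := by
    rw [← @isCompact_univ_iff X τ']
    rw [@Topology.IsInducing.isCompact_iff X Y τ' (constructibleTopology Y) Set.univ f hind,
      Set.image_univ]
    exact h4_isCompact_constr_of_isClosed_constr hr
  let B : Set (Set X) := Set.image (Set.preimage f) {U : Set Y | IsOpen U ∧ IsCompact U}
  have hbasis : IsTopologicalBasis B := PrespectralSpace.isTopologicalBasis.isInducing hf.isInducing
  have hfc : @Continuous X Y τ' (constructibleTopology Y) f :=
    hτ' ▸ continuous_induced_dom
  obtain ⟨h1, h2, h3, h4⟩ := h4_spectralSpace_of_basis τ' B hbasis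
    (by
      rintro _ ⟨U, ⟨hUo, hUc⟩, rfl⟩ _ ⟨V, ⟨hVo, hVc⟩, rfl⟩
      exact ⟨U ∩ V, ⟨hUo.inter hVo, QuasiSeparatedSpace.inter_isCompact U V hUo hUc hVo hVc⟩, rfl⟩)
    ⟨Set.univ, ⟨isOpen_univ, isCompact_univ⟩, rfl⟩ hcomp
    (by
      rintro _ ⟨U, ⟨hUo, hUc⟩, rfl⟩
      exact @IsClopen.preimage X Y τ' (constructibleTopology Y) U
        (h4_isClopen_constr_of_isCompact_isOpen hUo hUc) f hfc)
  refine ⟨h1, ⟨hf.continuous, ?_⟩, h4⟩
  intro U hUo hUc
  refine h3 _ ?_
  exact (@IsClopen.preimage X Y τ' (constructibleTopology Y) U
        (h4_isClopen_constr_of_isCompact_isOpen hUo hUc) f hfc).1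

/-- A space embedded in a spectral space with constructibly closed image is spectral,
the embedding is spectral, and its constructible topology is the induced one. -/
theorem h4_spectralSpace_of_isEmbedding {X Y : Type*} [TopologicalSpace X] [TopologicalSpace Y]
    [SpectralSpace Y] {f : X → Y} (hf : IsEmbedding f)
    (hr : IsClosed[constructibleTopology Y] (Set.range f)) :
    SpectralSpace X ∧ IsSpectralMap f ∧
      constructibleTopology X = TopologicalSpace.induced f (constructibleTopology Y) :=
  h4_spectralSpace_of_isEmbedding_aux _ hf rfl hr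

/-- An arbitrary product of spectral spaces is spectral, and its constructible topology is the
product of the constructible topologies. -/
theorem h4_spectralSpace_pi {ι : Type*} {X : ι → Type*} [∀ i, TopologicalSpace (X i)]
    [∀ i, SpectralSpace (X i)] :
    SpectralSpace (∀ i, X i) ∧ constructibleTopology (∀ i, X i) =
      @Pi.topologicalSpace ι X (fun i => constructibleTopology (X i)) := by
  classical
  have hcomp : @CompactSpace (∀ i, X i)
      (@Pi.topologicalSpace ι X (fun i => constructibleTopology (X i))) :=
    @Pi.compactSpace ι X (fun i => constructibleTopology (X i)) (fun i => h4_compactSpace_constr)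
  let B : Set (Set (∀ i, X i)) := { S | ∃ (U : ∀ i, Set (X i)) (F : Finset ι),
      (∀ i, i ∈ F → U i ∈ {V : Set (X i) | IsOpen V ∧ IsCompact V}) ∧ S = (F : Set ι).pi U }
  have hbasis : IsTopologicalBasis B :=
    isTopologicalBasis_pi (fun i => PrespectralSpace.isTopologicalBasis (X := X i))
  suffices hh : (∀ s ∈ B, ∀ t ∈ B, s ∩ t ∈ B) ∧ Set.univ ∈ B ∧ (∀ s ∈ B, @IsClopen (∀ i, X i)
      (@Pi.topologicalSpace ι X (fun i => constructibleTopology (X i))) s) by
    obtain ⟨h1, -, -, h4⟩ := h4_spectralSpace_of_basis
      (@Pi.topologicalSpace ι X (fun i => constructibleTopology (X i))) B hbasis hh.1 hh.2.1 hcomp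
      hh.2.2
    exact ⟨h1, h4⟩
  refine ⟨?_, ?_, ?_⟩
  · rintro _ ⟨U, F, hU, rfl⟩ _ ⟨U', F', hU', rfl⟩
    refine ⟨fun i => (if i ∈ F then U i else Set.univ) ∩ (if i ∈ F' then U' i else Set.univ),
      F ∪ F', ?_, ?_⟩
    · intro i _
      have h1 : IsOpen (if i ∈ F then U i else Set.univ) ∧
          IsCompact (if i ∈ F then U i else Set.univ) := by
        by_cases h : i ∈ F
        · simp only [h, if_true]; exact hU i h
        · simp only [h, if_false]; exact ⟨isOpen_univ, isCompact_univ⟩
      have h2 : IsOpen (if i ∈ F' then U' i else Set.univ) ∧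
          IsCompact (if i ∈ F' then U' i else Set.univ) := by
        by_cases h : i ∈ F'
        · simp only [h, if_true]; exact hU' i h
        · simp only [h, if_false]; exact ⟨isOpen_univ, isCompact_univ⟩
      exact ⟨h1.1.inter h2.1, QuasiSeparatedSpace.inter_isCompact _ _ h1.1 h1.2 h2.1 h2.2⟩
    · ext x
      simp only [Set.mem_inter_iff, Set.mem_pi, Finset.mem_coe, Finset.mem_union]
      constructor
      · rintro ⟨hx, hx'⟩ i hi
        constructor
        · by_cases h : i ∈ F
          · simp only [h, if_true]; exact hx i h
          · simp only [h, if_false]; exact Set.mem_univ _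
        · by_cases h : i ∈ F'
          · simp only [h, if_true]; exact hx' i h
          · simp only [h, if_false]; exact Set.mem_univ _
      · intro hx
        refine ⟨fun i hi => ?_, fun i hi => ?_⟩
        · have := (hx i (Or.inl hi)).1
          simpa only [hi, if_true] using this
        · have := (hx i (Or.inr hi)).2
          simpa only [hi, if_true] using this
  · exact ⟨fun _ => Set.univ, ∅, by simp, by simp⟩
  · rintro _ ⟨U, F, hU, rfl⟩
    rw [Set.pi_def]
    refine @isClopen_biInter_finset (∀ i, X i)
      (@Pi.topologicalSpace ι X (fun i => constructibleTopology (X i))) ι F _ ?_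
    intro i hi
    exact @IsClopen.preimage (∀ i, X i) (X i)
      (@Pi.topologicalSpace ι X (fun i => constructibleTopology (X i))) (constructibleTopology (X i))
      (U i) (h4_isClopen_constr_of_isCompact_isOpen (hU i hi).1 (hU i hi).2) (Function.eval i)
      (@continuous_apply ι X (fun i => constructibleTopology (X i)) i)

/-- A continuous map out of a spectral space which is continuous for the constructible topologies
is spectral. -/
theorem h4_isSpectralMap_of_continuous_constr {X Y : Type*} [TopologicalSpace X]
    [TopologicalSpace Y] [CompactSpace X] [QuasiSober X] [PrespectralSpace X]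
    [QuasiSeparatedSpace X] {f : X → Y} (hf : Continuous f)
    (hfc : @Continuous X Y (constructibleTopology X) (constructibleTopology Y) f) :
    IsSpectralMap f := by
  refine ⟨hf, fun U hUo hUc => ?_⟩
  refine h4_isCompact_of_isClosed_constr ?_
  exact (@IsClopen.preimage X Y (constructibleTopology X) (constructibleTopology Y) U
    (h4_isClopen_constr_of_isCompact_isOpen hUo hUc) f hfc).1

/-- Constructible sets are clopen for the constructible topology. -/
theorem h4_isClopen_constr_of_isConstructible {X : Type*} [TopologicalSpace X] [CompactSpace X]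
    {s : Set X} (hs : IsConstructible s) : @IsClopen X (constructibleTopology X) s := by
  induction hs using IsConstructible.empty_union_induction with
  | open_retrocompact U hUo hUc => exact h4_isClopen_constr_of_isCompact_isOpen hUo hUc.isCompact
  | union s hs t ht hs' ht' => exact @IsClopen.union _ (constructibleTopology X) _ _ hs' ht'
  | compl s hs hs' => exact @IsClopen.compl _ (constructibleTopology X) _ hs'

/-- Preimages of constructible sets under spectral maps of spectral spaces are constructible. -/
theorem h4_isConstructible_preimage {X Y : Type*} [TopologicalSpace X] [TopologicalSpace Y]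
    [QuasiSeparatedSpace X] [CompactSpace Y] {f : X → Y} (hf : IsSpectralMap f) {s : Set Y}
    (hs : IsConstructible s) : IsConstructible (f ⁻¹' s) :=
  hs.preimage hf.continuous fun _ hUo hUc =>
    (hf.isCompact_preimage_of_isOpen hUo hUc.isCompact).isRetrocompact (hUo.preimage hf.continuous)

/-- A finite T0 space is spectral. -/
theorem h4_spectralSpace_of_finite {X : Type*} [TopologicalSpace X] [Finite X] [T0Space X] :
    SpectralSpace X := by
  refine (h4_spectralSpace_of_basis ⊥ {s : Set X | IsOpen s} isTopologicalBasis_opens
    (fun s hs t ht => hs.inter ht) isOpen_univ ?_ ?_).1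
  · exact @Finite.compactSpace X ⊥ _
  · intro s _
    exact ⟨@isClosed_discrete X ⊥ (@DiscreteTopology.mk X ⊥ rfl) s,
      @isOpen_discrete X ⊥ (@DiscreteTopology.mk X ⊥ rfl) s⟩

end Groth.Agent.Lib.helper4
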