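import Mathlib
import Groth.Agent.Lib.helper4.Spectral

/-!
# Limits of spectral spaces (helper4)
-/

set_option autoImplicit false

universe u

open Topology TopologicalSpace CategoryTheory Limits

namespace Groth.Agent.Lib.helper4

section

variable {J : Type u} [SmallCategory J] (F : J ⥤ TopCat.{u}) (c : Cone F)

/-- The canonical map from the cone point to the product. -/
def conePtToPi : c.pt → (∀ j, F.obj j) := fun x j => c.π.app j x

/-- The set of compatible families. -/
def sectionsSet : Set (∀ j, F.obj j) := {u | ∀ {i j : J} (f : i ⟶ j), F.map f (u i) = u j}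

variable {F c}

/-- The homeomorphism from the limit cone point to the space of compatible families. -/
noncomputable def limitHomeo (hc : IsLimit c) : c.pt ≃ₜ ↥(sectionsSet F) :=
  TopCat.homeoOfIso (hc.conePointUniqueUpToIso (TopCat.limitConeIsLimit.{u, u} F))

theorem conePtToPi_eq (hc : IsLimit c) :
    conePtToPi F c = Subtype.val ∘ (limitHomeo hc) := by
  funext x j
  have := IsLimit.conePointUniqueUpToIso_hom_comp hc (TopCat.limitConeIsLimit.{u, u} F) j
  have h2 := congrArg (fun g => g x) this
  simp only [TopCat.comp_app] at h2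
  exact h2.symm

theorem isEmbedding_conePtToPi (hc : IsLimit c) : IsEmbedding (conePtToPi F c) := by
  rw [conePtToPi_eq hc]
  exact IsEmbedding.subtypeVal.comp (Homeomorph.isEmbedding _)

theorem range_conePtToPi (hc : IsLimit c) : Set.range (conePtToPi F c) = sectionsSet F := by
  rw [conePtToPi_eq hc, Set.range_comp, (Homeomorph.surjective _).range_eq, Set.image_univ,
    Subtype.range_val]

variable (F) in
/-- The product of the constructible topologies. -/
@[reducible] def piConstr : TopologicalSpace (∀ j, F.obj j) :=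
  @Pi.topologicalSpace J (fun j => F.obj j) (fun j => constructibleTopology (F.obj j))

theorem isClosed_sectionsSet (hF : ∀ j, SpectralSpace (F.obj j))
    (hFm : ∀ {i j : J} (a : i ⟶ j), IsSpectralMap (F.map a : F.obj i → F.obj j)) :
    @IsClosed _ (piConstr F) (sectionsSet F) := by
  have : sectionsSet F = ⋂ (i : J) (j : J) (f : i ⟶ j), {u | F.map f (u i) = u j} := by
    ext u
    simp only [sectionsSet, Set.mem_ofPred_eq, Set.mem_iInter]
  rw [this]
  refine @isClosed_iInter _ _ (piConstr F) _ fun i => @isClosed_iInter _ _ (piConstr F) _ fun j =>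
    @isClosed_iInter _ _ (piConstr F) _ fun f => ?_
  have h1 : @Continuous _ _ (piConstr F) (constructibleTopology (F.obj j))
      (fun u : (∀ j, F.obj j) => F.map f (u i)) :=
    @Continuous.comp _ _ _ (piConstr F) (constructibleTopology (F.obj i))
      (constructibleTopology (F.obj j)) _ _
      (h4_continuous_constr_of_isSpectralMap (hFm f))
      (@continuous_apply J (fun j => F.obj j) (fun j => constructibleTopology (F.obj j)) i)
  have h2 : @Continuous _ _ (piConstr F) (constructibleTopology (F.obj j))
      (fun u : (∀ j, F.obj j) => u j) :=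
    @continuous_apply J (fun j => F.obj j) (fun j => constructibleTopology (F.obj j)) j
  exact @isClosed_eq _ _ (constructibleTopology (F.obj j)) (piConstr F) h4_t2Space_constr _ _ h1 h2

theorem limit_spectral (hF : ∀ j, SpectralSpace (F.obj j))
    (hFm : ∀ {i j : J} (a : i ⟶ j), IsSpectralMap (F.map a : F.obj i → F.obj j))
    (hc : IsLimit c) :
    SpectralSpace c.pt ∧ IsSpectralMap (conePtToPi F c) ∧
      constructibleTopology c.pt = TopologicalSpace.induced (conePtToPi F c) (piConstr F) := by
  have := hF
  obtain ⟨hP, hPc⟩ := h4_spectralSpace_pi (X := fun j => F.obj j)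
  have hr : IsClosed[constructibleTopology (∀ j, F.obj j)] (Set.range (conePtToPi F c)) := by
    rw [range_conePtToPi hc, hPc]
    exact isClosed_sectionsSet hF hFm
  have := h4_spectralSpace_of_isEmbedding (isEmbedding_conePtToPi hc) hr
  rw [hPc] at this
  exact this

theorem isSpectralMap_eval (hF : ∀ j, SpectralSpace (F.obj j)) (j : J) :
    IsSpectralMap (fun u : (∀ j, F.obj j) => u j) := by
  have := hF
  obtain ⟨hP, hPc⟩ := h4_spectralSpace_pi (X := fun j => F.obj j)
  refine h4_isSpectralMap_of_continuous_constr (continuous_apply j) ?_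
  rw [hPc]
  exact @continuous_apply J (fun j => F.obj j) (fun j => constructibleTopology (F.obj j)) j

theorem isSpectralMap_proj (hF : ∀ j, SpectralSpace (F.obj j))
    (hFm : ∀ {i j : J} (a : i ⟶ j), IsSpectralMap (F.map a : F.obj i → F.obj j))
    (hc : IsLimit c) (j : J) : IsSpectralMap (c.π.app j : c.pt → F.obj j) :=
  (isSpectralMap_eval hF j).comp (limit_spectral hF hFm hc).2.1

section Nonempty

variable (hF : ∀ j, SpectralSpace (F.obj j))
  (hFm : ∀ {i j : J} (a : i ⟶ j), IsSpectralMap (F.map a : F.obj i → F.obj j))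
  (Z : ∀ j, Set (F.obj j))
  (hmap : ∀ {i j : J} (a : i ⟶ j), Set.MapsTo (F.map a) (Z i) (Z j))

/-- The topology on `Z j` induced by the constructible topology. -/
@[reducible] def subConstr (j : J) : TopologicalSpace ↥(Z j) :=
  TopologicalSpace.induced Subtype.val (constructibleTopology (F.obj j))

include hFm hmap in
theorem continuous_restrict_constr {i j : J} (a : i ⟶ j) :
    @Continuous ↥(Z i) ↥(Z j) (subConstr Z i) (subConstr Z j)
      (fun z => ⟨F.map a z.1, hmap a z.2⟩) := by
  refine continuous_induced_rng.2 ?_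
  exact @Continuous.comp _ _ _ (subConstr Z i) (constructibleTopology (F.obj i))
    (constructibleTopology (F.obj j)) _ _
    (h4_continuous_constr_of_isSpectralMap (hFm a)) continuous_induced_dom

/-- The diagram of the `Z j` with the topologies induced by the constructible topologies. -/
def subDiagram : J ⥤ TopCat.{u} where
  obj j := @TopCat.of ↥(Z j) (subConstr Z j)
  map {i j} a := @TopCat.ofHom ↥(Z i) ↥(Z j) (subConstr Z i) (subConstr Z j)
    (@ContinuousMap.mk _ _ (subConstr Z i) (subConstr Z j) (fun z => ⟨F.map a z.1, hmap a z.2⟩)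
      (continuous_restrict_constr hFm Z hmap a))
  map_id j := by
    ext z
    show (F.map (𝟙 j)) z.1 = z.1
    rw [F.map_id]
    rfl
  map_comp f g := by
    ext z
    show (F.map (f ≫ g)) z.1 = (F.map g) ((F.map f) z.1)
    rw [F.map_comp]
    rfl

include hF hFm hmap in
theorem limit_exists_of_cofiltered [IsCofiltered J] (hc : IsLimit c)
    (hne : ∀ j, (Z j).Nonempty)
    (hcl : ∀ j, IsClosed[constructibleTopology (F.obj j)] (Z j)) :
    ∃ x : c.pt, ∀ j, c.π.app j x ∈ Z j := by
  let G := subDiagram hFm Z hmap
  have h1 : ∀ j, Nonempty (G.obj j) := fun j => (hne j).to_subtype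
  have h2 : ∀ j, CompactSpace (G.obj j) := fun j => by
    have := hF j
    exact (@isCompact_iff_compactSpace (F.obj j) (constructibleTopology (F.obj j)) (Z j)).1
      (h4_isCompact_constr_of_isClosed_constr (hcl j))
  have h3 : ∀ j, T2Space (G.obj j) := fun j => by
    have := hF j
    exact @Topology.IsEmbedding.t2Space ↥(Z j) (F.obj j) (subConstr Z j)
      (constructibleTopology (F.obj j)) h4_t2Space_constr Subtype.val
      (@Topology.IsEmbedding.mk _ _ (subConstr Z j) (constructibleTopology (F.obj j)) _
        (@Topology.IsInducing.mk _ _ (subConstr Z j) (constructibleTopology (F.obj j)) _ rfl)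
        Subtype.val_injective)
  obtain ⟨u⟩ := TopCat.nonempty_limitCone_of_compact_t2_cofiltered_system.{u, u} G
  let v : ∀ j, F.obj j := fun j => (u.1 j).1
  have hv : v ∈ sectionsSet F := by
    intro i j f
    have := u.2 f
    exact congrArg Subtype.val this
  rw [← range_conePtToPi hc] at hv
  obtain ⟨x, hx⟩ := hv
  refine ⟨x, fun j => ?_⟩
  have : c.π.app j x = v j := congrFun hx j
  rw [this]
  exact (u.1 j).2

end Nonempty

section CompactOpens

theorem preimage_proj_eq {k i : J} (a : k ⟶ i) (S : Set (F.obj i)) :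
    c.π.app i ⁻¹' S = c.π.app k ⁻¹' (F.map a ⁻¹' S) := by
  ext x
  simp only [Set.mem_preimage]
  rw [← c.w a]
  rfl

variable (F c) in
/-- Subsets of the limit pulled back from a compact open of some stage. -/
def pulledCompactOpens : Set (Set c.pt) :=
  {U | ∃ (i : J) (Ui : Set (F.obj i)), IsOpen Ui ∧ IsCompact Ui ∧ c.π.app i ⁻¹' Ui = U}

variable (hF : ∀ j, SpectralSpace (F.obj j))
  (hFm : ∀ {i j : J} (a : i ⟶ j), IsSpectralMap (F.map a : F.obj i → F.obj j))

include hF hFm in
theorem pulledCompactOpens_inter [IsCofiltered J] {U V : Set c.pt}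
    (hU : U ∈ pulledCompactOpens F c) (hV : V ∈ pulledCompactOpens F c) :
    U ∩ V ∈ pulledCompactOpens F c := by
  obtain ⟨i, Ui, hUo, hUc, rfl⟩ := hU
  obtain ⟨j, Uj, hVo, hVc, rfl⟩ := hV
  have := hF (IsCofiltered.min i j)
  refine ⟨IsCofiltered.min i j, F.map (IsCofiltered.minToLeft i j) ⁻¹' Ui ∩
    F.map (IsCofiltered.minToRight i j) ⁻¹' Uj, ?_, ?_, ?_⟩
  · exact (hUo.preimage (hFm _).continuous).inter (hVo.preimage (hFm _).continuous)
  · exact QuasiSeparatedSpace.inter_isCompact _ _ (hUo.preimage (hFm _).continuous)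
      ((hFm _).isCompact_preimage_of_isOpen hUo hUc) (hVo.preimage (hFm _).continuous)
      ((hFm _).isCompact_preimage_of_isOpen hVo hVc)
  · rw [Set.preimage_inter, ← preimage_proj_eq, ← preimage_proj_eq]

include hFm in
theorem pulledCompactOpens_union [IsCofiltered J] {U V : Set c.pt}
    (hU : U ∈ pulledCompactOpens F c) (hV : V ∈ pulledCompactOpens F c) :
    U ∪ V ∈ pulledCompactOpens F c := by
  obtain ⟨i, Ui, hUo, hUc, rfl⟩ := hU
  obtain ⟨j, Uj, hVo, hVc, rfl⟩ := hV
  refine ⟨IsCofiltered.min i j, F.map (IsCofiltered.minToLeft i j) ⁻¹' Ui ∪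
    F.map (IsCofiltered.minToRight i j) ⁻¹' Uj, ?_, ?_, ?_⟩
  · exact (hUo.preimage (hFm _).continuous).union (hVo.preimage (hFm _).continuous)
  · exact ((hFm _).isCompact_preimage_of_isOpen hUo hUc).union
      ((hFm _).isCompact_preimage_of_isOpen hVo hVc)
  · rw [Set.preimage_union, ← preimage_proj_eq, ← preimage_proj_eq]

include hF in
theorem pulledCompactOpens_univ [IsCofiltered J] : Set.univ ∈ pulledCompactOpens F c := by
  obtain ⟨i⟩ := IsCofiltered.nonempty (C := J)
  have := hF i
  exact ⟨i, Set.univ, isOpen_univ, isCompact_univ, Set.preimage_univ⟩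

theorem pulledCompactOpens_empty [IsCofiltered J] : ∅ ∈ pulledCompactOpens F c := by
  obtain ⟨i⟩ := IsCofiltered.nonempty (C := J)
  exact ⟨i, ∅, isOpen_empty, isCompact_empty, Set.preimage_empty⟩

include hF hFm in
theorem pulledCompactOpens_basic [IsCofiltered J] (W : ∀ j, Set (F.obj j)) (Fs : Finset J)
    (hW : ∀ j ∈ Fs, IsOpen (W j) ∧ IsCompact (W j)) :
    conePtToPi F c ⁻¹' ((Fs : Set J).pi W) ∈ pulledCompactOpens F c := by
  classical
  induction Fs using Finset.induction_on with
  | empty =>
    simp only [Finset.coe_empty, Set.empty_pi, Set.preimage_univ]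
    exact pulledCompactOpens_univ hF
  | insert j Fs hj ih =>
    rw [Finset.coe_insert, Set.insert_pi, Set.preimage_inter]
    refine pulledCompactOpens_inter hF hFm ?_ (ih fun k hk => hW k (Finset.mem_insert_of_mem hk))
    exact ⟨j, W j, (hW j (Finset.mem_insert_self _ _)).1, (hW j (Finset.mem_insert_self _ _)).2, rfl⟩

include hF hFm in
/-- Every quasi-compact open of a cofiltered limit of spectral spaces comes from some stage. -/
theorem mem_pulledCompactOpens [IsCofiltered J] (hc : IsLimit c) {U : Set c.pt} (hUo : IsOpen U)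
    (hUc : IsCompact U) : U ∈ pulledCompactOpens F c := by
  have := hF
  let B : Set (Set (∀ j, F.obj j)) := { S | ∃ (W : ∀ j, Set (F.obj j)) (Fs : Finset J),
      (∀ j, j ∈ Fs → W j ∈ {V : Set (F.obj j) | IsOpen V ∧ IsCompact V}) ∧ S = (Fs : Set J).pi W }
  have hbasisP : IsTopologicalBasis B :=
    isTopologicalBasis_pi (fun j => PrespectralSpace.isTopologicalBasis (X := F.obj j))
  have hbasis : IsTopologicalBasis (Set.image (Set.preimage (conePtToPi F c)) B) :=
    hbasisP.isInducing (isEmbedding_conePtToPi hc).isInducing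
  have hmem : ∀ S ∈ Set.image (Set.preimage (conePtToPi F c)) B, S ∈ pulledCompactOpens F c := by
    rintro _ ⟨_, ⟨W, Fs, hW, rfl⟩, rfl⟩
    exact pulledCompactOpens_basic hF hFm W Fs hW
  have hcomp : ∀ S ∈ pulledCompactOpens F c, IsCompact S := by
    rintro _ ⟨i, Ui, hUio, hUic, rfl⟩
    exact (isSpectralMap_proj hF hFm hc i).isCompact_preimage_of_isOpen hUio hUic
  have hb' : IsTopologicalBasis (Set.range (Subtype.val :
      (Set.image (Set.preimage (conePtToPi F c)) B) → Set c.pt)) := by
    rwa [Subtype.range_val]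
  obtain ⟨t, ht, rfl⟩ := (isCompact_open_iff_eq_finite_iUnion_of_isTopologicalBasis
    (Subtype.val : (Set.image (Set.preimage (conePtToPi F c)) B) → Set c.pt) hb'
    (fun i => hcomp _ (hmem i.1 i.2)) U).1 ⟨hUc, hUo⟩
  induction t, ht using Set.Finite.induction_on with
  | empty =>
    simp only [Set.mem_empty_iff_false, Set.iUnion_of_empty, Set.iUnion_empty]
    exact pulledCompactOpens_empty
  | @insert a t _ _ ih =>
    rw [Set.biUnion_insert]
    refine pulledCompactOpens_union hFm (hmem a.1 a.2) (ih ?_ ?_)
    · exact isOpen_biUnion fun i _ => hbasis.isOpen i.2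
    · exact ‹Set.Finite t›.isCompact_biUnion fun i _ => hcomp _ (hmem i.1 i.2)

include hF hFm in
/-- Every constructible subset of a cofiltered limit of spectral spaces comes from some stage. -/
theorem exists_constructible_stage [IsCofiltered J] (hc : IsLimit c) {E : Set c.pt}
    (hE : IsConstructible E) :
    ∃ (i : J) (Ei : Set (F.obj i)), IsConstructible Ei ∧ c.π.app i ⁻¹' Ei = E := by
  have hsp := (limit_spectral hF hFm hc).1
  induction hE using IsConstructible.empty_union_induction with
  | open_retrocompact U hUo hUc =>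
    obtain ⟨i, Ui, h1, h2, h3⟩ := mem_pulledCompactOpens hF hFm hc hUo hUc.isCompact
    have := hF i
    exact ⟨i, Ui, h2.isConstructible h1, h3⟩
  | union s hs t ht hs' ht' =>
    obtain ⟨i, Si, h1, rfl⟩ := hs'
    obtain ⟨j, Tj, h2, rfl⟩ := ht'
    have := hF i
    have := hF j
    have := hF (IsCofiltered.min i j)
    refine ⟨IsCofiltered.min i j, F.map (IsCofiltered.minToLeft i j) ⁻¹' Si ∪
      F.map (IsCofiltered.minToRight i j) ⁻¹' Tj,
      (h4_isConstructible_preimage (hFm _) h1).union (h4_isConstructible_preimage (hFm _) h2), ?_⟩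
    rw [Set.preimage_union, ← preimage_proj_eq, ← preimage_proj_eq]
  | compl s hs hs' =>
    obtain ⟨i, Si, h1, rfl⟩ := hs'
    exact ⟨i, Siᶜ, h1.compl, Set.preimage_compl⟩

end CompactOpens

end

end Groth.Agent.Lib.helper4
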