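import Mathlib

/-!
# Stratifications by atoms of a finite family of closed sets (helper4)
-/

set_option autoImplicit false
set_option linter.unusedSectionVars false

universe u

open Topology TopologicalSpace Set

namespace Groth.Agent.Lib.helper4

section

variable {X : Type u} [TopologicalSpace X] {ι : Type} [Fintype ι] [DecidableEq ι]
  (C : ι → Set X)

/-- The atom of type `A`: points lying in exactly the `C a` with `a ∈ A`. -/
def atom (A : (Finset ι)ᵒᵈ) : Set X := {x | ∀ a, x ∈ C a ↔ a ∈ OrderDual.ofDual A}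

theorem atom_eq (A : (Finset ι)ᵒᵈ) :
    atom C A = (⋂ a ∈ OrderDual.ofDual A, C a) ∩ (⋃ a ∈ (OrderDual.ofDual A)ᶜ, C a)ᶜ := by
  ext x
  simp only [atom, mem_ofPred_eq, mem_inter_iff, mem_iInter, mem_compl_iff, mem_iUnion,
    Finset.mem_compl, exists_prop, not_exists, not_and]
  constructor
  · intro h
    exact ⟨fun a ha => (h a).2 ha, fun a ha hx => ha ((h a).1 hx)⟩
  · rintro ⟨h1, h2⟩ a
    exact ⟨fun hx => by_contra fun ha => h2 a ha hx, fun ha => h1 a ha⟩

theorem isLocallyClosed_atom (hC : ∀ a, IsClosed (C a)) (A : (Finset ι)ᵒᵈ) :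
    IsLocallyClosed (atom C A) := by
  rw [atom_eq]
  refine IsLocallyClosed.inter (IsClosed.isLocallyClosed ?_) (IsOpen.isLocallyClosed ?_)
  · exact isClosed_biInter fun a _ => hC a
  · exact (isClosed_biUnion_finset fun a _ => hC a).isOpen_compl

theorem iUnion_atom : ⋃ A, atom C A = univ := by
  classical
  apply eq_univ_of_forall
  intro x
  refine mem_iUnion.2 ⟨OrderDual.toDual (Finset.univ.filter fun a => x ∈ C a), fun a => ?_⟩
  simp

theorem disjoint_atom {A B : (Finset ι)ᵒᵈ} (h : A ≠ B) : Disjoint (atom C A) (atom C B) := by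
  rw [Set.disjoint_left]
  intro x hA hB
  apply h
  apply OrderDual.ofDual.injective
  ext a
  rw [← hA a, ← hB a]

theorem closure_atom_subset (hC : ∀ a, IsClosed (C a)) (A : (Finset ι)ᵒᵈ) :
    closure (atom C A) ⊆ ⋃ B ∈ Set.Iic A, atom C B := by
  classical
  have h1 : atom C A ⊆ ⋂ a ∈ OrderDual.ofDual A, C a := by
    rw [atom_eq]
    exact inter_subset_left
  have h2 : closure (atom C A) ⊆ ⋂ a ∈ OrderDual.ofDual A, C a :=
    closure_minimal h1 (isClosed_biInter fun a _ => hC a)
  intro x hx
  have hx' := h2 hx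
  simp only [mem_iInter] at hx'
  refine mem_iUnion₂.2 ⟨OrderDual.toDual (Finset.univ.filter fun a => x ∈ C a), ?_, fun a => ?_⟩
  · show OrderDual.ofDual A ≤ Finset.univ.filter fun a => x ∈ C a
    intro a ha
    simp only [Finset.mem_filter, Finset.mem_univ, true_and]
    exact hx' a ha
  · simp

theorem atom_subset_of_dep {T : Set X}
    (hT : ∀ x y, (∀ a, x ∈ C a ↔ y ∈ C a) → (x ∈ T ↔ y ∈ T)) (A : (Finset ι)ᵒᵈ)
    (h : (atom C A ∩ T).Nonempty) : atom C A ⊆ T := by
  obtain ⟨x, hxA, hxT⟩ := h
  intro y hy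
  exact (hT x y fun a => by rw [hxA a, hy a]).1 hxT

end

section Constructible

variable {X : Type u} [TopologicalSpace X]

/-- Membership in `T` depends only on the type of a point with respect to the family `C`. -/
def DepOn {ι : Type} (C : ι → Set X) (T : Set X) : Prop :=
  ∀ x y, (∀ a, x ∈ C a ↔ y ∈ C a) → (x ∈ T ↔ y ∈ T)

theorem exists_family_of_isConstructible {T : Set X} (hT : IsConstructible T) :
    ∃ (ι : Type) (_ : Fintype ι) (C : ι → Set X),
      (∀ a, IsClosed (C a) ∧ IsRetrocompact (C a)ᶜ) ∧ DepOn C T := by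
  induction hT using IsConstructible.empty_union_induction with
  | open_retrocompact U hUo hUc =>
    refine ⟨Unit, inferInstance, fun _ => Uᶜ, fun _ => ⟨hUo.isClosed_compl, by rwa [compl_compl]⟩,
      fun x y h => ?_⟩
    have := h ()
    simp only [mem_compl_iff, not_iff_not] at this
    exact this
  | union s hs t ht hs' ht' =>
    obtain ⟨ι1, _, C1, hC1, hd1⟩ := hs'
    obtain ⟨ι2, _, C2, hC2, hd2⟩ := ht'
    refine ⟨ι1 ⊕ ι2, inferInstance, Sum.elim C1 C2, ?_, fun x y h => ?_⟩
    · rintro (a | a)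
      · exact hC1 a
      · exact hC2 a
    · have h1 := hd1 x y fun a => h (Sum.inl a)
      have h2 := hd2 x y fun a => h (Sum.inr a)
      simp only [mem_union, h1, h2]
  | compl s hs hs' =>
    obtain ⟨ι1, _, C1, hC1, hd1⟩ := hs'
    exact ⟨ι1, inferInstance, C1, hC1, fun x y h => by simp only [mem_compl_iff, hd1 x y h]⟩

theorem exists_family_of_forall_isConstructible {n : ℕ} (T : Fin n → Set X)
    (hT : ∀ k, IsConstructible (T k)) :
    ∃ (ι : Type) (_ : Fintype ι) (C : ι → Set X),
      (∀ a, IsClosed (C a) ∧ IsRetrocompact (C a)ᶜ) ∧ ∀ k, DepOn C (T k) := by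
  choose ι hfin C hC hdep using fun k => exists_family_of_isConstructible (hT k)
  let _ := hfin
  exact ⟨Σ k, ι k, inferInstance, fun p => C p.1 p.2, fun p => hC p.1 p.2,
    fun k x y hxy => hdep k x y fun a => hxy ⟨k, a⟩⟩

theorem isConstructible_atom {ι : Type} [Fintype ι] [DecidableEq ι] (C : ι → Set X)
    (hC : ∀ a, IsClosed (C a) ∧ IsRetrocompact (C a)ᶜ) (A : (Finset ι)ᵒᵈ) :
    IsConstructible (atom C A) := by
  rw [atom_eq]
  have hc : ∀ a, IsConstructible (C a) := fun a => by
    have := ((hC a).2.isConstructible (hC a).1.isOpen_compl).compl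
    rwa [compl_compl] at this
  refine IsConstructible.inter ?_ (IsConstructible.compl ?_)
  · exact IsConstructible.biInter (Finset.finite_toSet _) fun a _ => hc a
  · exact IsConstructible.biUnion (Finset.finite_toSet _) fun a _ => hc a

end Constructible

end Groth.Agent.Lib.helper4
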