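import Mathlib

/-!
# Limits and colimits in `TopCommRingCat` (helper4)
-/

universe u

open CategoryTheory Limits

namespace Groth.Agent.Lib.helper4

theorem h4_topologicalRing_sInf {R : Type*} [Ring R] {ts : Set (TopologicalSpace R)}
    (h : ∀ t ∈ ts, @IsTopologicalRing R t _) : @IsTopologicalRing R (sInf ts) _ :=
  letI := sInf ts
  { toContinuousAdd := continuousAdd_sInf fun t ht => let _ := t; (h t ht).toContinuousAdd
    toContinuousMul := continuousMul_sInf fun t ht => let _ := t; (h t ht).toContinuousMul
    toContinuousNeg := continuousNeg_sInf fun t ht => let _ := t; (h t ht).toContinuousNeg }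

theorem h4_topologicalRing_iInf {R : Type*} {ι : Sort*} [Ring R] {ts : ι → TopologicalSpace R}
    (h : ∀ i, @IsTopologicalRing R (ts i) _) : @IsTopologicalRing R (⨅ i, ts i) _ := by
  rw [← sInf_range]
  exact h4_topologicalRing_sInf (Set.forall_mem_range.mpr h)

theorem h4_topologicalRing_induced {R S : Type*} [Ring R] [Ring S] [t : TopologicalSpace S]
    [IsTopologicalRing S] (f : R →+* S) : @IsTopologicalRing R (t.induced f) _ :=
  letI := t.induced f
  { toContinuousAdd := continuousAdd_induced f
    toContinuousMul := continuousMul_induced f
    toContinuousNeg := ContinuousNeg.induced f }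

section Limits

variable {J : Type u} [SmallCategory J] (F : J ⥤ TopCommRingCat.{u})

/-- The underlying ring-valued functor. -/
abbrev ringFunctor : J ⥤ CommRingCat.{u} := F ⋙ forget₂ TopCommRingCat CommRingCat

/-- The carrier of the limit. -/
def LimPt : Type u := (limit (ringFunctor F) : CommRingCat.{u})

noncomputable instance : CommRing (LimPt F) :=
  inferInstanceAs (CommRing (limit (ringFunctor F) : CommRingCat.{u}))

/-- The projections. -/
noncomputable def limπ (j : J) : LimPt F →+* (F.obj j) := (limit.π (ringFunctor F) j).hom

noncomputable instance : TopologicalSpace (LimPt F) :=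
  ⨅ j, TopologicalSpace.induced (limπ F j) (F.obj j).isTopologicalSpace

instance : IsTopologicalRing (LimPt F) :=
  h4_topologicalRing_iInf fun j => h4_topologicalRing_induced (limπ F j)

theorem continuous_limπ (j : J) : Continuous (limπ F j) :=
  continuous_iInf_dom (i := j) continuous_induced_dom

/-- The limit cone in `TopCommRingCat`. -/
noncomputable def limCone : Cone F where
  pt := TopCommRingCat.of (LimPt F)
  π :=
    { app := fun j => ⟨limπ F j, continuous_limπ F j⟩
      naturality := fun i j f => by
        dsimp only [Functor.const_obj_obj, Functor.const_obj_map]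
        rw [Category.id_comp]
        refine Subtype.ext (RingHom.ext fun x => ?_)
        exact congrArg (fun g => g.hom x) (limit.w (ringFunctor F) f).symm }

/-- The image of `limCone` in `CommRingCat` is a limit cone. -/
noncomputable def limConeRingIsLimit :
    IsLimit ((forget₂ TopCommRingCat CommRingCat).mapCone (limCone F)) :=
  IsLimit.ofIsoLimit (limit.isLimit (ringFunctor F))
    (Cone.ext (Iso.refl _) (fun j => by
      simp only [Iso.refl_hom]
      rfl))

/-- The lift as a ring hom. -/
noncomputable def limLift (s : Cone F) : s.pt →+* LimPt F :=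
  ((limConeRingIsLimit F).lift ((forget₂ TopCommRingCat CommRingCat).mapCone s)).hom

theorem limπ_limLift (s : Cone F) (j : J) (x : s.pt) :
    limπ F j (limLift F s x) = (s.π.app j).val x := by
  have h1 := (limConeRingIsLimit F).fac ((forget₂ TopCommRingCat CommRingCat).mapCone s) j
  exact congrArg (fun g => g.hom x) h1

theorem continuous_limLift (s : Cone F) : Continuous (limLift F s) := by
  refine continuous_iInf_rng.2 fun j => continuous_induced_rng.2 ?_
  have h2 : (limπ F j) ∘ (limLift F s) = (s.π.app j).val := funext (limπ_limLift F s j)
  rw [h2]
  exact (s.π.app j).2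

/-- `limCone` is a limit cone. -/
noncomputable def limConeIsLimit : IsLimit (limCone F) :=
  IsLimit.ofFaithful (forget₂ TopCommRingCat CommRingCat) (limConeRingIsLimit F)
    (fun s => ⟨limLift F s, continuous_limLift F s⟩)
    (fun _ => rfl)

/-- The image of `limCone` in `TopCat` is a limit cone. -/
theorem limConeTop_nonempty_isLimit :
    Nonempty (IsLimit ((forget₂ TopCommRingCat TopCat).mapCone (limCone F))) := by
  have hc : IsLimit ((forget TopCat).mapCone ((forget₂ TopCommRingCat TopCat).mapCone (limCone F))) :=
    isLimitOfPreserves (forget CommRingCat) (limConeRingIsLimit F)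
  rw [TopCat.nonempty_isLimit_iff_eq_induced _ hc]
  rfl

end Limits

section Colimits

variable {J : Type u} [SmallCategory J] (F : J ⥤ TopCommRingCat.{u})

/-- The carrier of the colimit. -/
def ColimPt : Type u := (colimit (ringFunctor F) : CommRingCat.{u})

noncomputable instance : CommRing (ColimPt F) :=
  inferInstanceAs (CommRing (colimit (ringFunctor F) : CommRingCat.{u}))

/-- The coprojections. -/
noncomputable def colimι (j : J) : (F.obj j) →+* ColimPt F := (colimit.ι (ringFunctor F) j).hom

/-- The ring topologies making all coprojections continuous. -/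
def colimTopSet : Set (TopologicalSpace (ColimPt F)) :=
  {t | @IsTopologicalRing _ t _ ∧
    ∀ j, @Continuous _ _ (F.obj j).isTopologicalSpace t (colimι F j)}

noncomputable instance : TopologicalSpace (ColimPt F) := sInf (colimTopSet F)

instance : IsTopologicalRing (ColimPt F) :=
  h4_topologicalRing_sInf fun _ ht => ht.1

theorem continuous_colimι (j : J) : Continuous (colimι F j) :=
  continuous_sInf_rng.2 fun _ ht => ht.2 j

/-- The colimit cocone in `TopCommRingCat`. -/
noncomputable def colimCocone : Cocone F where
  pt := TopCommRingCat.of (ColimPt F)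
  ι :=
    { app := fun j => ⟨colimι F j, continuous_colimι F j⟩
      naturality := fun i j f => by
        dsimp only [Functor.const_obj_obj, Functor.const_obj_map]
        rw [Category.comp_id]
        refine Subtype.ext (RingHom.ext fun x => ?_)
        exact congrArg (fun g => g.hom x) (colimit.w (ringFunctor F) f) }

/-- The image of `colimCocone` in `CommRingCat` is a colimit cocone. -/
noncomputable def colimCoconeRingIsColimit :
    IsColimit ((forget₂ TopCommRingCat CommRingCat).mapCocone (colimCocone F)) :=
  IsColimit.ofIsoColimit (colimit.isColimit (ringFunctor F))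
    (Cocone.ext (Iso.refl _) (fun j => by
      simp only [Iso.refl_hom]
      rfl))

/-- The descent map as a ring hom. -/
noncomputable def colimDesc (s : Cocone F) : ColimPt F →+* s.pt :=
  ((colimCoconeRingIsColimit F).desc ((forget₂ TopCommRingCat CommRingCat).mapCocone s)).hom

theorem colimDesc_colimι (s : Cocone F) (j : J) (x : F.obj j) :
    colimDesc F s (colimι F j x) = (s.ι.app j).val x := by
  have h1 := (colimCoconeRingIsColimit F).fac ((forget₂ TopCommRingCat CommRingCat).mapCocone s) j
  exact congrArg (fun g => g.hom x) h1

theorem continuous_colimDesc (s : Cocone F) : Continuous (colimDesc F s) := by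
  refine continuous_sInf_dom (t := TopologicalSpace.induced (colimDesc F s) s.pt.isTopologicalSpace)
    ⟨h4_topologicalRing_induced (colimDesc F s), fun j => continuous_induced_rng.2 ?_⟩
    continuous_induced_dom
  have h2 : (colimDesc F s) ∘ (colimι F j) = (s.ι.app j).val := funext (colimDesc_colimι F s j)
  rw [h2]
  exact (s.ι.app j).2

/-- `colimCocone` is a colimit cocone. -/
noncomputable def colimCoconeIsColimit : IsColimit (colimCocone F) :=
  IsColimit.ofFaithful (forget₂ TopCommRingCat CommRingCat) (colimCoconeRingIsColimit F)
    (fun s => ⟨colimDesc F s, continuous_colimDesc F s⟩)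
    (fun _ => rfl)

end Colimits

end Groth.Agent.Lib.helper4
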