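import Mathlib
import Groth.Agent.Lib.helper4.UHR6

set_option autoImplicit false
universe u
open CategoryTheory AlgebraicGeometry

namespace Groth.Agent.Lib.helper4

open Groth.Agent.Lib.helper7

theorem uhr_ker_nil {R S : Type u} [CommRing R] [CommRing S] (φ : R →+* S)
    (hs : Function.Surjective (PrimeSpectrum.comap φ)) : RingHom.ker φ ≤ nilradical R := by
  intro a ha
  rw [mem_nilradical, nilpotent_iff_mem_prime]
  intro J hJ
  obtain ⟨q, hq⟩ := hs ⟨J, hJ⟩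
  have h2 : (PrimeSpectrum.comap φ q).asIdeal = J := by rw [hq]
  rw [← h2]
  show φ a ∈ q.asIdeal
  rw [(RingHom.mem_ker).mp ha]; exact Ideal.zero_mem _

theorem uhr_colim_aux {A B : Type u} [CommRing A] [CommRing B] (φ : A →+* B) {ι : Type u}
    (Bj : ι → Type u) [∀ j, CommRing (Bj j)] (φj : ∀ j, A →+* Bj j) (gj : ∀ j, Bj j →+* B)
    (hcomp : ∀ j, (gj j).comp (φj j) = φ) (hsurj : ∀ b, ∃ j x, gj j x = b) :
    ((∀ j, (φj j).IsIntegral) → φ.IsIntegral) ∧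
    ((∀ j, ∀ (K : Type u) [Field K] (σ₁ σ₂ : Bj j →+* K),
        σ₁.comp (φj j) = σ₂.comp (φj j) → σ₁ = σ₂) →
      ∀ (K : Type u) [Field K] (σ₁ σ₂ : B →+* K), σ₁.comp φ = σ₂.comp φ → σ₁ = σ₂) ∧
    ((∀ j, RRes (φj j)) → RRes φ) := by
  refine ⟨?_, ?_, ?_⟩
  · intro h b
    obtain ⟨j, x, rfl⟩ := hsurj b
    obtain ⟨p, hp, hpx⟩ := h j x
    refine ⟨p, hp, ?_⟩
    rw [← hcomp j, ← Polynomial.hom_eval₂, hpx, map_zero]
  · intro h K _ σ₁ σ₂ hσ
    apply RingHom.ext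
    intro b
    obtain ⟨j, x, rfl⟩ := hsurj b
    have h1 := h j K (σ₁.comp (gj j)) (σ₂.comp (gj j)) (by
      rw [RingHom.comp_assoc, RingHom.comp_assoc, hcomp j, hσ])
    exact congrFun (congrArg DFunLike.coe h1) x
  · intro h y b
    obtain ⟨j, x, rfl⟩ := hsurj b
    obtain ⟨a, s, hs, hsa⟩ := h j (PrimeSpectrum.comap (gj j) y) x
    have e : ∀ a : A, gj j (φj j a) = φ a := fun a => congrFun (congrArg DFunLike.coe (hcomp j)) a
    refine ⟨a, s, ?_, ?_⟩
    · intro hc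
      apply hs
      show gj j (φj j s) ∈ y.asIdeal
      rw [e]; exact hc
    · have h2 : gj j (φj j s * x - φj j a) ∈ y.asIdeal := hsa
      rw [map_sub, map_mul, e, e] at h2
      exact h2

end Groth.Agent.Lib.helper4
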