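import Mathlib
import Groth.Agent.Lib.helper4.UHR7

set_option autoImplicit false
universe u
open CategoryTheory AlgebraicGeometry

namespace Groth.Agent.Lib.helper4

open Groth.Agent.Lib.helper7

section Good

variable {A : Type u} [CommRing A]

/-- the rule: square and cube, and (if `awn`) the prime rule -/
def Rule (awn : Bool) {C : Type u} [CommRing C] [Algebra A C] (T : Subalgebra A C) (b : C) : Prop :=
  (b ^ 2 ∈ T ∧ b ^ 3 ∈ T) ∨ (awn = true ∧ ∃ p : ℕ, p.Prime ∧ (p : C) * b ∈ T ∧ b ^ p ∈ T)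

/-- `C` is generated from `A` by iterating the rule -/
def Good (awn : Bool) (A C : Type u) [CommRing A] [CommRing C] [Algebra A C] : Prop :=
  ∀ T : Subalgebra A C, (∀ b, Rule awn T b → b ∈ T) → ∀ c : C, c ∈ T

variable {C D : Type u} [CommRing C] [CommRing D] [Algebra A C] [Algebra A D]

theorem rule_mono (awn : Bool) {T T' : Subalgebra A C} (h : T ≤ T') {b : C} (hb : Rule awn T b) :
    Rule awn T' b := by
  rcases hb with ⟨h2, h3⟩ | ⟨ha, p, hp, h1, h2⟩
  · exact Or.inl ⟨h h2, h h3⟩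
  · exact Or.inr ⟨ha, p, hp, h h1, h h2⟩

theorem rule_comap (awn : Bool) (f : C →ₐ[A] D) (T : Subalgebra A D) {b : C}
    (hb : Rule awn (T.comap f) b) : Rule awn T (f b) := by
  rcases hb with ⟨h2, h3⟩ | ⟨ha, p, hp, h1, h2⟩
  · left
    refine ⟨?_, ?_⟩
    · rw [← map_pow]; exact h2
    · rw [← map_pow]; exact h3
  · right
    refine ⟨ha, p, hp, ?_, ?_⟩
    · have h3 : f ((p : C) * b) ∈ T := h1
      rw [map_mul, map_natCast] at h3
      exact h3
    · rw [← map_pow]; exact h2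

theorem good_range_le (awn : Bool) (hC : Good awn A C) (f : C →ₐ[A] D) (T : Subalgebra A D)
    (hT : ∀ b, Rule awn T b → b ∈ T) : f.range ≤ T := by
  rintro d ⟨c, rfl⟩
  have h1 := hC (T.comap f) (fun b hb => hT _ (rule_comap awn f T hb)) c
  exact h1

theorem good_int (awn : Bool) (hC : Good awn A C) : (algebraMap A C).IsIntegral := by
  intro c
  refine hC (integralClosure A C) ?_ c
  rintro b (⟨h2, -⟩ | ⟨-, p, hp, -, h2⟩)
  · exact IsIntegral.of_pow (n := 2) two_pos h2
  · exact IsIntegral.of_pow (n := p) hp.pos h2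

theorem good_pts (awn : Bool) (hC : Good awn A C) (K : Type u) [Field K] (σ₁ σ₂ : C →+* K)
    (hσ : σ₁.comp (algebraMap A C) = σ₂.comp (algebraMap A C)) : σ₁ = σ₂ := by
  apply RingHom.ext
  intro c
  refine hC (uhr_eqSub σ₁ σ₂ hσ) ?_ c
  rintro b (⟨h2, h3⟩ | ⟨-, p, hp, h1, h2⟩)
  · exact uhr_eqSub_closed σ₁ σ₂ hσ b h2 h3
  · exact uhr_eqSub_closed_p σ₁ σ₂ hσ p hp b h1 h2

theorem good_res (hC : Good false A C) : RRes (algebraMap A C) := by
  intro y c
  rw [← uhr_mem_resSub]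
  refine hC (uhr_resSub y) ?_ c
  rintro b (⟨h2, h3⟩ | ⟨ha, -⟩)
  · exact uhr_resSub_closed y b h2 h3
  · exact absurd ha (by decide)

theorem good_ruh (awn : Bool) (hC : Good awn A C)
    (hker : RingHom.ker (algebraMap A C) ≤ nilradical A) : RUH (algebraMap A C) :=
  ⟨good_int awn hC, uhr_comap_surj _ (good_int awn hC) hker, good_pts awn hC⟩

end Good

end Groth.Agent.Lib.helper4
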