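import Mathlib
import Groth.Agent.Lib.helper4.UHR8

set_option autoImplicit false
universe u
open CategoryTheory AlgebraicGeometry MvPolynomial

namespace Groth.Agent.Lib.helper4

open Groth.Agent.Lib.helper7

section PreIdx

variable {A B : Type u} [CommRing A] [CommRing B] [Algebra A B]

/-- finite presentations over `A` mapping to `B`: variables indexed by a finite subset of `B` -/
structure PreIdx (A B : Type u) [CommRing A] [CommRing B] [Algebra A B] where
  S : Finset B
  R : Finset (MvPolynomial S A)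
  hR : ∀ r ∈ R, aeval (fun s : S => (s : B)) r = 0

/-- the presented algebra -/
abbrev Q (i : PreIdx A B) : Type u := MvPolynomial i.S A ⧸ Ideal.span (i.R : Set (MvPolynomial i.S A))

/-- the inclusion of variable sets -/
def incl {S₁ S₂ : Finset B} (h : S₁ ⊆ S₂) : S₁ → S₂ := fun s => ⟨s.1, h s.2⟩

omit [CommRing B] in
theorem incl_val {S₁ S₂ : Finset B} (h : S₁ ⊆ S₂) :
    (fun s : S₂ => (s : B)) ∘ incl h = fun s : S₁ => (s : B) := rfl

omit [CommRing B] in
theorem incl_refl {S₁ : Finset B} (h : S₁ ⊆ S₁) : incl h = id := rfl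

omit [CommRing B] in
theorem incl_comp {S₁ S₂ S₃ : Finset B} (h : S₁ ⊆ S₂) (h' : S₂ ⊆ S₃) (h'' : S₁ ⊆ S₃) :
    incl h' ∘ incl h = incl h'' := rfl

theorem span_le_ker (i : PreIdx A B) :
    ∀ a ∈ Ideal.span (i.R : Set (MvPolynomial i.S A)), aeval (fun s : i.S => (s : B)) a = 0 := by
  intro a ha
  have h1 : Ideal.span (i.R : Set (MvPolynomial i.S A)) ≤
      RingHom.ker (aeval (fun s : i.S => (s : B)) : MvPolynomial i.S A →ₐ[A] B) := by
    rw [Ideal.span_le]
    intro r hr
    exact (RingHom.mem_ker).mpr (i.hR r hr)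
  exact (RingHom.mem_ker).mp (h1 ha)

/-- the map to `B` -/
noncomputable def gmap (i : PreIdx A B) : Q i →ₐ[A] B :=
  Ideal.Quotient.liftₐ _ (aeval (fun s : i.S => (s : B))) (span_le_ker i)

theorem gmap_mk (i : PreIdx A B) (f : MvPolynomial i.S A) :
    gmap i (Ideal.Quotient.mk _ f) = aeval (fun s : i.S => (s : B)) f := rfl

/-- the order -/
def PreIdx.le (i j : PreIdx A B) : Prop :=
  i.S ⊆ j.S ∧ ∀ h : i.S ⊆ j.S, ∀ r ∈ i.R,
    rename (incl h) r ∈ Ideal.span (j.R : Set (MvPolynomial j.S A))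

theorem PreIdx.le_refl (i : PreIdx A B) : i.le i := by
  refine ⟨Finset.Subset.refl _, fun h r hr => ?_⟩
  rw [incl_refl, rename_id]
  exact Ideal.subset_span hr

theorem rename_mem_span {i j : PreIdx A B} (hij : i.le j) (a : MvPolynomial i.S A)
    (ha : a ∈ Ideal.span (i.R : Set (MvPolynomial i.S A))) :
    rename (incl hij.1) a ∈ Ideal.span (j.R : Set (MvPolynomial j.S A)) := by
  have h1 : Ideal.span (i.R : Set (MvPolynomial i.S A)) ≤
      (Ideal.span (j.R : Set (MvPolynomial j.S A))).comap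
        (rename (incl hij.1) : MvPolynomial i.S A →ₐ[A] MvPolynomial j.S A) := by
    rw [Ideal.span_le]
    intro r hr
    exact hij.2 hij.1 r hr
  exact h1 ha

theorem PreIdx.le_trans {i j k : PreIdx A B} (hij : i.le j) (hjk : j.le k) : i.le k := by
  refine ⟨hij.1.trans hjk.1, fun h r hr => ?_⟩
  have h1 := rename_mem_span hjk _ (hij.2 hij.1 r hr)
  rw [rename_rename] at h1
  exact h1

/-- the transition maps -/
noncomputable def tmap {i j : PreIdx A B} (hij : i.le j) : Q i →ₐ[A] Q j :=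
  Ideal.Quotient.liftₐ _ ((Ideal.Quotient.mkₐ A (Ideal.span (j.R : Set (MvPolynomial j.S A)))).comp
    (rename (incl hij.1))) (by
    intro a ha
    exact Ideal.Quotient.eq_zero_iff_mem.mpr (rename_mem_span hij a ha))

theorem tmap_mk {i j : PreIdx A B} (hij : i.le j) (f : MvPolynomial i.S A) :
    tmap hij (Ideal.Quotient.mk _ f) = Ideal.Quotient.mk _ (rename (incl hij.1) f) := rfl

theorem gmap_tmap {i j : PreIdx A B} (hij : i.le j) (x : Q i) : gmap j (tmap hij x) = gmap i x := by
  obtain ⟨f, rfl⟩ := Ideal.Quotient.mk_surjective x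
  rw [tmap_mk, gmap_mk, gmap_mk, aeval_rename, incl_val]

theorem tmap_refl (i : PreIdx A B) (h : i.le i) (x : Q i) : tmap h x = x := by
  obtain ⟨f, rfl⟩ := Ideal.Quotient.mk_surjective x
  rw [tmap_mk, incl_refl, rename_id]
  rfl

theorem tmap_trans {i j k : PreIdx A B} (hij : i.le j) (hjk : j.le k) (hik : i.le k) (x : Q i) :
    tmap hjk (tmap hij x) = tmap hik x := by
  obtain ⟨f, rfl⟩ := Ideal.Quotient.mk_surjective x
  rw [tmap_mk, tmap_mk, tmap_mk, rename_rename]
  rfl

/-- the presented algebra is generated by the classes of the variables -/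
theorem Q_gen (i : PreIdx A B) (T : Subalgebra A (Q i))
    (hT : ∀ s : i.S, (Ideal.Quotient.mk _ (X s) : Q i) ∈ T) : ∀ x : Q i, x ∈ T := by
  intro x
  obtain ⟨f, rfl⟩ := Ideal.Quotient.mk_surjective x
  induction f using MvPolynomial.induction_on with
  | C a => exact T.algebraMap_mem a
  | add p q hp hq => rw [map_add]; exact T.add_mem hp hq
  | mul_X p s hp => rw [map_mul]; exact T.mul_mem hp (hT s)

theorem tmap_X {i j : PreIdx A B} (hij : i.le j) (s : i.S) :
    tmap hij (Ideal.Quotient.mk _ (X s)) = Ideal.Quotient.mk _ (X (incl hij.1 s)) := by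
  rw [tmap_mk, rename_X]

/-- criterion for goodness of a bigger index -/
theorem good_gen (awn : Bool) {i₀ i : PreIdx A B} (h₀ : Good awn A (Q i₀)) (hle : i₀.le i)
    (hS : ∀ T : Subalgebra A (Q i), (∀ b, Rule awn T b → b ∈ T) → (tmap hle).range ≤ T →
      ∀ s : i.S, (s : B) ∉ i₀.S → (Ideal.Quotient.mk _ (X s) : Q i) ∈ T) :
    Good awn A (Q i) := by
  intro T hT
  have hr : (tmap hle).range ≤ T := good_range_le awn h₀ (tmap hle) T hT
  apply Q_gen i T
  intro s
  by_cases hs : (s : B) ∈ i₀.S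
  · apply hr
    refine ⟨Ideal.Quotient.mk _ (X ⟨(s : B), hs⟩), ?_⟩
    show tmap hle (Ideal.Quotient.mk _ (X ⟨(s : B), hs⟩)) = _
    rw [tmap_X]
    rfl
  · exact hS T hT hr s hs

theorem ker_le_of_gmap (i : PreIdx A B) (hker : RingHom.ker (algebraMap A B) ≤ nilradical A) :
    RingHom.ker (algebraMap A (Q i)) ≤ nilradical A := by
  intro a ha
  apply hker
  rw [RingHom.mem_ker] at ha ⊢
  rw [← (gmap i).commutes a, ha, map_zero]

instance (i : PreIdx A B) : Algebra.FinitePresentation A (Q i) :=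
  Algebra.FinitePresentation.quotient ⟨i.R, rfl⟩

end PreIdx

end Groth.Agent.Lib.helper4
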