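import Mathlib
import Groth.Agent.Lib.helper4.UHR9

set_option autoImplicit false
universe u
open CategoryTheory AlgebraicGeometry MvPolynomial

namespace Groth.Agent.Lib.helper4

open Groth.Agent.Lib.helper7

section Idx

attribute [local instance] Classical.propDecidable

variable {A B : Type u} [CommRing A] [CommRing B] [Algebra A B]

/-- good indices -/
structure Idx (awn : Bool) (A B : Type u) [CommRing A] [CommRing B] [Algebra A B] extends
    PreIdx A B where
  good : Good awn A (Q toPreIdx)

instance (awn : Bool) : Preorder (Idx awn A B) where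
  le i j := i.toPreIdx.le j.toPreIdx
  le_refl i := PreIdx.le_refl _
  le_trans _ _ _ := PreIdx.le_trans

theorem idx_le_iff (awn : Bool) (i j : Idx awn A B) : i ≤ j ↔ i.toPreIdx.le j.toPreIdx := Iff.rfl

/-- the empty index -/
def emptyPre (A B : Type u) [CommRing A] [CommRing B] [Algebra A B] : PreIdx A B :=
  ⟨∅, ∅, by intro r hr; simp at hr⟩

theorem emptyGood (awn : Bool) : Good awn A (Q (emptyPre A B)) := by
  intro T _
  apply Q_gen
  intro s
  have h : (s : B) ∈ (∅ : Finset B) := s.2
  exact absurd h (Finset.notMem_empty _)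

instance (awn : Bool) : Nonempty (Idx awn A B) := ⟨⟨emptyPre A B, emptyGood awn⟩⟩

/-- union of two indices -/
@[reducible] noncomputable def unionPre (i j : PreIdx A B) : PreIdx A B where
  S := i.S ∪ j.S
  R := (i.R.image (rename (incl (Finset.subset_union_left (s₁ := i.S) (s₂ := j.S))))) ∪
    (j.R.image (rename (incl (Finset.subset_union_right (s₁ := i.S) (s₂ := j.S)))))
  hR := by
    intro r hr
    rw [Finset.mem_union, Finset.mem_image, Finset.mem_image] at hr
    rcases hr with ⟨r₀, hr₀, rfl⟩ | ⟨r₀, hr₀, rfl⟩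
    · rw [aeval_rename, incl_val]; exact i.hR r₀ hr₀
    · rw [aeval_rename, incl_val]; exact j.hR r₀ hr₀

theorem unionPre_le_left (i j : PreIdx A B) : i.le (unionPre i j) := by
  refine ⟨Finset.subset_union_left, fun h r hr => Ideal.subset_span ?_⟩
  show _ ∈ (↑(unionPre i j).R : Set (MvPolynomial (unionPre i j).S A))
  rw [Finset.mem_coe]
  unfold unionPre
  simp only [Finset.mem_union, Finset.mem_image]
  exact Or.inl ⟨r, hr, rfl⟩

theorem unionPre_le_right (i j : PreIdx A B) : j.le (unionPre i j) := by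
  refine ⟨Finset.subset_union_right, fun h r hr => Ideal.subset_span ?_⟩
  show _ ∈ (↑(unionPre i j).R : Set (MvPolynomial (unionPre i j).S A))
  rw [Finset.mem_coe]
  unfold unionPre
  simp only [Finset.mem_union, Finset.mem_image]
  exact Or.inr ⟨r, hr, rfl⟩

theorem unionGood (awn : Bool) (i j : PreIdx A B) (hi : Good awn A (Q i)) (hj : Good awn A (Q j)) :
    Good awn A (Q (unionPre i j)) := by
  refine good_gen awn hi (unionPre_le_left i j) ?_
  intro T hT _ s hs
  have hs2 : (s : B) ∈ j.S := by
    have h1 : (s : B) ∈ i.S ∪ j.S := s.2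
    rw [Finset.mem_union] at h1
    exact h1.resolve_left hs
  apply good_range_le awn hj (tmap (unionPre_le_right i j)) T hT
  refine ⟨Ideal.Quotient.mk _ (X ⟨(s : B), hs2⟩), ?_⟩
  show tmap (unionPre_le_right i j) (Ideal.Quotient.mk _ (X ⟨(s : B), hs2⟩)) = _
  rw [tmap_X]
  rfl

instance (awn : Bool) : IsDirected (Idx awn A B) (· ≤ ·) :=
  ⟨fun i j => ⟨⟨unionPre i.toPreIdx j.toPreIdx, unionGood awn _ _ i.good j.good⟩,
    unionPre_le_left _ _, unionPre_le_right _ _⟩⟩

/-- adding one relation -/
@[reducible] noncomputable def relPre (i : PreIdx A B) (f : MvPolynomial i.S A)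
    (hf : aeval (fun s : i.S => (s : B)) f = 0) : PreIdx A B where
  S := i.S
  R := insert f i.R
  hR := by
    intro r hr
    rw [Finset.mem_insert] at hr
    rcases hr with rfl | hr
    · exact hf
    · exact i.hR r hr

theorem relPre_rename (i : PreIdx A B) (f : MvPolynomial i.S A)
    (hf : aeval (fun s : i.S => (s : B)) f = 0) (h : i.S ⊆ (relPre i f hf).S)
    (g : MvPolynomial i.S A) :
    rename (incl h) g = (g : MvPolynomial (relPre i f hf).S A) := by
  show rename (incl (Finset.Subset.refl i.S)) g = g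
  rw [incl_refl, rename_id]
  rfl

theorem relPre_le (i : PreIdx A B) (f : MvPolynomial i.S A)
    (hf : aeval (fun s : i.S => (s : B)) f = 0) : i.le (relPre i f hf) := by
  refine ⟨Finset.Subset.refl _, fun h r hr => ?_⟩
  rw [relPre_rename]
  apply Ideal.subset_span
  show r ∈ (↑(relPre i f hf).R : Set (MvPolynomial (relPre i f hf).S A))
  rw [Finset.mem_coe]
  unfold relPre
  classical
  exact Finset.mem_insert_of_mem hr

theorem relGood (awn : Bool) (i : PreIdx A B) (f : MvPolynomial i.S A)
    (hf : aeval (fun s : i.S => (s : B)) f = 0) (hi : Good awn A (Q i)) :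
    Good awn A (Q (relPre i f hf)) := by
  refine good_gen awn hi (relPre_le i f hf) ?_
  intro T _ _ s hs
  exact absurd s.2 hs

theorem relPre_kill (i : PreIdx A B) (f : MvPolynomial i.S A)
    (hf : aeval (fun s : i.S => (s : B)) f = 0) :
    tmap (relPre_le i f hf) (Ideal.Quotient.mk _ f) = 0 := by
  rw [tmap_mk, relPre_rename]
  apply Ideal.Quotient.eq_zero_iff_mem.mpr
  apply Ideal.subset_span
  show f ∈ (↑(relPre i f hf).R : Set (MvPolynomial (relPre i f hf).S A))
  rw [Finset.mem_coe]
  unfold relPre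
  classical
  exact Finset.mem_insert_self f i.R

theorem idx_eq (awn : Bool) (i : Idx awn A B) (x y : Q i.toPreIdx)
    (h : gmap i.toPreIdx x = gmap i.toPreIdx y) :
    ∃ (k : Idx awn A B) (hk : i ≤ k), tmap hk x = tmap hk y := by
  obtain ⟨fx, rfl⟩ := Ideal.Quotient.mk_surjective x
  obtain ⟨fy, rfl⟩ := Ideal.Quotient.mk_surjective y
  have hf : aeval (fun s : i.S => (s : B)) (fx - fy) = 0 := by
    rw [map_sub, sub_eq_zero]; exact h
  refine ⟨⟨relPre i.toPreIdx (fx - fy) hf, relGood awn _ _ hf i.good⟩,
    relPre_le i.toPreIdx (fx - fy) hf, ?_⟩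
  have h1 := relPre_kill i.toPreIdx (fx - fy) hf
  rw [map_sub, map_sub, sub_eq_zero] at h1
  exact h1

/-- adding one variable and some relations -/
@[reducible] noncomputable def extPre (i : PreIdx A B) (b : B)
    (Rn : Finset (MvPolynomial (insert b i.S : Finset B) A))
    (hRn : ∀ r ∈ Rn, aeval (fun s : (insert b i.S : Finset B) => (s : B)) r = 0) : PreIdx A B where
  S := insert b i.S
  R := (i.R.image (rename (incl (Finset.subset_insert b i.S)))) ∪ Rn
  hR := by
    intro r hr
    rw [Finset.mem_union, Finset.mem_image] at hr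
    rcases hr with ⟨r₀, hr₀, rfl⟩ | hr
    · rw [aeval_rename, incl_val]; exact i.hR r₀ hr₀
    · exact hRn r hr

theorem extPre_le (i : PreIdx A B) (b : B)
    (Rn : Finset (MvPolynomial (insert b i.S : Finset B) A))
    (hRn : ∀ r ∈ Rn, aeval (fun s : (insert b i.S : Finset B) => (s : B)) r = 0) :
    i.le (extPre i b Rn hRn) := by
  classical
  refine ⟨Finset.subset_insert b i.S, fun h r hr => Ideal.subset_span ?_⟩
  show _ ∈ (↑(extPre i b Rn hRn).R : Set (MvPolynomial (extPre i b Rn hRn).S A))
  rw [Finset.mem_coe]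
  unfold extPre
  simp only [Finset.mem_union, Finset.mem_image]
  exact Or.inl ⟨r, hr, rfl⟩

theorem extPre_rel (i : PreIdx A B) (b : B)
    (Rn : Finset (MvPolynomial (insert b i.S : Finset B) A))
    (hRn : ∀ r ∈ Rn, aeval (fun s : (insert b i.S : Finset B) => (s : B)) r = 0)
    (r : MvPolynomial (insert b i.S : Finset B) A) (hr : r ∈ Rn) :
    (Ideal.Quotient.mk (Ideal.span
      (↑(extPre i b Rn hRn).R : Set (MvPolynomial (extPre i b Rn hRn).S A))) r) = 0 := by
  classical
  apply Ideal.Quotient.eq_zero_iff_mem.mpr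
  apply Ideal.subset_span
  rw [Finset.mem_coe]
  unfold extPre
  simp only [Finset.mem_union, Finset.mem_image]
  exact Or.inr hr

end Idx

end Groth.Agent.Lib.helper4
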