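import Mathlib
import Groth.Agent.Lib.helper4.UHR10

set_option autoImplicit false
universe u
open CategoryTheory AlgebraicGeometry MvPolynomial

namespace Groth.Agent.Lib.helper4

open Groth.Agent.Lib.helper7

section TowerIdx

attribute [local instance] Classical.propDecidable

variable {A B : Type u} [CommRing A] [CommRing B] [Algebra A B]

theorem rule_hP (awn : Bool) : ∀ (S T : Subalgebra A B) (b : B), S ≤ T →
    Rule awn S b → Rule awn T b := fun _ _ _ h hb => rule_mono awn h hb

theorem rule_tower_top (awn : Bool) (hU : RUH (algebraMap A B))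
    (hR : awn = false → RRes (algebraMap A B)) :
    towerSub (fun (S : Subalgebra A B) (b : B) => Rule awn S b) (rule_hP awn) = ⊤ := by
  apply tower_top
  intro B' hB'
  cases awn with
  | false =>
    obtain ⟨b, hb, h2, h3⟩ := uhr_sqcube (B'.val : B' →+* B) (val_not_surj B' hB')
      (uhr_val_ruh B' hU) (uhr_val_res B' (hR rfl))
    refine ⟨b, not_mem_of_not_mem_range_val B' b hb, {b ^ 2, b ^ 3}, ?_, ?_⟩
    · intro e he
      rw [Finset.mem_insert, Finset.mem_singleton] at he
      rcases he with rfl | rfl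
      · exact mem_of_mem_range_val B' _ h2
      · exact mem_of_mem_range_val B' _ h3
    · intro S hS
      exact Or.inl ⟨hS (by simp), hS (by simp)⟩
  | true =>
    rcases uhr_sqcube_or_p (B'.val : B' →+* B) (val_not_surj B' hB') (uhr_val_ruh B' hU) with
      ⟨b, hb, h2, h3⟩ | ⟨p, b, hp, hb, h2, h3⟩
    · refine ⟨b, not_mem_of_not_mem_range_val B' b hb, {b ^ 2, b ^ 3}, ?_, ?_⟩
      · intro e he
        rw [Finset.mem_insert, Finset.mem_singleton] at he
        rcases he with rfl | rfl
        · exact mem_of_mem_range_val B' _ h2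
        · exact mem_of_mem_range_val B' _ h3
      · intro S hS
        exact Or.inl ⟨hS (by simp), hS (by simp)⟩
    · refine ⟨b, not_mem_of_not_mem_range_val B' b hb, {(p : B) * b, b ^ p}, ?_, ?_⟩
      · intro e he
        rw [Finset.mem_insert, Finset.mem_singleton] at he
        rcases he with rfl | rfl
        · exact mem_of_mem_range_val B' _ h2
        · exact mem_of_mem_range_val B' _ h3
      · intro S hS
        exact Or.inr ⟨rfl, p, hp, hS (by simp), hS (by simp)⟩

/-- the step: adjoining `b` with two relations `E₁ = U`, `E₂ = V` -/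
theorem idx_step (awn : Bool) (i₀ : Idx awn A B) (b : B)
    (E₁ E₂ : MvPolynomial (insert b i₀.S : Finset B) A) (U V : MvPolynomial i₀.S A)
    (h₁ : aeval (fun s : (insert b i₀.S : Finset B) => (s : B)) E₁ =
      aeval (fun s : i₀.S => (s : B)) U)
    (h₂ : aeval (fun s : (insert b i₀.S : Finset B) => (s : B)) E₂ =
      aeval (fun s : i₀.S => (s : B)) V)
    (hrule : ∀ (C : Type u) [CommRing C] [Algebra A C] (f : MvPolynomial (insert b i₀.S : Finset B) A →ₐ[A] C)
      (T : Subalgebra A C), f E₁ ∈ T → f E₂ ∈ T →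
        Rule awn T (f (X ⟨b, Finset.mem_insert_self b i₀.S⟩))) :
    ∃ i : Idx awn A B, i₀ ≤ i ∧ b ∈ (gmap i.toPreIdx).range := by
  have hRn : ∀ r ∈ ({E₁ - rename (incl (Finset.subset_insert b i₀.S)) U,
      E₂ - rename (incl (Finset.subset_insert b i₀.S)) V} :
      Finset (MvPolynomial (insert b i₀.S : Finset B) A)),
      aeval (fun s : (insert b i₀.S : Finset B) => (s : B)) r = 0 := by
    intro r hr
    rw [Finset.mem_insert, Finset.mem_singleton] at hr
    rcases hr with rfl | rfl
    · rw [map_sub, aeval_rename, incl_val, h₁, sub_self]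
    · rw [map_sub, aeval_rename, incl_val, h₂, sub_self]
  obtain ⟨Rn, hRndef⟩ : ∃ Rn : Finset (MvPolynomial (insert b i₀.S : Finset B) A),
      Rn = {E₁ - rename (incl (Finset.subset_insert b i₀.S)) U,
        E₂ - rename (incl (Finset.subset_insert b i₀.S)) V} := ⟨_, rfl⟩
  rw [← hRndef] at hRn
  have hle := extPre_le i₀.toPreIdx b Rn hRn
  have e₁ : (Ideal.Quotient.mk (Ideal.span (↑(extPre i₀.toPreIdx b Rn hRn).R :
      Set (MvPolynomial (extPre i₀.toPreIdx b Rn hRn).S A))) E₁) =
      tmap hle (Ideal.Quotient.mk _ U) := by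
    have h3 := extPre_rel i₀.toPreIdx b Rn hRn
      (E₁ - rename (incl (Finset.subset_insert b i₀.S)) U) (by rw [hRndef]; simp)
    rw [map_sub, sub_eq_zero] at h3
    rw [h3, tmap_mk]
  have e₂ : (Ideal.Quotient.mk (Ideal.span (↑(extPre i₀.toPreIdx b Rn hRn).R :
      Set (MvPolynomial (extPre i₀.toPreIdx b Rn hRn).S A))) E₂) =
      tmap hle (Ideal.Quotient.mk _ V) := by
    have h3 := extPre_rel i₀.toPreIdx b Rn hRn
      (E₂ - rename (incl (Finset.subset_insert b i₀.S)) V) (by rw [hRndef]; simp)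
    rw [map_sub, sub_eq_zero] at h3
    rw [h3, tmap_mk]
  have hgood : Good awn A (Q (extPre i₀.toPreIdx b Rn hRn)) := by
    refine good_gen awn i₀.good hle ?_
    intro T hT hr s hs
    have hsb : s = ⟨b, Finset.mem_insert_self b i₀.S⟩ := by
      apply Subtype.ext
      have h4 : (s : B) ∈ insert b i₀.S := s.2
      rw [Finset.mem_insert] at h4
      exact h4.resolve_right hs
    rw [hsb]
    apply hT
    have h5 := hrule (Q (extPre i₀.toPreIdx b Rn hRn))
      (Ideal.Quotient.mkₐ A (Ideal.span (↑(extPre i₀.toPreIdx b Rn hRn).R :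
      Set (MvPolynomial (extPre i₀.toPreIdx b Rn hRn).S A)))) T
      (by
        show (Ideal.Quotient.mk _ E₁) ∈ T
        rw [e₁]; exact hr ⟨_, rfl⟩)
      (by
        show (Ideal.Quotient.mk _ E₂) ∈ T
        rw [e₂]; exact hr ⟨_, rfl⟩)
    exact h5
  refine ⟨⟨extPre i₀.toPreIdx b Rn hRn, hgood⟩, hle, ?_⟩
  refine ⟨Ideal.Quotient.mk _ (X ⟨b, Finset.mem_insert_self b i₀.S⟩), ?_⟩
  show gmap (extPre i₀.toPreIdx b Rn hRn) (Ideal.Quotient.mk _ (X ⟨b, Finset.mem_insert_self b i₀.S⟩)) = b
  rw [gmap_mk, aeval_X]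

theorem range_gmap_mono {i j : PreIdx A B} (hij : i.le j) : (gmap i).range ≤ (gmap j).range := by
  rintro x ⟨y, rfl⟩
  exact ⟨tmap hij y, gmap_tmap hij y⟩

theorem tower_idx (awn : Bool) (l : List B)
    (hl : Tower (fun (S : Subalgebra A B) (b : B) => Rule awn S b) l) :
    ∃ i : Idx awn A B, Algebra.adjoin A {x | x ∈ l} ≤ (gmap i.toPreIdx).range := by
  induction hl with
  | nil =>
    refine ⟨⟨emptyPre A B, emptyGood awn⟩, ?_⟩
    apply Algebra.adjoin_le
    intro x hx
    simp at hx
  | snoc l b hl hb ih =>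
    obtain ⟨i₀, h₀⟩ := ih
    have hb' : Rule awn (gmap i₀.toPreIdx).range b := rule_mono awn h₀ hb
    have key : ∃ i : Idx awn A B, i₀ ≤ i ∧ b ∈ (gmap i.toPreIdx).range := by
      rcases hb' with ⟨⟨u, hu⟩, ⟨v, hv⟩⟩ | ⟨ha, p, hp, ⟨u, hu⟩, ⟨v, hv⟩⟩
      · obtain ⟨U, rfl⟩ := Ideal.Quotient.mk_surjective u
        obtain ⟨V, rfl⟩ := Ideal.Quotient.mk_surjective v
        refine idx_step awn i₀ b (X ⟨b, Finset.mem_insert_self b i₀.S⟩ ^ 2)
          (X ⟨b, Finset.mem_insert_self b i₀.S⟩ ^ 3) U V ?_ ?_ ?_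
        · rw [map_pow, aeval_X]; exact hu.symm
        · rw [map_pow, aeval_X]; exact hv.symm
        · intro C _ _ f T h2 h3
          rw [map_pow] at h2 h3
          exact Or.inl ⟨h2, h3⟩
      · obtain ⟨U, rfl⟩ := Ideal.Quotient.mk_surjective u
        obtain ⟨V, rfl⟩ := Ideal.Quotient.mk_surjective v
        refine idx_step awn i₀ b ((p : MvPolynomial (insert b i₀.S : Finset B) A) *
          X ⟨b, Finset.mem_insert_self b i₀.S⟩)
          (X ⟨b, Finset.mem_insert_self b i₀.S⟩ ^ p) U V ?_ ?_ ?_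
        · rw [map_mul, map_natCast, aeval_X]; exact hu.symm
        · rw [map_pow, aeval_X]; exact hv.symm
        · intro C _ _ f T h2 h3
          rw [map_mul, map_natCast] at h2
          rw [map_pow] at h3
          exact Or.inr ⟨ha, p, hp, h2, h3⟩
    obtain ⟨i, hi, hbi⟩ := key
    refine ⟨i, ?_⟩
    apply Algebra.adjoin_le
    intro x hx
    have hx' : x ∈ l ++ [b] := hx
    rw [List.mem_append, List.mem_singleton] at hx'
    rcases hx' with hx' | rfl
    · exact range_gmap_mono hi (h₀ (Algebra.subset_adjoin hx'))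
    · exact hbi

theorem idx_surj (awn : Bool) (hU : RUH (algebraMap A B))
    (hR : awn = false → RRes (algebraMap A B)) (b : B) :
    ∃ (i : Idx awn A B) (x : Q i.toPreIdx), gmap i.toPreIdx x = b := by
  have h1 : b ∈ towerSub (fun (S : Subalgebra A B) (b : B) => Rule awn S b) (rule_hP awn) := by
    rw [rule_tower_top awn hU hR]; exact Algebra.mem_top
  obtain ⟨l, hl, hbl⟩ := h1
  obtain ⟨i, hi⟩ := tower_idx awn l hl
  obtain ⟨x, hx⟩ := hi hbl
  exact ⟨i, x, hx⟩

end TowerIdx

end Groth.Agent.Lib.helper4
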