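import Mathlib
import Groth.Agent.Lib.helper4.UHR11

set_option autoImplicit false
universe u
open CategoryTheory AlgebraicGeometry MvPolynomial

namespace Groth.Agent.Lib.helper4

open Groth.Agent.Lib.helper7

section Colim

variable {A B : Type u} [CommRing A] [CommRing B] [Algebra A B]

/-- the diagram of presented algebras -/
noncomputable def Ffun (awn : Bool) (A B : Type u) [CommRing A] [CommRing B] [Algebra A B] :
    Idx awn A B ⥤ Under (CommRingCat.of A) where
  obj i := Under.mk (CommRingCat.ofHom (algebraMap A (Q i.toPreIdx)))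
  map {i j} f := Under.homMk
    (CommRingCat.ofHom (tmap (leOfHom f) : Q i.toPreIdx →+* Q j.toPreIdx)) (by
      apply CommRingCat.hom_ext
      exact (tmap (leOfHom f)).comp_algebraMap)
  map_id i := by
    apply Under.UnderMorphism.ext
    apply CommRingCat.hom_ext
    apply RingHom.ext
    intro x
    exact tmap_refl i.toPreIdx (leOfHom (𝟙 i)) x
  map_comp f g := by
    apply Under.UnderMorphism.ext
    apply CommRingCat.hom_ext
    apply RingHom.ext
    intro x
    exact (tmap_trans (leOfHom f) (leOfHom g) (leOfHom (f ≫ g)) x).symm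

/-- the cocone with vertex `B` -/
noncomputable def Fcocone (awn : Bool) (A B : Type u) [CommRing A] [CommRing B] [Algebra A B] :
    Limits.Cocone (Ffun awn A B) where
  pt := Under.mk (CommRingCat.ofHom (algebraMap A B))
  ι :=
    { app := fun i => Under.homMk
        (CommRingCat.ofHom (gmap i.toPreIdx : Q i.toPreIdx →+* B)) (by
          apply CommRingCat.hom_ext
          exact (gmap i.toPreIdx).comp_algebraMap)
      naturality := by
        intro i j f
        apply Under.UnderMorphism.ext
        apply CommRingCat.hom_ext
        apply RingHom.ext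
        intro x
        exact gmap_tmap (leOfHom f) x }

noncomputable def FisColimit (awn : Bool)
    (hsurj : ∀ b : B, ∃ (i : Idx awn A B) (x : Q i.toPreIdx), gmap i.toPreIdx x = b) :
    Limits.IsColimit (Fcocone awn A B) := by
  haveI : IsConnected (Idx awn A B) := IsFiltered.isConnected _
  apply Limits.isColimitOfReflects (Under.forget (CommRingCat.of A))
  haveI := Limits.reflectsColimit_of_reflectsIsomorphisms
    (Ffun awn A B ⋙ Under.forget (CommRingCat.of A)) (forget CommRingCat)
  apply Limits.isColimitOfReflects (forget CommRingCat)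
  apply Limits.Types.FilteredColimit.isColimitOf'
  · intro b
    obtain ⟨i, x, hx⟩ := hsurj b
    exact ⟨i, x, hx.symm⟩
  · intro i x y hxy
    obtain ⟨k, hk, h⟩ := idx_eq awn i x y hxy
    exact ⟨k, homOfLE hk, h⟩

theorem uhr_colim_fp (awn : Bool) (hU : RUH (algebraMap A B))
    (hR : awn = false → RRes (algebraMap A B)) :
    ∃ (J : Type u) (_ : SmallCategory J) (_ : IsFiltered J) (F : J ⥤ Under (CommRingCat.of A))
      (c : Limits.Cocone F) (_ : Limits.IsColimit c),
      (∀ j, (F.obj j).hom.hom.FinitePresentation ∧ RUH (F.obj j).hom.hom ∧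
        (awn = false → RRes (F.obj j).hom.hom)) ∧
      Nonempty (c.pt ≅ Under.mk (CommRingCat.ofHom (algebraMap A B))) := by
  have hker : RingHom.ker (algebraMap A B) ≤ nilradical A := uhr_ker_nil _ hU.2.1
  refine ⟨Idx awn A B, inferInstance, inferInstance, Ffun awn A B, Fcocone awn A B,
    FisColimit awn (idx_surj awn hU hR), ?_, ⟨Iso.refl _⟩⟩
  intro j
  refine ⟨?_, ?_, ?_⟩
  · show (algebraMap A (Q j.toPreIdx)).FinitePresentation
    rw [RingHom.finitePresentation_algebraMap]
    infer_instance
  · show RUH (algebraMap A (Q j.toPreIdx))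
    exact good_ruh awn j.good (ker_le_of_gmap _ hker)
  · intro ha
    show RRes (algebraMap A (Q j.toPreIdx))
    subst ha
    exact good_res j.good

end Colim

end Groth.Agent.Lib.helper4
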