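import Mathlib
import Groth.Prelude.Def_HTop
import Groth.Agent.S7469
import Groth.Agent.S7470

set_option autoImplicit false
universe w u

namespace Groth.Agent.Lib.helper4

open CategoryTheory CategoryTheory.Limits AlgebraicGeometry HTop

/-- The family of a finite affine open cover. -/
noncomputable def h4_openFam {T : Scheme.{u}} {n : ℕ} (W : Fin n → T.Opens) :
    PreZeroHypercover.{0} T where
  I₀ := Fin n
  X k := (W k : Scheme.{u})
  f k := (W k).ι

/-- A finite affine open cover of an affine scheme is a standard V covering. -/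
theorem h4_isStandardV_openFam {T : Scheme.{u}} [IsAffine T] {n : ℕ} (W : Fin n → T.Opens)
    (hW : ∀ k, IsAffineOpen (W k)) (hcov : ∀ x : T, ∃ k, x ∈ W k) :
    IsStandardV (h4_openFam W) := by
  refine ⟨inferInstance, ?_, fun k => hW k, ?_⟩
  · change Finite (Fin n)
    infer_instance
  · intro V _ _ γ
    obtain ⟨k, hk⟩ := hcov (γ (IsLocalRing.closedPoint V))
    have htop : γ ⁻¹ᵁ (W k) = ⊤ := Scheme.preimage_eq_top_of_closedPoint_mem γ hk
    have hrange : Set.range γ ⊆ Set.range (W k).ι := by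
      rintro _ ⟨y, rfl⟩
      have hy : y ∈ γ ⁻¹ᵁ (W k) := by rw [htop]; trivial
      simpa using hy
    obtain ⟨l, hl⟩ : ∃ l : Spec V ⟶ ((W k : T.Opens) : Scheme.{u}), l ≫ (W k).ι = γ :=
      ⟨IsOpenImmersion.lift (W k).ι γ hrange, IsOpenImmersion.lift_fac _ _ _⟩
    refine ⟨V, inferInstance, inferInstance, 𝟙 V, ⟨Function.injective_id, ?_⟩, k, l, ?_⟩
    · change IsLocalHom (RingHom.id V)
      infer_instance
    · change l ≫ (W k).ι = Spec.map (𝟙 V) ≫ γ
      rw [hl, Spec.map_id, Category.id_comp]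

/-- Key lemma: a V covering of `T` pulls back to an affine scheme over `T` to a family refined by a
standard V covering. -/
theorem h4_vcover_affine {T T' : Scheme.{u}} [IsAffine T'] (g : T' ⟶ T) (E : PreZeroHypercover.{w} T)
    (hE : IsVCover E) :
    ∃ F' : PreZeroHypercover.{0} T', IsStandardV F' ∧ RefinesOver g F' E := by
  classical
  -- choose, for each point, an affine open of T and an affine open of T' mapping into it
  have hpt : ∀ x : T', ∃ (U : T.affineOpens) (W : T'.affineOpens), x ∈ (W : T'.Opens) ∧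
      (W : T'.Opens) ≤ g ⁻¹ᵁ (U : T.Opens) := by
    intro x
    obtain ⟨_, ⟨U, hU, rfl⟩, hxU, -⟩ := T.isBasis_affineOpens.exists_subset_of_mem_open
      (Set.mem_univ (g x)) isOpen_univ
    have hx' : x ∈ g ⁻¹ᵁ U := hxU
    obtain ⟨_, ⟨W, hW, rfl⟩, hxW, hWU⟩ := T'.isBasis_affineOpens.exists_subset_of_mem_open
      hx' (g ⁻¹ᵁ U).2
    exact ⟨⟨U, hU⟩, ⟨W, hW⟩, hxW, hWU⟩
  choose U W hxW hWU using hpt
  obtain ⟨t, ht⟩ := isCompact_univ.elim_finite_subcover (fun x : T' => ((W x : T'.Opens) : Set T'))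
    (fun x => (W x : T'.Opens).2) (fun x _ => Set.mem_iUnion.mpr ⟨x, hxW x⟩)
  let e := t.equivFin
  let pt : Fin t.card → T' := fun k => (e.symm k).1
  have hcov : ∀ x : T', ∃ k, x ∈ (W (pt k) : T'.Opens) := by
    intro x
    have := ht (Set.mem_univ x)
    simp only [Set.mem_iUnion] at this
    obtain ⟨y, hy, hxy⟩ := this
    refine ⟨e ⟨y, hy⟩, ?_⟩
    simpa [pt] using hxy
  have hcoverV := h4_isStandardV_openFam (fun k => (W (pt k) : T'.Opens)) (fun k => (W (pt k)).2) hcov
  choose G hG hGref using fun k => hE (U (pt k))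
  let gk : ∀ k, ((W (pt k) : T'.Opens) : Scheme.{u}) ⟶ ((U (pt k) : T.Opens) : Scheme.{u}) :=
    fun k => g.resLE _ _ (hWU (pt k))
  have : ∀ k, IsAffine ((h4_openFam (fun k => (W (pt k) : T'.Opens))).X k) := fun k => (W (pt k)).2
  let H : ∀ k, PreZeroHypercover.{0} ((h4_openFam (fun k => (W (pt k) : T'.Opens))).X k) :=
    fun k => (G k).pullback₁ (gk k)
  refine ⟨(h4_openFam (fun k => (W (pt k) : T'.Opens))).bind H, ?_, ?_⟩
  · refine Groth.Agent.S7470.result _ hcoverV H (fun k => ?_)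
    have : IsAffine ((W (pt k) : T'.Opens) : Scheme.{u}) := (W (pt k)).2
    exact Groth.Agent.S7469.result (gk k) (G k) (hG k)
  · rintro ⟨k, j⟩
    obtain ⟨i, h, hh⟩ := hGref k j
    refine ⟨i, (pullback.snd (gk k) ((G k).f j)) ≫ h, ?_⟩
    change (pullback.snd (gk k) ((G k).f j) ≫ h) ≫ E.f i =
      (pullback.fst (gk k) ((G k).f j) ≫ (W (pt k) : T'.Opens).ι) ≫ g
    rw [Category.assoc, hh, ← Category.assoc, ← pullback.condition, Category.assoc, Category.assoc]
    congr 1
    exact Scheme.Hom.resLE_comp_ι _ _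

end Groth.Agent.Lib.helper4
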