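import Mathlib
import Groth.Agent.Lib.helper4.ShLocal

set_option autoImplicit false
universe w u

namespace Groth.Agent.Lib.helper4

open CategoryTheory CategoryTheory.Limits AlgebraicGeometry Opposite

variable (F : Scheme.{u}ᵒᵖ ⥤ Type w)

theorem h4_map_comp_apply {A B C : Scheme.{u}} (f : A ⟶ B) (g : B ⟶ C) (s : F.obj (op C)) :
    F.map (f ≫ g).op s = F.map f.op (F.map g.op s) := by
  rw [op_comp, F.map_comp]
  rfl

/-- Zariski separatedness, in pointwise form. -/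
theorem h4_zar_ext (hF : Presieve.IsSheaf Scheme.zariskiTopology F) {Z : Scheme.{u}}
    (s s' : F.obj (op Z))
    (h : ∀ z : Z, ∃ U : Z.Opens, z ∈ U ∧ F.map U.ι.op s = F.map U.ι.op s') : s = s' := by
  choose U hzU hU using h
  have hcov : TopologicalSpace.IsOpenCover U := by
    refine TopologicalSpace.IsOpenCover.mk (top_le_iff.mp fun z _ => ?_)
    exact TopologicalSpace.Opens.mem_iSup.mpr ⟨z, hzU z⟩
  let 𝒰 := Z.openCoverOfIsOpenCover U hcov
  have hmem : Sieve.ofArrows 𝒰.X 𝒰.f ∈ Scheme.zariskiTopology Z := 𝒰.mem_grothendieckTopology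
  have key : ∀ (z : Z) {Y' : Scheme.{u}} (k : Y' ⟶ ((U z : Z.Opens) : Scheme.{u})),
      F.map (k ≫ (U z).ι).op s = F.map (k ≫ (U z).ι).op s' := by
    intro z Y' k
    rw [h4_map_comp_apply, h4_map_comp_apply, hU z]
  refine (hF _ hmem).isSeparatedFor.ext ?_
  rintro Y _ ⟨Z', k, _, ⟨z⟩, rfl⟩
  exact key z k

/-- Zariski gluing along the cover by all affine opens. -/
theorem h4_zar_glue (hF : Presieve.IsSheaf Scheme.zariskiTopology F) {Y : Scheme.{u}}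
    (s : ∀ W : Y.affineOpens, F.obj (op ((W : Y.Opens) : Scheme.{u})))
    (hs : ∀ (W W' : Y.affineOpens) (hle : (W' : Y.Opens) ≤ (W : Y.Opens)),
      F.map (Y.homOfLE hle).op (s W) = s W') :
    ∃ t : F.obj (op Y), ∀ W : Y.affineOpens, F.map (W : Y.Opens).ι.op t = s W := by
  have hmem : Sieve.ofArrows (h4_affineOpensCover Y).X (h4_affineOpensCover Y).f ∈
      Scheme.zariskiTopology Y := (h4_affineOpensCover Y).mem_grothendieckTopology
  have hsh : Presieve.IsSheafFor F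
      (Presieve.ofArrows (h4_affineOpensCover Y).X (h4_affineOpensCover Y).f) := by
    rw [Presieve.isSheafFor_iff_generate]
    exact hF _ hmem
  rw [Presieve.isSheafFor_arrows_iff] at hsh
  have key : ∀ (W₁ W₂ : Y.affineOpens) (Z : Scheme.{u})
      (g₁ : Z ⟶ ((W₁ : Y.Opens) : Scheme.{u})) (g₂ : Z ⟶ ((W₂ : Y.Opens) : Scheme.{u})),
      g₁ ≫ (W₁ : Y.Opens).ι = g₂ ≫ (W₂ : Y.Opens).ι →
        F.map g₁.op (s W₁) = F.map g₂.op (s W₂) := by
    intro W₁ W₂ Z g₁ g₂ hg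
    refine h4_zar_ext F hF _ _ fun z => ?_
    have hy1 : (g₁ ≫ (W₁ : Y.Opens).ι) z ∈ (W₁ : Y.Opens) := by
      rw [Scheme.Hom.comp_apply]; exact (g₁ z).2
    have hy2 : (g₁ ≫ (W₁ : Y.Opens).ι) z ∈ (W₂ : Y.Opens) := by
      rw [hg, Scheme.Hom.comp_apply]; exact (g₂ z).2
    have hy12 : (g₁ ≫ (W₁ : Y.Opens).ι) z ∈ (W₁ : Y.Opens) ⊓ (W₂ : Y.Opens) := ⟨hy1, hy2⟩
    obtain ⟨_, ⟨W₃, hW₃, rfl⟩, hyW₃, hW₃le⟩ := Y.isBasis_affineOpens.exists_subset_of_mem_open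
      hy12 ((W₁ : Y.Opens) ⊓ (W₂ : Y.Opens)).2
    have hle1 : W₃ ≤ (W₁ : Y.Opens) := fun y hy => (hW₃le hy).1
    have hle2 : W₃ ≤ (W₂ : Y.Opens) := fun y hy => (hW₃le hy).2
    let U : Z.Opens := (g₁ ≫ (W₁ : Y.Opens).ι) ⁻¹ᵁ W₃
    refine ⟨U, hyW₃, ?_⟩
    let k : (U : Scheme.{u}) ⟶ (W₃ : Scheme.{u}) := (g₁ ≫ (W₁ : Y.Opens).ι).resLE W₃ U le_rfl
    have hk : k ≫ Scheme.Opens.ι W₃ = U.ι ≫ g₁ ≫ (W₁ : Y.Opens).ι := Scheme.Hom.resLE_comp_ι _ _
    have e1 : U.ι ≫ g₁ = k ≫ Y.homOfLE hle1 := by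
      rw [← cancel_mono (W₁ : Y.Opens).ι, Category.assoc, Category.assoc, Scheme.homOfLE_ι, hk]
    have e2 : U.ι ≫ g₂ = k ≫ Y.homOfLE hle2 := by
      rw [← cancel_mono (W₂ : Y.Opens).ι, Category.assoc, Category.assoc, Scheme.homOfLE_ι, hk, hg]
    rw [← h4_map_comp_apply, ← h4_map_comp_apply, e1, e2, h4_map_comp_apply, h4_map_comp_apply,
      hs W₁ ⟨W₃, hW₃⟩ hle1, hs W₂ ⟨W₃, hW₃⟩ hle2]
  have hcompat : Presieve.Arrows.Compatible F (h4_affineOpensCover Y).f s :=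
    fun W₁ W₂ Z g₁ g₂ hg => key W₁ W₂ Z g₁ g₂ hg
  obtain ⟨t, ht, -⟩ := hsh s hcompat
  exact ⟨t, ht⟩

/-- The sheaf condition of a Zariski sheaf for a sieve can be checked on affine opens. -/
theorem h4_isSheafFor_of_affine_local (hF : Presieve.IsSheaf Scheme.zariskiTopology F)
    {Y : Scheme.{u}} (S : Sieve Y)
    (h : ∀ W : Y.affineOpens, Presieve.IsSheafFor F (S.pullback (W : Y.Opens).ι).arrows) :
    Presieve.IsSheafFor F S.arrows := by
  intro x hx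
  have hxs := (Presieve.compatible_iff_sieveCompatible x).mp hx
  -- congruence for x
  have xcongr : ∀ {Z : Scheme.{u}} {f f' : Z ⟶ Y} (e : f = f') (hf : S f) (hf' : S f'),
      x f hf = x f' hf' := by
    intro Z f f' e hf hf'; subst e; rfl
  -- local sections
  have hloc : ∀ W : Y.affineOpens, ∃ t : F.obj (op ((W : Y.Opens) : Scheme.{u})),
      (x.pullback (W : Y.Opens).ι).IsAmalgamation t := fun W =>
    (h W (x.pullback _) (hx.pullback _)).exists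
  choose s hs using hloc
  have hA : ∀ (W W' : Y.affineOpens) (hle : (W' : Y.Opens) ≤ (W : Y.Opens)),
      F.map (Y.homOfLE hle).op (s W) = s W' := by
    intro W W' hle
    refine (h W').isSeparatedFor (x.pullback _) _ _ ?_ (hs W')
    intro Z g hg
    have hg' : (S.pullback (W : Y.Opens).ι) (g ≫ Y.homOfLE hle) := by
      change S ((g ≫ Y.homOfLE hle) ≫ (W : Y.Opens).ι)
      rw [Category.assoc, Scheme.homOfLE_ι]
      exact hg
    rw [← h4_map_comp_apply, hs W _ hg']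
    exact xcongr (by rw [Category.assoc, Scheme.homOfLE_ι]) _ _
  obtain ⟨t, ht⟩ := h4_zar_glue F hF s hA
  have hsep : ∀ t₁ t₂ : F.obj (op Y), x.IsAmalgamation t₁ → x.IsAmalgamation t₂ → t₁ = t₂ := by
    intro t₁ t₂ h₁ h₂
    refine h4_zar_ext F hF _ _ fun y => ?_
    obtain ⟨_, ⟨W, hW, rfl⟩, hyW, -⟩ := Y.isBasis_affineOpens.exists_subset_of_mem_open
      (Set.mem_univ y) isOpen_univ
    refine ⟨W, hyW, ?_⟩
    refine (h ⟨W, hW⟩).isSeparatedFor (x.pullback _) _ _ ?_ ?_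
    · intro Z g hg
      rw [← h4_map_comp_apply]
      exact h₁ _ hg
    · intro Z g hg
      rw [← h4_map_comp_apply]
      exact h₂ _ hg
  refine ⟨t, ?_, fun t' ht' => hsep _ _ ht' ?_⟩
  all_goals
    intro Z g hg
    refine h4_zar_ext F hF _ _ fun z => ?_
    obtain ⟨_, ⟨W, hW, rfl⟩, hyW, -⟩ := Y.isBasis_affineOpens.exists_subset_of_mem_open
      (Set.mem_univ (g z)) isOpen_univ
    let U : Z.Opens := g ⁻¹ᵁ W
    refine ⟨U, hyW, ?_⟩
    let k : (U : Scheme.{u}) ⟶ (W : Scheme.{u}) := g.resLE W U le_rfl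
    have hk : k ≫ Scheme.Opens.ι W = U.ι ≫ g := Scheme.Hom.resLE_comp_ι _ _
    have hkS : (S.pullback (Scheme.Opens.ι W)) k := by
      change S (k ≫ Scheme.Opens.ι W)
      rw [hk]
      exact S.downward_closed hg _
    rw [← h4_map_comp_apply, ← hk, h4_map_comp_apply, ht ⟨W, hW⟩, hs ⟨W, hW⟩ k hkS,
      ← hxs g U.ι hg]
    exact xcongr hk _ _

end Groth.Agent.Lib.helper4
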