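import Mathlib

set_option autoImplicit false
universe u

namespace Groth.Agent.Lib.helper4

open CategoryTheory CategoryTheory.Limits AlgebraicGeometry IsLocalRing

/-- The generic point of the spectrum of a domain. -/
def h4_genPt (R : CommRingCat.{u}) [IsDomain R] : ↥(Spec R) :=
  (⟨⊥, Ideal.isPrime_bot⟩ : PrimeSpectrum R)

theorem h4_genPt_specializes (R : CommRingCat.{u}) [IsDomain R] (x : ↥(Spec R)) :
    h4_genPt R ⤳ x := by
  exact (PrimeSpectrum.le_iff_specializes (⟨⊥, Ideal.isPrime_bot⟩ : PrimeSpectrum R) x).mp bot_le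

theorem h4_map_genPt {R S : CommRingCat.{u}} [IsDomain R] [IsDomain S] (φ : R ⟶ S)
    (hφ : Function.Injective φ.hom) : Spec.map φ (h4_genPt S) = h4_genPt R := by
  change PrimeSpectrum.comap φ.hom ⟨⊥, Ideal.isPrime_bot⟩ = (⟨⊥, Ideal.isPrime_bot⟩ : PrimeSpectrum R)
  ext1
  exact Ideal.comap_bot_of_injective _ hφ

theorem h4_map_closedPoint {R S : CommRingCat.{u}} [IsLocalRing R] [IsLocalRing S] (φ : R ⟶ S)
    [IsLocalHom φ.hom] : Spec.map φ (closedPoint S) = closedPoint R :=
  comap_closedPoint φ.hom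

/-- A specialization `w' ⤳ w` in a scheme is realized by a morphism from the spectrum of a valuation
ring (in the same universe). -/
theorem h4_exists_valuationRing_of_specializes {P : Scheme.{u}} {w' w : P} (h : w' ⤳ w) :
    ∃ (V : CommRingCat.{u}) (_ : IsDomain V) (_ : ValuationRing V) (γ : Spec V ⟶ P),
      γ (closedPoint V) = w ∧ γ (h4_genPt V) = w' := by
  let φ₀ : P.presheaf.stalk w ⟶ P.residueField w' := P.presheaf.stalkSpecializes h ≫ P.residue w'
  obtain ⟨A, hA, hA_local⟩ := exists_factor_valuationRing φ₀.hom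
  let toA : P.presheaf.stalk w ⟶ .of A := CommRingCat.ofHom (φ₀.hom.codRestrict _ hA)
  have hw : P.fromSpecResidueField w' =
      Spec.map (CommRingCat.ofHom (algebraMap A (P.residueField w'))) ≫
        Spec.map toA ≫ P.fromSpecStalk w := by
    rw [Scheme.fromSpecResidueField, ← Scheme.SpecMap_stalkSpecializes_fromSpecStalk h]
    simp_rw [← Spec.map_comp_assoc]
    rfl
  refine ⟨.of A, inferInstanceAs (IsDomain A), inferInstanceAs (ValuationRing A),
    Spec.map toA ≫ P.fromSpecStalk w, ?_, ?_⟩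
  · have h0 : Spec.map toA (closedPoint A) = closedPoint (P.presheaf.stalk w) :=
      comap_closedPoint (S := A) (φ₀.hom.codRestrict A.toSubring hA)
    calc (Spec.map toA ≫ P.fromSpecStalk w) (closedPoint A)
        = P.fromSpecStalk w (Spec.map toA (closedPoint A)) := Scheme.Hom.comp_apply _ _ _
      _ = P.fromSpecStalk w (closedPoint (P.presheaf.stalk w)) := congrArg _ h0
      _ = w := P.fromSpecStalk_closedPoint
  · have h1 : P.fromSpecResidueField w' (closedPoint (P.residueField w')) = w' :=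
      Scheme.fromSpecResidueField_apply w' _
    have h2 : Spec.map (CommRingCat.ofHom (algebraMap A (P.residueField w')))
        (closedPoint (P.residueField w')) = h4_genPt (.of A) := by
      change PrimeSpectrum.comap (algebraMap A (P.residueField w')) (closedPoint _) =
        (⟨⊥, Ideal.isPrime_bot⟩ : PrimeSpectrum A)
      ext1
      change Ideal.comap (algebraMap A (P.residueField w')) (maximalIdeal (P.residueField w')) = ⊥
      rw [IsLocalRing.maximalIdeal_eq_bot]
      exact Ideal.comap_bot_of_injective _ (FaithfulSMul.algebraMap_injective A (P.residueField w'))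
    calc (Spec.map toA ≫ P.fromSpecStalk w) (h4_genPt (.of A))
        = (Spec.map toA ≫ P.fromSpecStalk w)
            (Spec.map (CommRingCat.ofHom (algebraMap A (P.residueField w')))
              (closedPoint (P.residueField w'))) := by rw [h2]
      _ = (Spec.map (CommRingCat.ofHom (algebraMap A (P.residueField w'))) ≫
            Spec.map toA ≫ P.fromSpecStalk w) (closedPoint (P.residueField w')) :=
          (Scheme.Hom.comp_apply _ _ _).symm
      _ = P.fromSpecResidueField w' (closedPoint (P.residueField w')) := by rw [hw]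
      _ = w' := h1

theorem h4_comp_apply_eq {A B C : Scheme.{u}} (l : A ⟶ B) (p : B ⟶ C) (q : A ⟶ C)
    (h : l ≫ p = q) (x : A) : p (l x) = q x := by
  rw [← h]
  exact (Scheme.Hom.comp_apply _ _ _).symm

theorem h4_comp_apply_eq' {A B C D : Scheme.{u}} (l : A ⟶ B) (p : B ⟶ C) (q : A ⟶ D) (r : D ⟶ C)
    (h : l ≫ p = q ≫ r) (x : A) : p (l x) = r (q x) := by
  rw [h4_comp_apply_eq l p _ h]
  exact Scheme.Hom.comp_apply _ _ _

/-- A compact open of a scheme is covered by finitely many affine opens contained in it. -/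
theorem h4_finite_affine_cover {X : Scheme.{u}} (K : X.Opens) (hK : IsCompact (K : Set X)) :
    ∃ (n : ℕ) (W : Fin n → X.Opens), (∀ k, IsAffineOpen (W k)) ∧ (∀ k, W k ≤ K) ∧
      ∀ x ∈ K, ∃ k, x ∈ W k := by
  classical
  have hpt : ∀ x : K, ∃ W : X.affineOpens, x.1 ∈ (W : X.Opens) ∧ (W : X.Opens) ≤ K := by
    intro x
    obtain ⟨_, ⟨W, hW, rfl⟩, hxW, hWK⟩ := X.isBasis_affineOpens.exists_subset_of_mem_open x.2 K.2
    exact ⟨⟨W, hW⟩, hxW, hWK⟩
  choose W hxW hWK using hpt
  obtain ⟨t, ht⟩ := hK.elim_finite_subcover (fun x : K => ((W x : X.Opens) : Set X))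
    (fun x => (W x : X.Opens).2) (fun x hx => Set.mem_iUnion.mpr ⟨⟨x, hx⟩, hxW ⟨x, hx⟩⟩)
  let e := t.equivFin
  refine ⟨t.card, fun k => (W (e.symm k).1 : X.Opens), fun k => (W (e.symm k).1).2,
    fun k => hWK _, ?_⟩
  intro x hx
  have := ht hx
  simp only [Set.mem_iUnion] at this
  obtain ⟨y, hy, hxy⟩ := this
  refine ⟨e ⟨y, hy⟩, ?_⟩
  simpa using hxy

end Groth.Agent.Lib.helper4
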