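import Mathlib
import Groth.Prelude.Def_HTop
import Groth.Agent.Lib.helper4.ValLift

set_option autoImplicit false
universe w u

namespace Groth.Agent.Lib.helper4

open CategoryTheory CategoryTheory.Limits AlgebraicGeometry HTop IsLocalRing

/-- If the specialization "generic point ⤳ closed point" of `Spec V` lifts to the base change of `f`
along `γ : Spec V ⟶ T`, then `γ` lifts to `X` after an extension of valuation rings. -/
theorem h4_exists_extVal_lift {X T : Scheme.{u}} (f : X ⟶ T) (V : CommRingCat.{u}) [IsDomain V]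
    [ValuationRing V] (γ : Spec V ⟶ T) (w' w : ↑(pullback γ f)) (hw : w' ⤳ w)
    (hw' : pullback.fst γ f w' = h4_genPt V) (hwc : pullback.fst γ f w = closedPoint V) :
    ∃ (W : CommRingCat.{u}) (_ : IsDomain W) (_ : ValuationRing W) (φ : V ⟶ W),
      IsExtVal V W φ ∧ ∃ g' : Spec W ⟶ X, g' ≫ f = Spec.map φ ≫ γ := by
  obtain ⟨W, hWd, hWv, δ, hδc, hδg⟩ := h4_exists_valuationRing_of_specializes hw
  obtain ⟨φ, hφ⟩ : ∃ φ : V ⟶ W, Spec.map φ = δ ≫ pullback.fst γ f :=
    ⟨Spec.preimage (δ ≫ pullback.fst γ f), Spec.map_preimage _⟩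
  have h1 : Spec.map φ (h4_genPt W) = h4_genPt V := by
    rw [hφ, Scheme.Hom.comp_apply, hδg, hw']
  have h2 : Spec.map φ (closedPoint W) = closedPoint V := by
    rw [hφ]
    exact (Scheme.Hom.comp_apply _ _ _).trans ((congrArg (pullback.fst γ f) hδc).trans hwc)
  refine ⟨W, hWd, hWv, φ, ⟨?_, ?_⟩, δ ≫ pullback.snd γ f, ?_⟩
  · rw [RingHom.injective_iff_ker_eq_bot]
    have := congrArg PrimeSpectrum.asIdeal h1
    exact this
  · exact (IsLocalRing.isLocalHom_iff_comap_closedPoint φ.hom).mpr h2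
  · rw [Category.assoc, ← pullback.condition, ← Category.assoc, hφ]

/-- A morphism from the spectrum of a local ring factors through any open immersion whose range
contains the image of the closed point. -/
theorem h4_exists_lift_of_closedPoint_mem {X Y : Scheme.{u}} (ι : X ⟶ Y) [IsOpenImmersion ι]
    (R : CommRingCat.{u}) [IsLocalRing R] (g : Spec R ⟶ Y)
    (h : g (closedPoint R) ∈ Set.range ι) : ∃ l : Spec R ⟶ X, l ≫ ι = g := by
  have hmem : g (closedPoint R) ∈ ι.opensRange := h
  have htop : g ⁻¹ᵁ ι.opensRange = ⊤ := Scheme.preimage_eq_top_of_closedPoint_mem g hmem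
  have hrange : Set.range g ⊆ Set.range ι := by
    rintro _ ⟨y, rfl⟩
    have hy : y ∈ g ⁻¹ᵁ ι.opensRange := by rw [htop]; trivial
    exact hy
  exact ⟨IsOpenImmersion.lift ι g hrange, IsOpenImmersion.lift_fac _ _ _⟩

end Groth.Agent.Lib.helper4
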