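import Mathlib
import Groth.Prelude.Def_HTop
import Groth.Agent.Lib.helper4.ZarLocal
import Groth.Agent.S7469
import Groth.Agent.S7473

set_option autoImplicit false
universe w w' u

namespace Groth.Agent.Lib.helper4

open CategoryTheory CategoryTheory.Limits AlgebraicGeometry HTop Opposite

theorem h4_isStandardV_reindex {T : Scheme.{u}} (E : PreZeroHypercover.{w} T) {ι : Type w'}
    (e : ι ≃ E.I₀) (hE : IsStandardV E) : IsStandardV (E.reindex e) := by
  obtain ⟨hT, hfin, haff, hlift⟩ := hE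
  refine ⟨hT, ?_, fun j => haff (e j), ?_⟩
  · change Finite ι
    exact Finite.of_equiv _ e.symm
  · intro V _ _ g
    obtain ⟨W, hWd, hWv, φ, hφ, j, g', hg'⟩ := hlift V g
    obtain ⟨j', rfl⟩ := e.surjective j
    exact ⟨W, hWd, hWv, φ, hφ, j', g', hg'⟩

theorem h4_generate_pullback₁ {T T' : Scheme.{u}} (g : T' ⟶ T) (E : PreZeroHypercover.{w} T) :
    (Sieve.generate E.presieve₀).pullback g = Sieve.generate (E.pullback₁ g).presieve₀ := by
  ext Z h
  constructor
  · rintro ⟨Z', l, _, ⟨i⟩, hl⟩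
    refine ⟨_, pullback.lift h l hl.symm, pullback.fst g (E.f i), ?_, pullback.lift_fst _ _ _⟩
    exact (⟨i⟩ : (E.pullback₁ g).presieve₀ ((E.pullback₁ g).f i))
  · have key : ∀ (i : E.I₀) {Z' : Scheme.{u}} (l : Z' ⟶ pullback g (E.f i)),
        Sieve.generate E.presieve₀ ((l ≫ pullback.fst g (E.f i)) ≫ g) := by
      intro i Z' l
      rw [Category.assoc, pullback.condition, ← Category.assoc]
      exact ⟨_, l ≫ pullback.snd g (E.f i), E.f i, ⟨i⟩, rfl⟩
    rintro ⟨Z', l, _, ⟨i⟩, rfl⟩
    exact key i l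

/-- A standard V covering is a V covering. -/
theorem h4_isVCover_of_isStandardV {T : Scheme.{u}} (E : PreZeroHypercover.{w} T)
    (hE : IsStandardV E) : IsVCover E := by
  intro U
  have : IsAffine ((U : T.Opens) : Scheme.{u}) := U.2
  have h1 := Groth.Agent.S7469.result (U : T.Opens).ι E hE
  have := hE.finite_index
  obtain ⟨n, ⟨e⟩⟩ := Finite.exists_equiv_fin E.I₀
  refine ⟨(E.pullback₁ (U : T.Opens).ι).reindex e.symm, h4_isStandardV_reindex _ _ h1, ?_⟩
  intro k
  exact ⟨e.symm k, pullback.snd _ _, pullback.condition.symm⟩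

/-- A Zariski covering family is a V covering. -/
theorem h4_isVCover_of_zariski {T : Scheme.{u}} (R : Presieve T)
    (hR : R ∈ Scheme.zariskiPrecoverage T) : R ∈ vPrecoverage T := by
  have hR' : R ∈ Scheme.fpqcPrecoverage T := Scheme.zariskiPrecoverage_le_fpqcPrecoverage _ hR
  obtain ⟨𝒰, rfl⟩ := Precoverage.mem_iff_exists_zeroHypercover.mp hR'
  exact (presieve₀_mem_vPrecoverage_iff 𝒰.toPreZeroHypercover).mpr (Groth.Agent.S7473.result 𝒰)

variable (F : Scheme.{u}ᵒᵖ ⥤ Type w)

theorem h4_zariski_of_isVSheaf (hF : IsVSheaf F) : Presieve.IsSheaf Scheme.zariskiTopology F := by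
  change Presieve.IsSheaf (Scheme.zariskiPrecoverage).toGrothendieck F
  rw [Precoverage.isSheaf_toGrothendieck_iff]
  intro X Y f R hR
  rw [← Sieve.pullbackArrows_comm, ← Presieve.isSheafFor_iff_generate]
  refine hF _ (h4_isVCover_of_zariski _ ?_)
  exact Precoverage.pullbackArrows_mem f hR

theorem h4_stdV_of_isVSheaf (hF : IsVSheaf F) {T : Scheme.{u}} (E : PreZeroHypercover.{w'} T)
    (hE : IsStandardV E) : Presieve.IsSheafFor F E.presieve₀ :=
  hF _ ((presieve₀_mem_vPrecoverage_iff E).mpr (h4_isVCover_of_isStandardV E hE))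

theorem h4_isVSheaf_of (hZ : Presieve.IsSheaf Scheme.zariskiTopology F)
    (hstd : ∀ (T : Scheme.{u}) (E : PreZeroHypercover.{u} T), IsStandardV E →
      Presieve.IsSheafFor F E.presieve₀) : IsVSheaf F := by
  intro X R hR
  obtain ⟨E, hE, rfl⟩ := PreZeroHypercoverFamily.mem_precoverage_iff.mp hR
  have hE' : IsVCover E := hE
  rw [Presieve.isSheafFor_iff_generate]
  have hJ' := h4_zariski_le_finest F hZ
  have hstdJ : ∀ (U : Scheme.{u}) (G : PreZeroHypercover.{0} U), IsStandardV G →
      Sieve.generate G.presieve₀ ∈ Sheaf.finestTopologySingle F U := by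
    intro U G hG Y f
    refine h4_isSheafFor_of_affine_local F hZ _ fun W => ?_
    rw [← Sieve.pullback_comp, h4_generate_pullback₁, ← Presieve.isSheafFor_iff_generate]
    have : IsAffine ((W : Y.Opens) : Scheme.{u}) := W.2
    have hG' := Groth.Agent.S7469.result ((W : Y.Opens).ι ≫ f) G hG
    have := hstd _ _ (h4_isStandardV_reindex _ (Equiv.ulift.{u, 0}) hG')
    rwa [PreZeroHypercover.presieve₀_reindex] at this
  suffices hmem : Sieve.generate E.presieve₀ ∈ Sheaf.finestTopologySingle F X by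
    have := hmem X (𝟙 X)
    rwa [Sieve.pullback_id] at this
  refine h4_mem_of_affine_local _ hJ' _ fun U => ?_
  obtain ⟨G, hG, hGref⟩ := hE' U
  exact GrothendieckTopology.superset_covering _
    (h4_generate_le_pullback_of_refinesOver _ G E hGref) (hstdJ _ G hG)

end Groth.Agent.Lib.helper4
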