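import Mathlib
import Groth.Prelude.Def_HTop
import Groth.Agent.Lib.helper4.ValLift

set_option autoImplicit false
universe w u

namespace Groth.Agent.Lib.helper4

open CategoryTheory CategoryTheory.Limits AlgebraicGeometry HTop IsLocalRing

theorem h4_closure_subset_of_stable_prime {A B : Type u} [CommRing A] [CommRing B] (φ : A →+* B)
    (Z : Set (PrimeSpectrum B)) (hZ : IsClosed Z) (C : Set (PrimeSpectrum A))
    (hC : StableUnderSpecialization C) (hZC : PrimeSpectrum.comap φ '' Z ⊆ C) :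
    closure (PrimeSpectrum.comap φ '' Z) ⊆ C := by
  obtain ⟨I, rfl⟩ := (PrimeSpectrum.isClosed_iff_zeroLocus_ideal Z).mp hZ
  rw [PrimeSpectrum.closure_image_comap_zeroLocus]
  intro p hp
  obtain ⟨q, hqI, hq, hqle⟩ := p.asIdeal.exists_ideal_comap_le_prime I hp
  exact hC ((PrimeSpectrum.le_iff_specializes ⟨q.comap φ, inferInstance⟩ p).mp hqle)
    (hZC ⟨⟨q, hq⟩, hqI, rfl⟩)

theorem h4_closure_subset_of_stable_spec {A B : CommRingCat.{u}} (φ : A ⟶ B) (Z : Set ↥(Spec B))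
    (hZ : IsClosed Z) (C : Set ↥(Spec A)) (hC : StableUnderSpecialization C)
    (hZC : Spec.map φ '' Z ⊆ C) : closure (Spec.map φ '' Z) ⊆ C :=
  h4_closure_subset_of_stable_prime φ.hom Z hZ C hC hZC

theorem h4_closure_subset_of_stable {X Y : Scheme.{u}} [IsAffine X] [IsAffine Y] (f : X ⟶ Y)
    (Z : Set X) (hZ : IsClosed Z) (C : Set Y) (hC : StableUnderSpecialization C)
    (hZC : f '' Z ⊆ C) : closure (f '' Z) ⊆ C := by
  let hX := X.isoSpec.hom.homeomorph
  let hY := Y.isoSpec.hom.homeomorph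
  have hnat : ∀ x : X, hY (f x) = Spec.map f.appTop (hX x) := by
    intro x
    exact (h4_comp_apply_eq' X.isoSpec.hom (Spec.map f.appTop) f Y.isoSpec.hom
      (Scheme.isoSpec_hom_naturality f) x).symm
  have hC' : StableUnderSpecialization (hY '' C) := by
    rintro _ y' hxy ⟨x, hx, rfl⟩
    obtain ⟨y, rfl⟩ := hY.surjective y'
    exact ⟨y, hC (hY.isInducing.specializes_iff.mp hxy) hx, rfl⟩
  have himg : hY '' (f '' Z) = Spec.map f.appTop '' (hX '' Z) := by
    ext p
    constructor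
    · rintro ⟨_, ⟨z, hz, rfl⟩, rfl⟩
      exact ⟨hX z, ⟨z, hz, rfl⟩, (hnat z).symm⟩
    · rintro ⟨_, ⟨z, hz, rfl⟩, rfl⟩
      exact ⟨f z, ⟨z, hz, rfl⟩, hnat z⟩
  have hsub : Spec.map f.appTop '' (hX '' Z) ⊆ hY '' C := by
    rw [← himg]
    exact Set.image_mono hZC
  have key := h4_closure_subset_of_stable_spec f.appTop (hX '' Z) (hX.isClosed_image.mpr hZ)
    (hY '' C) hC' hsub
  intro y hy
  have h1 : hY y ∈ closure (hY '' (f '' Z)) := by
    rw [← hY.image_closure]
    exact ⟨y, hy, rfl⟩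
  rw [himg] at h1
  obtain ⟨y', hy', hyy'⟩ := key h1
  rwa [← hY.injective hyy']

/-- Every point of the target of a standard V covering is in the image of some member, and a
specialization in the target lifts. -/
theorem h4_standardV_lift_specializes {T : Scheme.{u}} (F : PreZeroHypercover.{w} T)
    (hF : IsStandardV F) {c c' : T} (h : c ⤳ c') :
    ∃ (j : F.I₀) (x x' : F.X j), x ⤳ x' ∧ F.f j x = c ∧ F.f j x' = c' := by
  obtain ⟨V, hVd, hVv, γ, hγc, hγg⟩ := h4_exists_valuationRing_of_specializes h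
  obtain ⟨W, hWd, hWv, φ, hφ, j, g', hg'⟩ := hF.lift V γ
  have : IsLocalHom φ.hom := hφ.2
  refine ⟨j, g' (h4_genPt W), g' (closedPoint W), (h4_genPt_specializes W _).map g'.continuous, ?_, ?_⟩
  · rw [h4_comp_apply_eq' g' (F.f j) (Spec.map φ) γ hg', h4_map_genPt φ hφ.1, hγg]
  · exact (h4_comp_apply_eq' g' (F.f j) (Spec.map φ) γ hg' _).trans
      ((congrArg γ (h4_map_closedPoint φ)).trans hγc)

/-- A subset of the target of a standard V covering is open as soon as all its preimages are. -/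
theorem h4_isOpen_of_standardV {T : Scheme.{u}} (F : PreZeroHypercover.{w} T)
    (hF : IsStandardV F) (S : Set T) (hS : ∀ j, IsOpen ((F.f j) ⁻¹' S)) : IsOpen S := by
  have := hF.isAffine
  have := hF.finite_index
  have hC : StableUnderSpecialization Sᶜ := by
    intro c c' hcc' hc
    obtain ⟨j, x, x', hxx', hx, hx'⟩ := h4_standardV_lift_specializes F hF hcc'
    have hcl : IsClosed ((F.f j) ⁻¹' Sᶜ) := by
      rw [Set.preimage_compl]; exact (hS j).isClosed_compl
    have hxm : x ∈ (F.f j) ⁻¹' Sᶜ := by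
      change F.f j x ∈ Sᶜ
      rw [hx]; exact hc
    have hx'm : x' ∈ (F.f j) ⁻¹' Sᶜ := hcl.stableUnderSpecialization hxx' hxm
    rw [← hx']
    exact hx'm
  have hEq : Sᶜ = ⋃ j, closure (F.f j '' ((F.f j) ⁻¹' Sᶜ)) := by
    apply subset_antisymm
    · intro c hc
      obtain ⟨j, x, x', -, hx, -⟩ := h4_standardV_lift_specializes F hF (specializes_rfl (x := c))
      refine Set.mem_iUnion.mpr ⟨j, subset_closure ⟨x, ?_, hx⟩⟩
      change F.f j x ∈ Sᶜ
      rw [hx]; exact hc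
    · refine Set.iUnion_subset fun j => ?_
      have := hF.isAffine_obj j
      refine h4_closure_subset_of_stable (F.f j) _ ?_ _ hC (Set.image_preimage_subset _ _)
      rw [Set.preimage_compl]; exact (hS j).isClosed_compl
  rw [← isClosed_compl_iff, hEq]
  exact isClosed_iUnion_of_finite fun j => isClosed_closure

/-- A V covering is jointly surjective, and a subset of the target is open as soon as all its
preimages are. -/
theorem h4_vcover_surj {T : Scheme.{u}} (E : PreZeroHypercover.{w} T) (hE : IsVCover E) (y : T) :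
    ∃ (i : E.I₀) (x : E.X i), E.f i x = y := by
  obtain ⟨_, ⟨U, hU, rfl⟩, hyU, -⟩ := T.isBasis_affineOpens.exists_subset_of_mem_open
    (Set.mem_univ y) isOpen_univ
  obtain ⟨F, hF, hFref⟩ := hE ⟨U, hU⟩
  obtain ⟨y₀, hy₀⟩ : ∃ y₀ : (Scheme.Opens.toScheme U), (Scheme.Opens.ι U) y₀ = y := ⟨⟨y, hyU⟩, rfl⟩
  obtain ⟨j, x, x', -, hx, -⟩ := h4_standardV_lift_specializes F hF (specializes_rfl (x := y₀))
  obtain ⟨i, h, hh⟩ := hFref j
  refine ⟨i, h x, ?_⟩
  rw [h4_comp_apply_eq' h (E.f i) (F.f j) (Scheme.Opens.ι U) hh, hx, hy₀]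

theorem h4_vcover_isOpen {T : Scheme.{u}} (E : PreZeroHypercover.{w} T) (hE : IsVCover E)
    (S : Set T) (hS : ∀ i, IsOpen ((E.f i) ⁻¹' S)) : IsOpen S := by
  rw [isOpen_iff_forall_mem_open]
  intro y hy
  obtain ⟨_, ⟨U, hU, rfl⟩, hyU, -⟩ := T.isBasis_affineOpens.exists_subset_of_mem_open
    (Set.mem_univ y) isOpen_univ
  obtain ⟨F, hF, hFref⟩ := hE ⟨U, hU⟩
  have hopen : IsOpen ((Scheme.Opens.ι U) ⁻¹' S) := by
    refine h4_isOpen_of_standardV F hF _ fun j => ?_
    obtain ⟨i, h, hh⟩ := hFref j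
    have : (F.f j) ⁻¹' ((Scheme.Opens.ι U) ⁻¹' S) = h ⁻¹' ((E.f i) ⁻¹' S) := by
      ext x
      change (Scheme.Opens.ι U) (F.f j x) ∈ S ↔ E.f i (h x) ∈ S
      rw [h4_comp_apply_eq' h (E.f i) (F.f j) (Scheme.Opens.ι U) hh]
    rw [this]
    exact (hS i).preimage h.continuous
  refine ⟨(Scheme.Opens.ι U) '' ((Scheme.Opens.ι U) ⁻¹' S), Set.image_preimage_subset _ _,
    (Scheme.Opens.ι U).isOpenEmbedding.isOpenMap _ hopen, ⟨⟨y, hyU⟩, hy, rfl⟩⟩

end Groth.Agent.Lib.helper4
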