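import Mathlib

/-!
# Extensions of valuation rings: `e * f ≤ n` (helper4)
-/

set_option autoImplicit false
universe u
open IsLocalRing

namespace Groth.Agent.Lib.helper4.ValExt

section Val

variable (B L : Type u) [CommRing B] [IsDomain B] [ValuationRing B] [Field L] [Algebra B L]
  [IsFractionRing B L]

theorem vB_integers : (ValuationRing.valuation B L).Integers B where
  hom_inj := IsFractionRing.injective B L
  map_le_one := fun b => (Valuation.mem_integer_iff _ _).mp
    ((ValuationRing.mem_integer_iff B L _).mpr ⟨b, rfl⟩)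
  exists_of_le_one := fun r hr => (ValuationRing.mem_integer_iff B L r).mp
    ((Valuation.mem_integer_iff _ _).mpr hr)

/-- a sum of nonzero terms with pairwise distinct valuations is nonzero -/
theorem sum_ne_zero_of_distinct {ι : Type*} {Γ : Type*} [LinearOrderedCommGroupWithZero Γ]
    (v : Valuation L Γ) (S : Finset ι) (hS : S.Nonempty) (t : ι → L)
    (ht0 : ∀ i ∈ S, t i ≠ 0) (hdist : ∀ i ∈ S, ∀ j ∈ S, v (t i) = v (t j) → i = j) :
    ∑ i ∈ S, t i ≠ 0 := by
  classical
  obtain ⟨j, hj, hmax⟩ := Finset.exists_max_image S (fun i => v (t i)) hS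
  have h1 : v (∑ i ∈ S, t i) = v (t j) := by
    apply Valuation.map_sum_eq_of_lt v hj
    intro i hi
    rw [Finset.mem_sdiff, Finset.mem_singleton] at hi
    refine lt_of_le_of_ne (hmax i hi.1) (fun h => hi.2 (hdist i hi.1 j hj h))
  intro h0
  rw [h0, map_zero] at h1
  exact ht0 j hj ((map_eq_zero v).mp h1.symm)

end Val

section Ext

variable (A B K L : Type u) [CommRing A] [IsDomain A] [ValuationRing A] [CommRing B] [IsDomain B]
  [ValuationRing B] [Field K] [Field L] [Algebra A K] [IsFractionRing A K] [Algebra B L]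
  [IsFractionRing B L] [Algebra A B] [Algebra K L] [Algebra A L] [IsScalarTower A K L]
  [IsScalarTower A B L] [IsLocalHom (algebraMap A B)]

local notation "v" => ValuationRing.valuation B L

/-- `A = K ∩ B`. -/
theorem mem_A_of_le_one (c : K) (hc : v (algebraMap K L c) ≤ 1) : ∃ α : A, algebraMap A K α = c := by
  rcases eq_or_ne c 0 with rfl | hcne
  · exact ⟨0, map_zero _⟩
  rcases ValuationRing.isInteger_or_isInteger A c with ⟨α, hα⟩ | ⟨α, hα⟩
  · exact ⟨α, hα⟩
  · by_cases hu : IsUnit α
    · obtain ⟨u, rfl⟩ := hu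
      refine ⟨((u⁻¹ : Aˣ) : A), ?_⟩
      have h1 : algebraMap A K ((u⁻¹ : Aˣ) : A) * algebraMap A K (u : A) = 1 := by
        rw [← map_mul, Units.inv_mul, map_one]
      rw [hα] at h1
      have hc0 : c ≠ 0 := by
        rintro rfl
        rw [inv_zero, mul_zero] at h1
        exact zero_ne_one h1
      field_simp at h1
      exact h1
    · exfalso
      have h2 : ¬ IsUnit (algebraMap A B α) := fun h => hu (isUnit_of_map_unit (algebraMap A B) α h)
      have h3 : v (algebraMap B L (algebraMap A B α)) < 1 := by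
        refine lt_of_le_of_ne ((vB_integers B L).map_le_one _) (fun h => h2 ?_)
        exact (vB_integers B L).isUnit_iff_valuation_eq_one.mpr h
      rw [← IsScalarTower.algebraMap_apply A B L, IsScalarTower.algebraMap_apply A K L, hα,
        map_inv₀, map_inv₀] at h3
      have hc0 : v (algebraMap K L c) ≠ 0 := by
        rw [Valuation.ne_zero_iff]
        intro h
        exact hcne ((map_eq_zero _).mp h)
      have h4 : 1 < v (algebraMap K L c) := by
        rwa [inv_lt_one₀ (zero_lt_iff.mpr hc0)] at h3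
      exact absurd hc (not_le.mpr h4)

theorem val_comb {κ : Type*} [Fintype κ] (a : κ → K) (ha : ∃ j, a j ≠ 0) (y : κ → B)
    (hy : LinearIndependent (ResidueField A) (fun j => residue B (y j))) :
    ∃ k : K, k ≠ 0 ∧
      v (∑ j, algebraMap K L (a j) * algebraMap B L (y j)) = v (algebraMap K L k) := by
  obtain ⟨j₁, hj₁⟩ := ha
  obtain ⟨j₀, -, hmax⟩ := Finset.exists_max_image Finset.univ
    (fun j => v (algebraMap K L (a j))) ⟨j₁, Finset.mem_univ _⟩
  have hv1 : v (algebraMap K L (a j₁)) ≠ 0 := by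
    rw [Valuation.ne_zero_iff]
    intro h
    exact hj₁ ((map_eq_zero _).mp h)
  have hv0 : v (algebraMap K L (a j₀)) ≠ 0 := by
    intro h
    have h1 := hmax j₁ (Finset.mem_univ _)
    simp only [h] at h1
    exact hv1 (le_antisymm h1 zero_le)
  have ha0 : a j₀ ≠ 0 := by
    rintro h
    rw [h, map_zero, map_zero] at hv0
    exact hv0 rfl
  have hc : ∀ j, v (algebraMap K L (a j / a j₀)) ≤ 1 := by
    intro j
    rw [map_div₀, map_div₀, div_le_one₀ (zero_lt_iff.mpr hv0)]
    exact hmax j (Finset.mem_univ _)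
  choose α hα using fun j => mem_A_of_le_one A B K L (a j / a j₀) (hc j)
  have hα0 : α j₀ = 1 := by
    apply IsFractionRing.injective A K
    rw [hα, map_one, div_self ha0]
  obtain ⟨β, hβ⟩ : ∃ β : B, β = ∑ j, algebraMap A B (α j) * y j := ⟨_, rfl⟩
  have hsum : ∑ j, algebraMap K L (a j) * algebraMap B L (y j) =
      algebraMap K L (a j₀) * algebraMap B L β := by
    rw [hβ, map_sum, Finset.mul_sum]
    refine Finset.sum_congr rfl (fun j _ => ?_)
    rw [map_mul, ← IsScalarTower.algebraMap_apply A B L, IsScalarTower.algebraMap_apply A K L,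
      hα, ← mul_assoc, ← map_mul, mul_div_cancel₀ _ ha0]
  have hβu : IsUnit β := by
    by_contra hnu
    have h1 : residue B β = 0 := by
      rw [IsLocalRing.residue_eq_zero_iff]
      exact hnu
    rw [hβ, map_sum] at h1
    have h2 : ∑ j, residue A (α j) • residue B (y j) = 0 := by
      rw [← h1]
      refine Finset.sum_congr rfl (fun j _ => ?_)
      rw [Algebra.smul_def, IsLocalRing.ResidueField.algebraMap_residue, map_mul]
    have h3 := (Fintype.linearIndependent_iff.mp hy) (fun j => residue A (α j)) h2 j₀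
    simp only [hα0, map_one] at h3
    exact one_ne_zero h3
  refine ⟨a j₀, ha0, ?_⟩
  rw [hsum, map_mul, (vB_integers B L).isUnit_iff_valuation_eq_one.mp hβu, mul_one]

theorem vK_ne_zero (k : K) (hk : k ≠ 0) : v (algebraMap K L k) ≠ 0 := by
  rw [Valuation.ne_zero_iff]
  intro h
  exact hk ((map_eq_zero _).mp h)

theorem main_indep {ι κ : Type*} [Fintype ι] [Fintype κ] (x : ι → L) (hx0 : ∀ i, x i ≠ 0)
    (hx : ∀ i i', (∃ k : K, k ≠ 0 ∧ v (x i) = v (x i') * v (algebraMap K L k)) → i = i')
    (y : κ → B) (hy : LinearIndependent (ResidueField A) (fun j => residue B (y j))) :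
    LinearIndependent K (fun p : ι × κ => x p.1 * algebraMap B L (y p.2)) := by
  classical
  rw [Fintype.linearIndependent_iff]
  intro g hg
  obtain ⟨s, hsdef⟩ : ∃ s : ι → L,
      s = fun i => ∑ j, algebraMap K L (g (i, j)) * algebraMap B L (y j) := ⟨_, rfl⟩
  have hsum : ∑ i, x i * s i = 0 := by
    rw [← hg, Fintype.sum_prod_type]
    refine Finset.sum_congr rfl (fun i _ => ?_)
    rw [hsdef, Finset.mul_sum]
    refine Finset.sum_congr rfl (fun j _ => ?_)
    rw [Algebra.smul_def]; ring
  have hk : ∀ i, s i ≠ 0 → ∃ k : K, k ≠ 0 ∧ v (s i) = v (algebraMap K L k) := by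
    intro i hi
    rw [hsdef]
    apply val_comb A B K L (fun j => g (i, j)) ?_ y hy
    by_contra hall
    push Not at hall
    apply hi
    rw [hsdef]
    simp only [hall, map_zero, zero_mul, Finset.sum_const_zero]
  have hs0 : ∀ i, s i = 0 := by
    by_contra hne
    push Not at hne
    obtain ⟨S, hSdef⟩ : ∃ S : Finset ι, S = Finset.univ.filter (fun i => s i ≠ 0) := ⟨_, rfl⟩
    have hmem : ∀ i, i ∈ S ↔ s i ≠ 0 := by
      intro i; rw [hSdef]; simp
    have hSne : S.Nonempty := by
      obtain ⟨i, hi⟩ := hne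
      exact ⟨i, (hmem i).mpr hi⟩
    have h1 : ∑ i ∈ S, x i * s i = ∑ i, x i * s i := by
      apply Finset.sum_subset (Finset.subset_univ _)
      intro i _ hi
      rw [hmem, not_not] at hi
      rw [hi, mul_zero]
    refine sum_ne_zero_of_distinct L v S hSne (fun i => x i * s i) ?_ ?_ (h1.trans hsum)
    · intro i hi
      exact mul_ne_zero (hx0 i) ((hmem i).mp hi)
    · intro i hi i' hi' heq
      obtain ⟨k, hk0, hk1⟩ := hk i ((hmem i).mp hi)
      obtain ⟨k', hk0', hk1'⟩ := hk i' ((hmem i').mp hi')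
      apply hx
      refine ⟨k' / k, div_ne_zero hk0' hk0, ?_⟩
      simp only [map_mul] at heq
      rw [hk1, hk1'] at heq
      rw [map_div₀, map_div₀, ← mul_div_assoc, ← heq, mul_div_assoc,
        div_self (vK_ne_zero B K L k hk0), mul_one]
  rintro ⟨i, j⟩
  by_contra hgne
  obtain ⟨k, hk0, hk1⟩ := val_comb A B K L (fun j => g (i, j)) ⟨j, hgne⟩ y hy
  have h2 : s i = ∑ j, algebraMap K L (g (i, j)) * algebraMap B L (y j) := by rw [hsdef]
  rw [← h2, hs0 i, map_zero] at hk1
  exact vK_ne_zero B K L k hk0 hk1.symm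

theorem mem_UB_of_val_one (z : Lˣ) (hz : v (z : L) = 1) :
    z ∈ (Units.map (algebraMap B L).toMonoidHom).range := by
  obtain ⟨b, hb⟩ := (vB_integers B L).exists_of_le_one hz.le
  have hbu : IsUnit b := by
    rw [(vB_integers B L).isUnit_iff_valuation_eq_one, hb, hz]
  obtain ⟨u, rfl⟩ := hbu
  exact ⟨u, Units.ext hb⟩

theorem card_mul_card_le [FiniteDimensional K L] {ι κ : Type*} [Fintype ι] [Fintype κ]
    (q : ι → (Lˣ ⧸ (Units.map (algebraMap B L).toMonoidHom).range) ⧸
      ((QuotientGroup.mk' (Units.map (algebraMap B L).toMonoidHom).range).comp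
        (Units.map (algebraMap K L).toMonoidHom)).range)
    (hq : Function.Injective q) (ybar : κ → ResidueField B)
    (hy : LinearIndependent (ResidueField A) ybar) :
    Fintype.card ι * Fintype.card κ ≤ Module.finrank K L := by
  have hsurj : ∀ i, ∃ x : Lˣ, QuotientGroup.mk (QuotientGroup.mk x) = q i := by
    intro i
    obtain ⟨z, hz⟩ := QuotientGroup.mk_surjective (q i)
    obtain ⟨x, hx⟩ := QuotientGroup.mk_surjective z
    exact ⟨x, by rw [hx, hz]⟩
  choose x hx using hsurj
  choose y hyy using fun j => IsLocalRing.residue_surjective (ybar j)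
  have hy' : LinearIndependent (ResidueField A) (fun j => residue B (y j)) := by
    have : (fun j => residue B (y j)) = ybar := funext hyy
    rw [this]; exact hy
  have hli := main_indep A B K L (fun i => ((x i : Lˣ) : L)) (fun i => (x i).ne_zero) ?_ y hy'
  · have h1 := hli.fintype_card_le_finrank
    rwa [Fintype.card_prod] at h1
  · rintro i i' ⟨k, hk0, hk⟩
    apply hq
    rw [← hx i, ← hx i']
    symm
    rw [QuotientGroup.eq]
    refine ⟨Units.mk0 k hk0, ?_⟩
    show (QuotientGroup.mk (Units.map (algebraMap K L).toMonoidHom (Units.mk0 k hk0)) :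
      Lˣ ⧸ (Units.map (algebraMap B L).toMonoidHom).range) = _
    rw [← QuotientGroup.mk_inv, ← QuotientGroup.mk_mul, QuotientGroup.eq]
    apply mem_UB_of_val_one
    push_cast
    simp only [Units.coe_map, MonoidHom.coe_coe, RingHom.toMonoidHom_eq_coe, Units.val_mk0,
      map_mul, map_inv₀]
    rw [hk]
    have h1 : v ((x i' : Lˣ) : L) ≠ 0 := by
      rw [Valuation.ne_zero_iff]; exact (x i').ne_zero
    have h2 := vK_ne_zero B K L k hk0
    field_simp

end Ext

end Groth.Agent.Lib.helper4.ValExt
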