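import Mathlib
import Groth.Agent.Lib.helper4.ValExt

/-!
# Extensions of discrete valuation rings: ramification index (helper4)
-/

set_option autoImplicit false
universe u
open IsLocalRing

namespace Groth.Agent.Lib.helper4.ValExt

section DVR

variable (A B : Type u) [CommRing A] [IsDomain A] [IsDiscreteValuationRing A] [CommRing B]
  [IsDomain B] [IsDiscreteValuationRing B] [Algebra A B]

/-- the ramification index of an injective local map of DVRs, via uniformizers -/
theorem ramIdx_eq
    (ϖA : A) (hA : Irreducible ϖA) (ϖB : B) (hB : Irreducible ϖB) (e : ℕ) (u : Bˣ)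
    (he : algebraMap A B ϖA = u * ϖB ^ e) :
    Ideal.ramificationIdx' (maximalIdeal A) (maximalIdeal B) = e := by
  have hmA : maximalIdeal A = Ideal.span {ϖA} :=
    (IsDiscreteValuationRing.irreducible_iff_uniformizer ϖA).mp hA
  have hmB : maximalIdeal B = Ideal.span {ϖB} :=
    (IsDiscreteValuationRing.irreducible_iff_uniformizer ϖB).mp hB
  have hmap : Ideal.map (algebraMap A B) (maximalIdeal A) = Ideal.span {ϖB ^ e} := by
    rw [hmA, Ideal.map_span, Set.image_singleton, he]
    exact Ideal.span_singleton_eq_span_singleton.mpr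
      (associated_unit_mul_left _ _ u.isUnit)
  apply Ideal.ramificationIdx'_spec
  · rw [hmap, hmB, Ideal.span_singleton_pow]
  · rw [hmap, hmB, Ideal.span_singleton_pow, Ideal.span_singleton_le_span_singleton]
    rintro ⟨c, hc⟩
    have h1 : ϖB ^ e * 1 = ϖB ^ e * (ϖB * c) := by
      rw [mul_one, ← mul_assoc, ← pow_succ]; exact hc
    have h2 := mul_left_cancel₀ (pow_ne_zero e hB.ne_zero) h1
    exact hB.not_isUnit (IsUnit.of_mul_eq_one c h2.symm)

end DVR

section DVRExt

variable (A B K L : Type u) [CommRing A] [IsDomain A] [IsDiscreteValuationRing A] [CommRing B]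
  [IsDomain B] [IsDiscreteValuationRing B] [Field K] [Field L] [Algebra A K] [IsFractionRing A K]
  [Algebra B L] [IsFractionRing B L] [Algebra A B] [Algebra K L] [Algebra A L]
  [IsScalarTower A K L] [IsScalarTower A B L] [IsLocalHom (algebraMap A B)]

local notation "v" => ValuationRing.valuation B L

theorem v_unit (u : Bˣ) : v (algebraMap B L u) = 1 :=
  (vB_integers B L).isUnit_iff_valuation_eq_one.mp u.isUnit

theorem v_unif_lt_one (ϖB : B) (hB : Irreducible ϖB) : v (algebraMap B L ϖB) < 1 := by
  refine lt_of_le_of_ne ((vB_integers B L).map_le_one _) (fun h => hB.not_isUnit ?_)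
  exact (vB_integers B L).isUnit_iff_valuation_eq_one.mpr h

theorem v_unif_ne_zero (ϖB : B) (hB : Irreducible ϖB) : v (algebraMap B L ϖB) ≠ 0 := by
  rw [Valuation.ne_zero_iff]
  intro h
  exact hB.ne_zero ((IsFractionRing.injective B L) (h.trans (map_zero _).symm))

/-- powers of an element `0 < w < 1` are distinct -/
theorem pow_inj_of_lt_one {Γ : Type*} [LinearOrderedCommGroupWithZero Γ] (w : Γ) (h0 : w ≠ 0)
    (h1 : w < 1) {m n : ℕ} (h : w ^ m = w ^ n) : m = n := by
  have key : ∀ a b : ℕ, a < b → w ^ b < w ^ a := by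
    intro a b hab
    exact pow_lt_pow_right_of_lt_one₀ (zero_lt_iff.mpr h0) h1 hab
  rcases lt_trichotomy m n with hlt | heq | hgt
  · exact absurd h (ne_of_gt (key m n hlt))
  · exact heq
  · exact absurd h.symm (ne_of_gt (key n m hgt))

/-- valuation in `L` of a nonzero element of `A` -/
theorem v_of_A (ϖA : A) (hA : Irreducible ϖA) (ϖB : B) (e : ℕ) (u : Bˣ)
    (he : algebraMap A B ϖA = u * ϖB ^ e) (α : A) (hα : α ≠ 0) :
    ∃ m : ℕ, v (algebraMap K L (algebraMap A K α)) = v (algebraMap B L ϖB) ^ (e * m) := by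
  obtain ⟨m, uA, rfl⟩ := IsDiscreteValuationRing.eq_unit_mul_pow_irreducible hα hA
  refine ⟨m, ?_⟩
  rw [← IsScalarTower.algebraMap_apply A K L, IsScalarTower.algebraMap_apply A B L]
  simp only [map_mul, map_pow, he]
  have hu : IsUnit (algebraMap A B uA) := uA.isUnit.map _
  rw [v_unit B L u, (vB_integers B L).isUnit_iff_valuation_eq_one.mp hu, one_mul, one_mul,
    ← pow_mul]

theorem dvr_e_mul_f_le [FiniteDimensional K L]
    [Module.Finite (ResidueField A) (ResidueField B)]
    (ϖA : A) (hA : Irreducible ϖA) (ϖB : B) (hB : Irreducible ϖB) (e : ℕ) (u : Bˣ)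
    (he : algebraMap A B ϖA = u * ϖB ^ e) :
    e * Module.finrank (ResidueField A) (ResidueField B) ≤ Module.finrank K L := by
  obtain ⟨w, hwdef⟩ : ∃ w, w = v (algebraMap B L ϖB) := ⟨_, rfl⟩
  have hw0 : w ≠ 0 := hwdef ▸ v_unif_ne_zero B L ϖB hB
  have hw1 : w < 1 := hwdef ▸ v_unif_lt_one B L ϖB hB
  choose y hy using fun j => IsLocalRing.residue_surjective
    (Module.finBasis (ResidueField A) (ResidueField B) j)
  have hy' : LinearIndependent (ResidueField A) (fun j => residue B (y j)) := by
    have : (fun j => residue B (y j)) = Module.finBasis (ResidueField A) (ResidueField B) :=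
      funext hy
    rw [this]
    exact (Module.finBasis (ResidueField A) (ResidueField B)).linearIndependent
  have hli := main_indep A B K L (fun i : Fin e => algebraMap B L ϖB ^ (i : ℕ))
    (fun i => pow_ne_zero _ (fun h => hB.ne_zero
      ((IsFractionRing.injective B L) (h.trans (map_zero _).symm)))) ?_ y hy'
  · have h1 := hli.fintype_card_le_finrank
    rwa [Fintype.card_prod, Fintype.card_fin, Fintype.card_fin] at h1
  · rintro i i' ⟨k, hk0, hk⟩
    simp only [map_pow] at hk
    rw [← hwdef] at hk
    rcases ValuationRing.isInteger_or_isInteger A k with ⟨α, hα⟩ | ⟨α, hα⟩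
    · have hα0 : α ≠ 0 := by
        rintro rfl
        rw [map_zero] at hα
        exact hk0 hα.symm
      obtain ⟨m, hm⟩ := v_of_A A B K L ϖA hA ϖB e u he α hα0
      rw [hα, ← hwdef] at hm
      rw [hm, ← pow_add] at hk
      have h2 := pow_inj_of_lt_one w hw0 hw1 hk
      have hm0 : m = 0 := by
        by_contra hne
        have : e ≤ e * m := Nat.le_mul_of_pos_right e (Nat.pos_of_ne_zero hne)
        have := i.2
        omega
      apply Fin.ext
      rw [h2, hm0]; simp
    · have hα0 : α ≠ 0 := by
        rintro rfl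
        rw [map_zero] at hα
        exact hk0 (inv_eq_zero.mp hα.symm)
      obtain ⟨m, hm⟩ := v_of_A A B K L ϖA hA ϖB e u he α hα0
      rw [hα, ← hwdef, map_inv₀, map_inv₀] at hm
      have hk' : w ^ (i : ℕ) * w ^ (e * m) = w ^ (i' : ℕ) := by
        rw [hk, mul_assoc, ← hm, mul_inv_cancel₀ (vK_ne_zero B K L k hk0), mul_one]
      rw [← pow_add] at hk'
      have h2 := pow_inj_of_lt_one w hw0 hw1 hk'
      have hm0 : m = 0 := by
        by_contra hne
        have : e ≤ e * m := Nat.le_mul_of_pos_right e (Nat.pos_of_ne_zero hne)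
        have := i'.2
        omega
      apply Fin.ext
      rw [← h2, hm0]; simp

end DVRExt

end Groth.Agent.Lib.helper4.ValExt
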